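import Mathlib
import Cfsg.Agent.Lib.Thompson.PSolvable
import Cfsg.Agent.Lib.Coprime.Action
import Cfsg.Agent.Lib.Fitting
import Cfsg.Agent.Lib.Fitting.Minimal
import Cfsg.Agent.Lib.PGroup.Basic

/-! Groups in which every maximal subgroup is `p`-nilpotent or of prime index. -/

set_option autoImplicit false

namespace Cfsg.Agent.FGS82

open Subgroup
open scoped commutatorElement

/-- every maximal subgroup has a normal `p`-complement or prime index -/
def MaxCond (p : ℕ) (G : Type*) [Group G] : Prop :=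
  ∀ M : Subgroup G, IsCoatom M →
    (∃ K : Subgroup ↥M, K.Normal ∧ ¬ p ∣ Nat.card K ∧ ∃ k : ℕ, K.index = p ^ k) ∨ (M.index).Prime

variable {p : ℕ} [Fact p.Prime] {G : Type*} [Group G] [Finite G]

theorem MaxCond.map {H : Type*} [Group H] [Finite H] (f : G →* H) (hf : Function.Surjective f)
    (h : MaxCond p G) : MaxCond p H := by
  intro M hM
  rcases h (M.comap f) (Subgroup.isCoatom_comap_of_surjective hf hM) with ⟨K, hK, hKp, k, hk⟩ | h'
  · left
    have hg : Function.Surjective (f.subgroupComap M) :=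
      MonoidHom.subgroupComap_surjective_of_surjective _ _ hf
    refine ⟨K.map (f.subgroupComap M), hK.map _ hg, fun hd => hKp ?_, ?_⟩
    · exact hd.trans (Subgroup.card_map_dvd _ _)
    · have := Subgroup.index_map_dvd K hg
      rw [hk] at this
      obtain ⟨j, -, hj⟩ := (Nat.dvd_prime_pow Fact.out).1 this
      exact ⟨j, hj⟩
  · right
    rwa [Subgroup.index_comap_of_surjective _ hf] at h'

theorem isPGroup_frattini (hO : Cfsg.pPrimeCore p G = ⊥) : IsPGroup p (frattini G) := by
  refine IsPGroup.of_card (n := (Nat.card (frattini G)).primeFactorsList.length)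
    (Nat.eq_prime_pow_of_unique_prime_dvd Nat.card_pos.ne' ?_)
  intro q hq hdvd
  by_contra hne
  haveI : Fact q.Prime := ⟨hq⟩
  haveI : Group.IsNilpotent (frattini G) := frattini_nilpotent
  let Q : Sylow q (frattini G) := Classical.arbitrary _
  haveI hQn : (Q : Subgroup (frattini G)).Normal :=
    Sylow.normal_of_normalizerCondition normalizerCondition_of_isNilpotent Q
  haveI : (Q : Subgroup (frattini G)).Characteristic := Sylow.characteristic_of_normal Q hQn
  set R := (Q : Subgroup (frattini G)).map (frattini G).subtype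
  haveI : R.Normal := ConjAct.normal_of_characteristic_of_normal
  have hR : (Nat.card R).Coprime p := by
    rw [Subgroup.card_map_of_injective (frattini G).subtype_injective]
    obtain ⟨n, hn⟩ := IsPGroup.iff_card.1 Q.isPGroup'
    rw [hn]
    exact Nat.Coprime.pow_left n ((Nat.coprime_primes hq Fact.out).2 hne)
  have hle := Thompson.le_pPrimeCore (inferInstance : R.Normal) hR
  rw [hO, le_bot_iff, Subgroup.map_eq_bot_iff_of_injective _ (frattini G).subtype_injective] at hle
  have := Q.dvd_card_of_dvd_card hdvd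
  rw [hle, Subgroup.card_bot] at this
  exact hq.not_dvd_one this

theorem pPrimeCore_quotient_frattini (hO : Cfsg.pPrimeCore p G = ⊥) :
    Cfsg.pPrimeCore p (G ⧸ frattini G) = ⊥ := by
  classical
  set π := QuotientGroup.mk' (frattini G)
  have hπ : Function.Surjective π := QuotientGroup.mk'_surjective _
  set K := (Cfsg.pPrimeCore p (G ⧸ frattini G)).comap π
  haveI : K.Normal := inferInstance
  have hle : frattini G ≤ K := fun x hx => by
    show π x ∈ Cfsg.pPrimeCore p (G ⧸ frattini G)
    rw [QuotientGroup.mk'_apply, (QuotientGroup.eq_one_iff x).2 hx]; exact one_mem _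
  have hcop : (Nat.card (frattini G)).Coprime ((frattini G).relIndex K) := by
    rw [Thompson.relIndex_eq_card_map_mk', Subgroup.map_comap_eq_self_of_surjective hπ]
    obtain ⟨n, hn⟩ := IsPGroup.iff_card.1 (isPGroup_frattini hO)
    rw [hn]
    exact Nat.Coprime.pow_left n Thompson.card_pPrimeCore_coprime.symm
  set N := (frattini G).subgroupOf K
  have hNc : Nat.card N = Nat.card (frattini G) :=
    Nat.card_congr (Subgroup.subgroupOfEquivOfLe hle).toEquiv
  obtain ⟨H₀, hH₀⟩ := Subgroup.exists_right_complement'_of_coprime (N := N) (by rw [hNc]; exact hcop)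
  set H := H₀.map K.subtype
  have hHc : Nat.card H = (frattini G).relIndex K := by
    rw [Subgroup.card_map_of_injective K.subtype_injective]
    exact hH₀.symm.index_eq_card.symm
  have hKle : K ≤ frattini G ⊔ H := by
    intro x hx
    have : (⟨x, hx⟩ : K) ∈ N ⊔ H₀ := by rw [hH₀.sup_eq_top]; exact mem_top _
    have h' := Subgroup.mem_map_of_mem K.subtype this
    rw [Subgroup.map_sup] at h'
    exact sup_le_sup (le_of_eq_of_le (Subgroup.subgroupOf_map_subtype _ _) inf_le_left) le_rfl h'
  have htop : ∀ x : G, x ∈ frattini G ⊔ normalizer (H : Set G) := by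
    intro x
    set A := H.map (MulAut.conj x).toMonoidHom
    have hAc : Nat.card A = Nat.card H :=
      Subgroup.card_map_of_injective (MulAut.conj x).injective
    obtain ⟨k, hk, hkA⟩ := Coprime.exists_conj_le_of_le_sup A (frattini G) H
      (fun a _ => by rw [normalizer_eq_top]; exact mem_top a)
      (fun a _ => by rw [normalizer_eq_top]; exact mem_top a)
      (by rw [hAc, hHc]; exact hcop.symm)
      (Or.inr (haveI : Group.IsNilpotent (frattini G) := frattini_nilpotent; inferInstance))
      (by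
        rintro _ ⟨h, hh, rfl⟩
        exact hKle ((inferInstance : K.Normal).conj_mem h (Subgroup.map_subtype_le H₀ hh) x))
    have hle' : H.map (MulAut.conj (k * x)).toMonoidHom ≤ H := by
      rintro _ ⟨h, hh, rfl⟩
      have := hkA _ ⟨h, hh, rfl⟩
      simpa [mul_assoc] using this
    have hn : k * x ∈ normalizer (H : Set G) := by
      have heq := Subgroup.eq_of_le_of_card_ge hle'
        (by rw [Subgroup.card_map_of_injective (K := H) (f := (MulAut.conj (k * x)).toMonoidHom) (MulAut.conj (k * x)).injective])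
      rw [Subgroup.mem_normalizer_iff]
      intro h
      constructor
      · intro hh
        rw [← heq]; exact ⟨h, hh, rfl⟩
      · intro hh
        rw [← heq] at hh
        obtain ⟨h', hh', he⟩ := hh
        rwa [← (MulAut.conj (k * x)).injective (a₁ := h') (a₂ := h) he]
    have := mul_mem (Subgroup.mem_sup_left (T := normalizer (H : Set G)) (inv_mem hk))
      (Subgroup.mem_sup_right (S := frattini G) hn)
    rwa [inv_mul_cancel_left] at this
  have hN : normalizer (H : Set G) = ⊤ :=
    frattini_nongenerating (by rw [sup_comm, eq_top_iff]; exact fun x _ => htop x)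
  haveI : H.Normal := normalizer_eq_top_iff.1 hN
  have hH := Thompson.le_pPrimeCore (p := p) (inferInstance : H.Normal) (by
    rw [hHc, Thompson.relIndex_eq_card_map_mk', Subgroup.map_comap_eq_self_of_surjective hπ]
    exact Thompson.card_pPrimeCore_coprime)
  rw [hO, le_bot_iff] at hH
  rw [hH, sup_bot_eq] at hKle
  rw [← Subgroup.map_comap_eq_self_of_surjective hπ (Cfsg.pPrimeCore p (G ⧸ frattini G)),
    Subgroup.map_eq_bot_iff, QuotientGroup.ker_mk']
  exact hKle

theorem chain_core (hs : Cfsg.IsPSolvable p G) (hO : Cfsg.pPrimeCore p G = ⊥)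
    (hΦ : frattini G = ⊥) (hc : MaxCond p G) :
    ∃ B C : Subgroup G, B.Normal ∧ C.Normal ∧ B ≤ C ∧ IsPGroup p B ∧ ¬ p ∣ B.relIndex C ∧
      ∃ k : ℕ, C.index = p ^ k := by
  have hp : p.Prime := Fact.out
  set R := Cfsg.pCore p G
  have hRp : IsPGroup p R := Thompson.isPGroup_pCore
  have hCR := Thompson.centralizer_pCore_le hs hO
  have hRab : ∀ a ∈ R, ∀ b ∈ R, a * b = b * a := by
    intro a ha b hb
    have h := Subgroup.mem_map_of_mem R.subtype (PGroup.comm_mem_frattini hRp ⟨a, ha⟩ ⟨b, hb⟩)
    have h' := Fitting.frattini_map_le R h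
    rw [hΦ, mem_bot] at h'
    exact commutatorElement_eq_one_iff_mul_comm.1 (by simpa [commutatorElement_def] using h')
  -- a complemented minimal normal subgroup inside `R`
  have hinf : ∀ (A M : Subgroup G), A.Normal → A ≤ R → A ⊔ M = ⊤ → (R ⊓ M).Normal := by
    intro A M hA hAR hAM
    rw [← normalizer_eq_top_iff, eq_top_iff, ← hAM, sup_le_iff]
    have key : ∀ g : G, (∀ x ∈ R ⊓ M, g * x * g⁻¹ ∈ R ⊓ M) → (∀ x ∈ R ⊓ M, g⁻¹ * x * g ∈ R ⊓ M) →
        g ∈ normalizer ((R ⊓ M : Subgroup G) : Set G) := fun g h1 h2 =>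
      mem_normalizer_iff.2 fun x => ⟨h1 x, fun h => by simpa [mul_assoc] using h2 _ h⟩
    constructor
    · intro g hg
      refine key g (fun x hx => ?_) (fun x hx => ?_)
      · rw [hRab g (hAR hg) x hx.1, mul_inv_cancel_right]; exact hx
      · rw [mul_assoc, hRab x hx.1 g (hAR hg), inv_mul_cancel_left]; exact hx
    · intro g hg
      refine key g (fun x hx => Subgroup.mem_inf.2 ⟨?_, mul_mem (mul_mem hg hx.2) (inv_mem hg)⟩)
        (fun x hx => Subgroup.mem_inf.2 ⟨?_, mul_mem (mul_mem (inv_mem hg) hx.2) hg⟩)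
      · exact (inferInstance : R.Normal).conj_mem x hx.1 g
      · simpa using (inferInstance : R.Normal).conj_mem x hx.1 g⁻¹
  have hcompl : ∀ N : Subgroup G, Fitting.IsMinNormal N → N ≤ R →
      ∃ M : Subgroup G, IsCoatom M ∧ ¬ N ≤ M ∧ N ⊔ M = ⊤ ∧ M.index = Nat.card N := by
    intro N hN hNR
    have : ¬ ∀ M : Subgroup G, IsCoatom M → N ≤ M := fun h => hN.2.1 (le_bot_iff.1 (by
      rw [← hΦ]; exact le_iInf fun M => le_iInf fun hM => h M hM))
    push Not at this
    obtain ⟨M, hM, hNM⟩ := this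
    haveI := hN.1
    have hsup : N ⊔ M = ⊤ := hM.2 _ (lt_of_le_of_ne le_sup_right fun h => hNM (h ▸ le_sup_left))
    have hd : N ⊓ M = ⊥ := by
      haveI := hinf N M hN.1 hNR hsup
      have hn : (N ⊓ M).Normal := by
        rw [show N ⊓ M = N ⊓ (R ⊓ M) by rw [← inf_assoc, inf_eq_left.2 hNR]]
        infer_instance
      exact (hN.2.2 _ hn inf_le_left).resolve_right fun h => hNM (h ▸ inf_le_right)
    refine ⟨M, hM, hNM, hsup, (Subgroup.IsComplement'.index_eq_card ?_)⟩
    exact isComplement'_of_disjoint_and_mul_eq_univ (disjoint_iff.2 hd)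
      (by rw [← Subgroup.normal_mul, hsup, coe_top])
  by_cases hA : ∃ N M : Subgroup G, Fitting.IsMinNormal N ∧ N ≤ R ∧ N ⊔ M = ⊤ ∧
      M.index = Nat.card N ∧ ∃ K : Subgroup ↥M, K.Normal ∧ ¬ p ∣ Nat.card K ∧ ∃ k : ℕ, K.index = p ^ k
  · obtain ⟨N, M, hN, hNR, hsup, hidx, K, hK, hKp, k, hk⟩ := hA
    haveI := hN.1
    set K₀ := K.map M.subtype
    have hC : (N ⊔ K₀).Normal := by
      rw [← normalizer_eq_top_iff, eq_top_iff, ← hsup, sup_le_iff]
      refine ⟨le_sup_left.trans le_normalizer, fun g hg => ?_⟩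
      have hmap : ∀ g ∈ M, ∀ x ∈ N ⊔ K₀, g * x * g⁻¹ ∈ N ⊔ K₀ := fun g hg x hx => by
        have hx' : x ∈ ((N ⊔ K₀ : Subgroup G) : Set G) := hx
        rw [Subgroup.normal_mul] at hx'
        obtain ⟨n, hn, c, hc', rfl⟩ := Set.mem_mul.1 hx'
        obtain ⟨c, hcK, rfl⟩ := hc'
        have := mul_mem (Subgroup.mem_sup_left (T := K₀) (hN.1.conj_mem n hn g))
          (Subgroup.mem_sup_right (S := N) ⟨_, hK.conj_mem c hcK ⟨g, hg⟩, rfl⟩)
        simpa [mul_assoc] using this
      exact mem_normalizer_iff.2 fun x => ⟨hmap g hg x, fun h => by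
        simpa [mul_assoc] using hmap g⁻¹ (inv_mem hg) _ h⟩
    refine ⟨N, N ⊔ K₀, hN.1, hC, le_sup_left, hRp.to_le hNR, fun hd => hKp ?_, ?_⟩
    · rw [sup_comm, Subgroup.relIndex_sup_right] at hd
      refine hd.trans ?_
      rw [← Subgroup.card_map_of_injective (K := K) M.subtype_injective]
      exact Subgroup.index_dvd_card _
    · obtain ⟨n, hn⟩ := IsPGroup.iff_card.1 (hRp.to_le hNR)
      have h1 : (N ⊔ K₀).index ∣ p ^ (k + n) := by
        rw [pow_add, ← hk, ← hn, ← hidx, ← Subgroup.index_map_subtype]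
        exact Subgroup.index_dvd_of_le le_sup_right
      obtain ⟨j, -, hj⟩ := (Nat.dvd_prime_pow hp).1 h1
      exact ⟨j, hj⟩
  · push Not at hA
    have hprime : ∀ N : Subgroup G, Fitting.IsMinNormal N → N ≤ R → Nat.card N = p := by
      intro N hN hNR
      obtain ⟨M, hM, -, hsup, hidx⟩ := hcompl N hN hNR
      rcases hc M hM with ⟨K, hK, hKp, k, hk⟩ | hpr
      · exact absurd hk (hA N M hN hNR hsup hidx K hK hKp k)
      · rw [hidx] at hpr
        obtain ⟨n, hn⟩ := IsPGroup.iff_card.1 (hRp.to_le hNR)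
        rw [hn] at hpr ⊢
        rw [Nat.Prime.eq_one_of_pow hpr, pow_one]
    set K : Subgroup G := ⨅ N : {N : Subgroup G // Fitting.IsMinNormal N ∧ N ≤ R},
      centralizer (N.1 : Set G) with hKdef
    have hKn : ∀ x ∈ K, ∀ g : G, g * x * g⁻¹ ∈ K := by
      intro x hx g
      rw [hKdef, mem_iInf] at hx ⊢
      intro N
      haveI := N.2.1.1
      exact (inferInstance : (centralizer (N.1 : Set G)).Normal).conj_mem x (hx N) g
    have hKR : K ≤ R := by
      refine le_trans ?_ hCR
      intro k hk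
      rw [mem_centralizer_iff]
      intro r hr
      by_contra hne
      haveI : K.Normal := ⟨fun x hx g => hKn x hx g⟩
      have hU : ⁅R, K⁆ ≠ ⊥ := fun h => hne (commutatorElement_eq_one_iff_mul_comm.1
        (by rw [← mem_bot (G := G), ← h]; exact commutator_mem_commutator hr hk))
      obtain ⟨N, hN, hNU⟩ := Fitting.exists_isMinNormal_le (inferInstance : ⁅R, K⁆.Normal) hU
      have hNR : N ≤ R := hNU.trans (commutator_le_left R K)
      obtain ⟨M, -, hNM, hsup, -⟩ := hcompl N hN hNR
      haveI := hN.1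
      haveI := hinf N M hN.1 hNR hsup
      refine hNM (hNU.trans ?_ |>.trans (inf_le_right : R ⊓ M ≤ M))
      rw [commutator_le]
      intro a ha b hb
      have ha' : a ∈ ((N ⊔ M : Subgroup G) : Set G) := by rw [hsup]; exact mem_top _
      rw [Subgroup.normal_mul] at ha'
      obtain ⟨n, hn, m, hm, rfl⟩ := Set.mem_mul.1 ha'
      have hmR : m ∈ R ⊓ M := ⟨by simpa using mul_mem (inv_mem (hNR hn)) ha, hm⟩
      have hbn : b * n = n * b := ((mem_centralizer_iff.1 (mem_iInf.1 hb ⟨N, hN, hNR⟩)) n hn).symm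
      have hmb : m * b * m⁻¹ * b⁻¹ ∈ R ⊓ M := by
        have := mul_mem hmR ((inferInstance : (R ⊓ M).Normal).conj_mem _ (inv_mem hmR) b)
        simpa [mul_assoc] using this
      have e : ⁅n * m, b⁆ = m * b * m⁻¹ * b⁻¹ := by
        have hc' : Commute n (m * b * m⁻¹ * b⁻¹) := hRab n (hNR hn) _ hmb.1
        rw [commutatorElement_def]
        calc n * m * b * (n * m)⁻¹ * b⁻¹ = n * (m * b * m⁻¹ * b⁻¹) * (b * n⁻¹ * b⁻¹) := by group
          _ = n * (m * b * m⁻¹ * b⁻¹) * n⁻¹ := by
            rw [show b * n⁻¹ = n⁻¹ * b from ((show Commute b n from hbn).inv_right).eq,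
              mul_inv_cancel_right]
          _ = m * b * m⁻¹ * b⁻¹ := by rw [hc'.eq, mul_inv_cancel_right]
      rw [e]; exact hmb
    refine ⟨R, ⊤, inferInstance, inferInstance, le_top, hRp, ?_, 0, by simp⟩
    rw [relIndex_top_right]
    intro hdvd
    obtain ⟨y, hy⟩ := exists_prime_orderOf_dvd_card' (G := G ⧸ R) p hdvd
    obtain ⟨x, rfl⟩ := QuotientGroup.mk_surjective y
    have hx : x ^ (p - 1) ∈ K := by
      rw [hKdef, mem_iInf]
      intro N
      haveI := N.2.1.1
      have hN := hprime N.1 N.2.1 N.2.2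
      rw [mem_centralizer_iff]
      intro n hn
      by_cases h1 : n = 1
      · simp [h1]
      have hord : orderOf n = p := by
        refine orderOf_eq_prime ?_ h1
        rw [← hN]
        exact congrArg Subtype.val (pow_card_eq_one' (x := (⟨n, hn⟩ : N.1)))
      have hz : zpowers n = N.1 := eq_of_le_of_card_ge (zpowers_le.2 hn)
        (by rw [Nat.card_zpowers, hord, hN])
      obtain ⟨t, ht⟩ : ∃ t : ℕ, n ^ t = x * n * x⁻¹ := by
        have : x * n * x⁻¹ ∈ zpowers n := by
          rw [hz]; exact (inferInstance : N.1.Normal).conj_mem n hn x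
        rw [← mem_powers_iff_mem_zpowers] at this
        exact this
      have hpow : ∀ i : ℕ, x ^ i * n * (x ^ i)⁻¹ = n ^ t ^ i := by
        intro i
        induction i with
        | zero => simp
        | succ i ih =>
          calc x ^ (i + 1) * n * (x ^ (i + 1))⁻¹ = x * (x ^ i * n * (x ^ i)⁻¹) * x⁻¹ := by
                rw [pow_succ']; group
            _ = (x * n * x⁻¹) ^ (t ^ i) := by rw [ih, conj_pow]
            _ = n ^ t ^ (i + 1) := by rw [← ht, ← pow_mul, ← pow_succ']
      have hcop : Nat.Coprime t p := by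
        rw [Nat.coprime_comm, hp.coprime_iff_not_dvd]
        rintro ⟨c, rfl⟩
        rw [pow_mul, ← hord, pow_orderOf_eq_one, one_pow] at ht
        exact h1 (conj_eq_one_iff.1 ht.symm)
      have h2 := hpow (p - 1)
      have hmod : t ^ (p - 1) % p = 1 % p := by
        have := Nat.ModEq.pow_totient hcop
        rwa [Nat.totient_prime hp] at this
      rw [← pow_mod_orderOf n, hord, hmod, Nat.one_mod_eq_one.2 hp.ne_one, pow_one] at h2
      exact (mul_inv_eq_iff_eq_mul.1 h2).symm
    have h := hKR hx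
    rw [← QuotientGroup.eq_one_iff, QuotientGroup.mk_pow] at h
    have hd := orderOf_dvd_of_pow_eq_one h
    rw [hy] at hd
    have h2 := hp.two_le
    have := Nat.le_of_dvd (by omega) hd
    omega

/-- the chain of length two -/
theorem exists_chain (hs : Cfsg.IsPSolvable p G) (hc : MaxCond p G) :
    ∃ A B C : Subgroup G, A.Normal ∧ B.Normal ∧ C.Normal ∧ A ≤ B ∧ B ≤ C ∧ ¬ p ∣ Nat.card A ∧
      (∃ k : ℕ, A.relIndex B = p ^ k) ∧ ¬ p ∣ B.relIndex C ∧ ∃ k : ℕ, C.index = p ^ k := by
  set A := Cfsg.pPrimeCore p G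
  set π := QuotientGroup.mk' A
  have hπ : Function.Surjective π := QuotientGroup.mk'_surjective _
  have hOX : Cfsg.pPrimeCore p (G ⧸ A) = ⊥ := Thompson.pPrimeCore_quotient_pPrimeCore
  set π₂ := QuotientGroup.mk' (frattini (G ⧸ A))
  have hπ₂ : Function.Surjective π₂ := QuotientGroup.mk'_surjective _
  have hΦ : frattini ((G ⧸ A) ⧸ frattini (G ⧸ A)) = ⊥ := by
    have h := frattini_le_comap_frattini_of_surjective hπ₂
    refine eq_bot_iff.2 fun y hy => ?_
    obtain ⟨x, rfl⟩ := hπ₂ y
    have hle : (frattini ((G ⧸ A) ⧸ frattini (G ⧸ A))).comap π₂ ≤ frattini (G ⧸ A) := by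
      refine le_iInf fun M => le_iInf fun hM => ?_
      have hker : π₂.ker ≤ M := by rw [QuotientGroup.ker_mk']; exact frattini_le_coatom hM
      have hco : IsCoatom (M.map π₂) := by
        refine ⟨fun h => hM.1 ?_, fun N hN => ?_⟩
        · rw [← Subgroup.comap_map_eq_self hker, h, Subgroup.comap_top]
        · have hlt : M < N.comap π₂ := by
            rw [← Subgroup.comap_map_eq_self hker]
            exact (Subgroup.comap_lt_comap_of_surjective hπ₂).2 hN
          rw [← Subgroup.map_comap_eq_self_of_surjective hπ₂ N, hM.2 _ hlt,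
            Subgroup.map_top_of_surjective _ hπ₂]
      calc (frattini ((G ⧸ A) ⧸ frattini (G ⧸ A))).comap π₂ ≤ (M.map π₂).comap π₂ :=
            Subgroup.comap_mono (frattini_le_coatom hco)
        _ = M := Subgroup.comap_map_eq_self hker
    rw [mem_bot, QuotientGroup.mk'_apply, QuotientGroup.eq_one_iff]
    exact hle hy
  obtain ⟨B, C, hB, hC, hBC, hBp, hBCp, k, hk⟩ := chain_core
    (Thompson.isPSolvable_quotient _ (Thompson.isPSolvable_quotient A hs))
    (pPrimeCore_quotient_frattini hOX) hΦ ((hc.map π hπ).map π₂ hπ₂)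
  refine ⟨A, (B.comap π₂).comap π, (C.comap π₂).comap π, inferInstance, (hB.comap _).comap _,
    (hC.comap _).comap _, fun x hx => ?_, Subgroup.comap_mono (Subgroup.comap_mono hBC),
    ?_, ?_, ?_, k, ?_⟩
  · show π₂ (π x) ∈ B
    rw [show π x = 1 from (QuotientGroup.eq_one_iff x).2 hx, map_one]; exact one_mem _
  · exact ((Fact.out : p.Prime).coprime_iff_not_dvd).1 Thompson.card_pPrimeCore_coprime.symm
  · rw [Thompson.relIndex_eq_card_map_mk', Subgroup.map_comap_eq_self_of_surjective hπ]
    exact IsPGroup.iff_card.1 (hBp.comap_of_ker_isPGroup _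
      (by rw [QuotientGroup.ker_mk']; exact isPGroup_frattini hOX))
  · rwa [Subgroup.relIndex_comap, Subgroup.map_comap_eq_self_of_surjective hπ,
      Subgroup.relIndex_comap, Subgroup.map_comap_eq_self_of_surjective hπ₂]
  · rw [Subgroup.index_comap_of_surjective _ hπ, Subgroup.index_comap_of_surjective _ hπ₂, hk]

end Cfsg.Agent.FGS82
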