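import Mathlib
import Cfsg.Prelude.Def_CaseTheorems
import Cfsg.Agent.Lib.PGroup.Basic
import Cfsg.Agent.TwoFusion36.Basic

/-!
2-groups of maximal class: the standard form, Taussky's theorem, and the step through a maximal
subgroup for groups of sectional rank at most two.
-/

set_option autoImplicit false

namespace Cfsg.Agent.FGS82

open scoped commutatorElement
open Subgroup

variable {S : Type*} [Group S]

/-- standard form of a 2-group of maximal class -/
def MC (S : Type*) [Group S] : Prop :=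
  ∃ (a b : S) (k : ℕ) (j : ℤ), 2 ≤ k ∧ orderOf a = 2 ^ k ∧ Nat.card S = 2 ^ (k + 1) ∧
    b ∉ zpowers a ∧ b * a * b⁻¹ = a ^ j ∧ j % 4 = 3

theorem commutator_le_of_closure {N : Subgroup S} [N.Normal] {s : Set S} (hs : closure s = ⊤)
    (h : ∀ x ∈ s, ∀ y ∈ s, ⁅x, y⁆ ∈ N) : commutator S ≤ N := by
  have key : ∀ x ∈ s, ∀ y ∈ s, QuotientGroup.mk' N x * QuotientGroup.mk' N y =
      QuotientGroup.mk' N y * QuotientGroup.mk' N x := by
    intro x hx y hy
    have := (QuotientGroup.eq_one_iff _).2 (h x hx y hy)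
    rw [← QuotientGroup.mk'_apply, map_commutatorElement, commutatorElement_eq_one_iff_mul_comm]
      at this
    exact this
  refine Subgroup.Normal.quotient_commutative_iff_commutator_le.1 ⟨⟨?_⟩⟩
  have h1 : ∀ (g : S), ∀ x ∈ s, QuotientGroup.mk' N g * QuotientGroup.mk' N x =
      QuotientGroup.mk' N x * QuotientGroup.mk' N g := by
    intro g x hx
    have hle : closure s ≤ (centralizer ({QuotientGroup.mk' N x} : Set (S ⧸ N))).comap
        (QuotientGroup.mk' N) := by
      rw [closure_le]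
      intro y hy
      rw [SetLike.mem_coe, mem_comap, mem_centralizer_singleton_iff]
      exact key y hy x hx
    have := hle (hs ▸ mem_top g)
    rw [mem_comap, mem_centralizer_singleton_iff] at this
    exact this
  intro u v
  obtain ⟨u, rfl⟩ := QuotientGroup.mk'_surjective N u
  obtain ⟨v, rfl⟩ := QuotientGroup.mk'_surjective N v
  have hle : closure s ≤ (centralizer ({QuotientGroup.mk' N v} : Set (S ⧸ N))).comap
      (QuotientGroup.mk' N) := by
    rw [closure_le]
    intro y hy
    rw [SetLike.mem_coe, mem_comap, mem_centralizer_singleton_iff]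
    exact (h1 v y hy).symm
  have := hle (hs ▸ mem_top u)
  rw [mem_comap, mem_centralizer_singleton_iff] at this
  exact this

variable [Finite S]

theorem index_zpowers_eq_two {a : S} {k : ℕ} (ha : orderOf a = 2 ^ k)
    (hc : Nat.card S = 2 ^ (k + 1)) : (zpowers a).index = 2 := by
  have h := (zpowers a).card_mul_index
  rw [Nat.card_zpowers, ha, hc, pow_succ] at h
  exact Nat.eq_of_mul_eq_mul_left (by positivity) h

theorem closure_pair_eq_top {a b : S} (hi : (zpowers a).index = 2) (hb : b ∉ zpowers a) :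
    closure {a, b} = ⊤ := by
  refine (eq_top_iff' _).2 fun x => ?_
  have ha : zpowers a ≤ closure {a, b} := zpowers_le.2 (subset_closure (Set.mem_insert a _))
  by_cases hx : x ∈ zpowers a
  · exact ha hx
  · have h1 : x * b⁻¹ ∈ zpowers a :=
      (mul_mem_iff_of_index_two hi).2 (iff_of_false hx (fun h => hb (by simpa using inv_mem h)))
    have h2 : x = x * b⁻¹ * b := (inv_mul_cancel_right x b).symm
    rw [h2]
    exact mul_mem (ha h1) (subset_closure (Set.mem_insert_of_mem a rfl))

theorem mem_cases {a b : S} (hi : (zpowers a).index = 2) (hb : b ∉ zpowers a) (x : S) :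
    ∃ i : ℤ, x = a ^ i ∨ x = a ^ i * b := by
  by_cases hx : x ∈ zpowers a
  · obtain ⟨i, hi⟩ := mem_zpowers_iff.1 hx
    exact ⟨i, Or.inl hi.symm⟩
  · have h1 : x * b⁻¹ ∈ zpowers a :=
      (mul_mem_iff_of_index_two hi).2 (iff_of_false hx (fun h => hb (by simpa using inv_mem h)))
    obtain ⟨i, hi⟩ := mem_zpowers_iff.1 h1
    exact ⟨i, Or.inr (by rw [hi, inv_mul_cancel_right])⟩

omit [Finite S] in
theorem comm_eq_zpow {a b : S} {j : ℤ} (hj : b * a * b⁻¹ = a ^ j) : ⁅b, a⁆ = a ^ (j - 1) := by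
  rw [commutatorElement_def, hj, zpow_sub_one]

theorem commutator_le_zpowers {a b : S} {j : ℤ} {m : ℤ} (hi : (zpowers a).index = 2)
    (hb : b ∉ zpowers a) (hj : b * a * b⁻¹ = a ^ j) (hm : m ∣ j - 1) :
    commutator S ≤ zpowers (a ^ m) := by
  have hn : (zpowers (a ^ m)).Normal := by
    refine ⟨fun n hn g => ?_⟩
    obtain ⟨l, rfl⟩ := mem_zpowers_iff.1 hn
    obtain ⟨i, rfl | rfl⟩ := mem_cases hi hb g
    · rw [← zpow_mul, ← zpow_neg, ← zpow_add, ← zpow_add]
      refine mem_zpowers_iff.2 ⟨l, ?_⟩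
      rw [← zpow_mul]; congr 1; ring
    · have e : a ^ i * b * (a ^ m) ^ l * (a ^ i * b)⁻¹ = a ^ i * (b * a * b⁻¹) ^ (m * l) * (a ^ i)⁻¹ := by
        rw [conj_zpow, ← zpow_mul]; group
      rw [e, hj, ← zpow_mul, ← zpow_neg, ← zpow_add, ← zpow_add]
      refine mem_zpowers_iff.2 ⟨j * l, ?_⟩
      rw [← zpow_mul]; congr 1; ring
  haveI := hn
  obtain ⟨c, hc⟩ := hm
  have hba : ⁅b, a⁆ ∈ zpowers (a ^ m) :=
    mem_zpowers_iff.2 ⟨c, by rw [comm_eq_zpow hj, hc, zpow_mul]⟩
  refine commutator_le_of_closure (closure_pair_eq_top hi hb) ?_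
  rintro x (rfl | rfl) y (rfl | rfl)
  · simp
  · rw [← commutatorElement_inv]; exact inv_mem hba
  · exact hba
  · simp

omit [Finite S] in
theorem isCoprime_two_pow {u : ℤ} (hu : u % 2 = 1) (k : ℕ) : IsCoprime u ((2 : ℤ) ^ k) := by
  refine IsCoprime.pow_right ?_
  exact ⟨1, -(u / 2), by omega⟩

theorem card_zpowers_sq {a : S} {k : ℕ} (hk : 1 ≤ k) (ha : orderOf a = 2 ^ k) :
    Nat.card (zpowers (a ^ (2 : ℤ))) = 2 ^ (k - 1) := by
  rw [Nat.card_zpowers, show (2 : ℤ) = ((2 : ℕ) : ℤ) from rfl, zpow_natCast,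
    orderOf_pow_of_dvd two_ne_zero (ha ▸ dvd_pow_self 2 (by omega)), ha]
  obtain ⟨l, rfl⟩ := Nat.exists_eq_add_of_le hk
  rw [add_comm 1 l, pow_succ, Nat.mul_div_cancel _ two_pos, Nat.add_sub_cancel]

theorem MC.commutator_eq {a b : S} {k : ℕ} {j : ℤ} (ha : orderOf a = 2 ^ k)
    (hc : Nat.card S = 2 ^ (k + 1)) (hb : b ∉ zpowers a) (hj : b * a * b⁻¹ = a ^ j) (hj4 : j % 4 = 3) :
    commutator S = zpowers (a ^ (2 : ℤ)) := by
  refine le_antisymm (commutator_le_zpowers (index_zpowers_eq_two ha hc) hb hj (by omega)) ?_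
  rw [zpowers_le]
  have hmem : a ^ (j - 1) ∈ commutator S := comm_eq_zpow hj ▸
    commutator_mem_commutator (mem_top b) (mem_top a)
  obtain ⟨x, y, hxy⟩ := isCoprime_two_pow (u := (j - 1) / 2) (by omega) k
  have e : a ^ (2 : ℤ) = (a ^ (j - 1)) ^ x := by
    have hjj : j - 1 = 2 * ((j - 1) / 2) := by omega
    have h0 : a ^ ((2 : ℤ) ^ k) = 1 := by
      rw [show ((2 : ℤ) ^ k) = ((2 ^ k : ℕ) : ℤ) by push_cast; ring, zpow_natCast, ← ha, pow_orderOf_eq_one]
    rw [← zpow_mul, hjj]
    calc a ^ (2 : ℤ) = a ^ (2 * ((j - 1) / 2) * x + (2 : ℤ) ^ k * (2 * y)) := by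
          congr 1; linear_combination (-2 : ℤ) * hxy
      _ = a ^ (2 * ((j - 1) / 2) * x) := by rw [zpow_add, zpow_mul a ((2 : ℤ) ^ k), h0, one_zpow, mul_one]
  rw [e]
  exact zpow_mem hmem x

theorem MC.index_commutator (h : MC S) : (commutator S).index = 4 := by
  obtain ⟨a, b, k, j, hk, ha, hc, hb, hj, hj4⟩ := h
  have h1 := (commutator S).card_mul_index
  rw [MC.commutator_eq ha hc hb hj hj4] at h1 ⊢
  rw [card_zpowers_sq (by omega) ha, hc, show k + 1 = (k - 1) + 2 by omega, pow_add] at h1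
  exact Nat.eq_of_mul_eq_mul_left (by positivity) h1

/-- the shapes of the maximal class groups -/
theorem MC.shapes (h : MC S) :
    (∃ k : ℕ, Nonempty (S ≃* DihedralGroup (2 ^ (k + 2)))) ∨
      (∃ k : ℕ, Nat.card S = 2 ^ (k + 4) ∧ ∃ a b : S, orderOf a = 2 ^ (k + 3) ∧ orderOf b = 2 ∧
        b * a * b⁻¹ = a ^ (2 ^ (k + 2) - 1)) ∨
      (∃ k : ℕ, Nonempty (S ≃* QuaternionGroup (2 ^ (k + 1)))) := by
  obtain ⟨a, b, k, j, hk, ha, hc, hb, hj, hj4⟩ := h
  obtain ⟨l, rfl⟩ := Nat.exists_eq_add_of_le hk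
  have hi := index_zpowers_eq_two ha hc
  have haz : ∀ x y : ℤ, a ^ x = a ^ y ↔ (2 : ℤ) ^ (2 + l) ∣ x - y := fun x y => by
    rw [zpow_eq_zpow_iff_modEq, ha, Int.modEq_comm, Int.modEq_iff_dvd]
    push_cast; rfl
  have hbb : b * b ∈ zpowers a := (mul_mem_iff_of_index_two hi).2 (Iff.rfl)
  obtain ⟨m, hm⟩ := mem_zpowers_iff.1 hbb
  have hconj : ∀ x : ℤ, b * a ^ x * b⁻¹ = a ^ (j * x) := fun x => by
    rw [← conj_zpow, hj, ← zpow_mul]
  have hj2 : (2 : ℤ) ^ (2 + l) ∣ j * j - 1 := by
    rw [← haz, ← hconj j, ← hj, zpow_one]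
    have e : b * (b * a * b⁻¹) * b⁻¹ = b * b * a * (b * b)⁻¹ := by group
    rw [e, ← hm]; group
  have hjm : (2 : ℤ) ^ (2 + l) ∣ j * m - m := by
    rw [← haz, ← hconj m, hm]; group
  -- j is -1 or -1 + half the order
  obtain ⟨u, hu⟩ : ∃ u : ℤ, j + 1 = (2 : ℤ) ^ (1 + l) * u := by
    have h2 : (2 : ℤ) ^ (2 + l) ∣ 2 * ((j + 1) * ((j - 1) / 2)) := by
      have : j * j - 1 = 2 * ((j + 1) * ((j - 1) / 2)) := by
        have hh : j - 1 = 2 * ((j - 1) / 2) := by omega
        calc j * j - 1 = (j + 1) * (j - 1) := by ring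
          _ = (j + 1) * (2 * ((j - 1) / 2)) := by rw [← hh]
          _ = _ := by ring
      rwa [← this]
    rw [show (2 : ℤ) ^ (2 + l) = 2 * 2 ^ (1 + l) by rw [← pow_succ']; congr 1; omega,
      mul_dvd_mul_iff_left (two_ne_zero)] at h2
    exact (isCoprime_two_pow (u := (j - 1) / 2) (by omega) (1 + l)).symm.dvd_of_dvd_mul_right h2
  rcases Int.even_or_odd u with ⟨v, hv⟩ | ⟨v, hv⟩
  · -- dihedral or quaternion
    have hab : b * a * b⁻¹ = a⁻¹ := by
      rw [hj, ← zpow_neg_one, haz]
      exact ⟨v, by rw [sub_neg_eq_add, hu, hv, show 2 + l = 1 + l + 1 by omega, pow_succ]; ring⟩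
    obtain ⟨w, hw⟩ : (2 : ℤ) ^ (1 + l) ∣ m := by
      have h2 : (2 : ℤ) ^ (2 + l) ∣ 2 * m := by
        have h4 : (2 : ℤ) ^ (2 + l) ∣ (j + 1) * m :=
          Dvd.dvd.mul_right ⟨v, by rw [hu, hv, show 2 + l = 1 + l + 1 by omega, pow_succ]; ring⟩ m
        have h5 := dvd_sub h4 hjm
        rwa [show (j + 1) * m - (j * m - m) = 2 * m by ring] at h5
      rw [show (2 : ℤ) ^ (2 + l) = 2 * 2 ^ (1 + l) by rw [← pow_succ']; congr 1; omega,
        mul_dvd_mul_iff_left (two_ne_zero)] at h2
      exact h2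
    have hbn : ∀ x : ℤ, b ≠ a ^ x := fun x hx => hb (hx ▸ zpow_mem (mem_zpowers a) x)
    have htop : ∀ v : S, v ∈ (⊤ : Subgroup S) ↔ ∃ x : ℤ, v = a ^ x ∨ v = b * a ^ x := by
      intro v
      refine ⟨fun _ => ?_, fun _ => mem_top v⟩
      obtain ⟨i, rfl | rfl⟩ := mem_cases hi hb v
      · exact ⟨i, Or.inl rfl⟩
      · exact ⟨-i, Or.inr (by rw [Cfsg.Agent.TwoFusion36.conj_zpow_inv hab, neg_neg])⟩
    rcases Int.even_or_odd w with ⟨x, hx⟩ | ⟨x, hx⟩
    · left
      refine ⟨l, ?_⟩
      have hb2 : b * b = 1 := by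
        rw [← hm, ← zpow_zero a, haz]
        exact ⟨x, by rw [hw, hx, show 2 + l = 1 + l + 1 by omega, pow_succ]; ring⟩
      obtain ⟨e⟩ := Cfsg.Agent.TwoFusion36.nonempty_equiv_dihedral (m := 2 ^ (l + 2)) a b
        (by rw [ha, add_comm]) hb2 hab hbn ⊤ htop
      exact ⟨Subgroup.topEquiv.symm.trans e⟩
    · right; right
      refine ⟨l, ?_⟩
      have hb2 : b * b = a ^ (2 ^ (l + 1)) := by
        rw [← hm, ← zpow_natCast, haz]
        exact ⟨x, by push_cast; rw [hw, hx, add_comm l 1, show 2 + l = 1 + l + 1 by omega, pow_succ]; ring⟩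
      obtain ⟨e⟩ := Cfsg.Agent.TwoFusion36.nonempty_equiv_quaternion (m := 2 ^ (l + 1)) a b
        (by rw [ha, ← pow_succ']; congr 1; omega) hb2 hab hbn ⊤ htop
      exact ⟨Subgroup.topEquiv.symm.trans e⟩
  · -- semidihedral
    obtain ⟨n, rfl⟩ : ∃ n, l = n + 1 := by
      refine ⟨l - 1, ?_⟩
      by_contra hl
      obtain rfl : l = 0 := by omega
      simp at hu
      omega
    right; left
    have hjv : (2 : ℤ) ^ (2 + (n + 1)) ∣ j - ((2 : ℤ) ^ (n + 2) - 1) :=
      ⟨v, by rw [show j - ((2 : ℤ) ^ (n + 2) - 1) = (j + 1) - 2 ^ (n + 2) by ring, hu, hv,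
        show 1 + (n + 1) = n + 2 by omega, show 2 + (n + 1) = n + 2 + 1 by omega, pow_succ]; ring⟩
    have hpow : b * a * b⁻¹ = a ^ (2 ^ (n + 2) - 1) := by
      rw [hj, ← zpow_natCast, haz, Nat.cast_sub Nat.one_le_two_pow]
      push_cast
      exact hjv
    obtain ⟨w, hw⟩ : (2 : ℤ) ^ (n + 2) ∣ m := by
      have h2 : (2 : ℤ) ^ (2 + (n + 1)) ∣ ((2 : ℤ) ^ (n + 2) - 2) * m := by
        have h5 := dvd_sub hjm (Dvd.dvd.mul_right hjv m)
        rwa [show j * m - m - (j - ((2 : ℤ) ^ (n + 2) - 1)) * m = ((2 : ℤ) ^ (n + 2) - 2) * m by ring] at h5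
      have h3 : ((2 : ℤ) ^ (n + 2) - 2) * m = 2 * (((2 : ℤ) ^ (n + 1) - 1) * m) := by ring
      rw [h3, show (2 : ℤ) ^ (2 + (n + 1)) = 2 * 2 ^ (n + 2) by rw [← pow_succ']; congr 1; omega,
        mul_dvd_mul_iff_left (two_ne_zero)] at h2
      refine (isCoprime_two_pow ?_ (n + 2)).symm.dvd_of_dvd_mul_left h2
      have : (2 : ℤ) ^ (n + 1) = 2 * 2 ^ n := by rw [pow_succ]; ring
      omega
    refine ⟨n, by rw [hc]; congr 1; omega, a, ?_⟩
    have hord : orderOf a = 2 ^ (n + 3) := by rw [ha]; congr 1; omega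
    haveI : Fact (Nat.Prime 2) := ⟨Nat.prime_two⟩
    rcases Int.even_or_odd w with ⟨x, hx⟩ | ⟨x, hx⟩
    · refine ⟨b, hord, orderOf_eq_prime ?_ (fun h => hb (h ▸ one_mem _)), hpow⟩
      rw [pow_two, ← hm, ← zpow_zero a, haz]
      exact ⟨x, by rw [hw, hx, show 2 + (n + 1) = n + 2 + 1 by omega, pow_succ]; ring⟩
    · refine ⟨a * b, hord, orderOf_eq_prime ?_ (fun h => hb ?_), ?_⟩
      · have e : (a * b) ^ 2 = a * (b * a * b⁻¹) * (b * b) := by rw [pow_two]; group
        rw [e, hj, ← hm, ← zpow_one_add, ← zpow_add, ← zpow_zero a, haz]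
        exact ⟨v + x + 1, by
          rw [sub_zero, show 1 + j = j + 1 by ring, hu, hw, hx, hv,
            show 1 + (n + 1) = n + 2 by omega, show 2 + (n + 1) = n + 2 + 1 by omega, pow_succ]
          ring⟩
      · rw [eq_inv_of_mul_eq_one_right h]; exact inv_mem (mem_zpowers a)
      · have e : a * b * a * (a * b)⁻¹ = a * (b * a * b⁻¹) * a⁻¹ := by group
        rw [e, hpow]; group

/-- a group with a cyclic subgroup of index two and derived subgroup of index four -/
theorem mc_of_cyclic (hS : IsPGroup 2 S) (hab : (commutator S).index = 4) {c : S}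
    (hi : (zpowers c).index = 2) (h8 : 8 ≤ Nat.card S) : MC S := by
  obtain ⟨k, hk⟩ := IsPGroup.iff_orderOf.1 hS c
  have hcard : Nat.card S = 2 ^ (k + 1) := by
    have := (zpowers c).card_mul_index
    rw [Nat.card_zpowers, hk, hi] at this
    rw [pow_succ]; omega
  have hk2 : 2 ≤ k := by
    by_contra h
    have h' : k + 1 ≤ 2 := by omega
    have := Nat.pow_le_pow_right (show 1 ≤ 2 by norm_num) h'
    omega
  obtain ⟨b, hb⟩ : ∃ b, b ∉ zpowers c := by
    by_contra h
    push Not at h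
    rw [(eq_top_iff' _).2 h, index_top] at hi
    omega
  obtain ⟨j, hj⟩ := mem_zpowers_iff.1
    ((normal_of_index_eq_two hi).conj_mem c (mem_zpowers c) b)
  have hodd : j % 2 = 1 := by
    by_contra h
    have hdvd : (2 : ℤ) ∣ j := by omega
    obtain ⟨i, rfl⟩ := hdvd
    have h1 : orderOf (b * c * b⁻¹) = 2 ^ k := by
      rw [← hk]; exact (MulAut.conj b).orderOf_eq c
    rw [← hj, zpow_mul] at h1
    have h2 : (c ^ (2 : ℤ)) ^ i ∈ zpowers (c ^ (2 : ℤ)) := zpow_mem (mem_zpowers _) i
    have h3 := orderOf_dvd_of_mem_zpowers h2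
    rw [h1, ← Nat.card_zpowers, card_zpowers_sq (by omega) hk] at h3
    have := (Nat.pow_dvd_pow_iff_le_right (show 1 < 2 by norm_num)).1 h3
    omega
  refine ⟨c, b, k, j, hk2, hk, hcard, hb, hj.symm, ?_⟩
  by_contra h3
  have hle := commutator_le_zpowers (m := 4) (index_zpowers_eq_two hk hcard) hb hj.symm (by omega)
  have hd := card_dvd_of_le hle
  have hcc := (commutator S).card_mul_index
  rw [hab, hcard] at hcc
  rw [Nat.card_zpowers, show (4 : ℤ) = ((4 : ℕ) : ℤ) from rfl, zpow_natCast,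
    orderOf_pow_of_dvd (by norm_num) (hk ▸ (show (4:ℕ) = 2 ^ 2 from rfl) ▸ pow_dvd_pow 2 hk2), hk] at hd
  obtain ⟨l, rfl⟩ := Nat.exists_eq_add_of_le hk2
  rw [show 2 ^ (2 + l) / 4 = 2 ^ l by rw [pow_add]; exact Nat.mul_div_cancel_left _ (by norm_num)] at hd
  have := Nat.le_of_dvd (by positivity) hd
  have e : 2 ^ (2 + l + 1) = 8 * 2 ^ l := by rw [pow_add, pow_add]; ring
  have hp : 0 < 2 ^ l := by positivity
  omega

/-- Taussky's theorem -/
theorem taussky : ∀ (n : ℕ) {S : Type*} [Group S] [Finite S], Nat.card S ≤ n → IsPGroup 2 S →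
    (commutator S).index = 4 → 8 ≤ Nat.card S → MC S := by
  intro n
  induction n with
  | zero => intro S _ _ h; exact absurd h (by have := Nat.card_pos (α := S); omega)
  | succ n ih =>
    intro S _ _ hn hS hab h8
    haveI : Fact (Nat.Prime 2) := ⟨Nat.prime_two⟩
    have hcne : commutator S ≠ ⊥ := fun h => by rw [h, index_bot] at hab; omega
    have hne := Cfsg.Agent.PGroup.inf_center_ne_bot hS (N := commutator S) hcne
    obtain ⟨z, hz, hz1, hz2⟩ := Cfsg.Agent.PGroup.exists_mem_pow_eq_one hS hne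
    have hzn : (zpowers z).Normal := ⟨fun x hx g => by
      obtain ⟨i, rfl⟩ := mem_zpowers_iff.1 hx
      have : g * z ^ i = z ^ i * g := mem_center_iff.1 (zpow_mem (Subgroup.mem_inf.1 hz).2 i) g
      rw [this, mul_inv_cancel_right]; exact zpow_mem (mem_zpowers z) i⟩
    have hzc : Nat.card (zpowers z) = 2 := by
      rw [Nat.card_zpowers]; exact orderOf_eq_prime hz2 hz1
    let π := QuotientGroup.mk' (zpowers z)
    have hπ : Function.Surjective π := QuotientGroup.mk'_surjective _
    have hQ : Nat.card (S ⧸ zpowers z) * 2 = Nat.card S := by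
      have := card_eq_card_quotient_mul_card_subgroup (zpowers z)
      rw [hzc] at this; omega
    have habQ : (commutator (S ⧸ zpowers z)).index = 4 := by
      have e : (commutator S).map π = commutator (S ⧸ zpowers z) := by
        rw [_root_.commutator_def, _root_.commutator_def, map_commutator, map_top_of_surjective π hπ]
      rw [← e, index_map_eq _ hπ, hab]
      rw [QuotientGroup.ker_mk']
      exact zpowers_le.2 (Subgroup.mem_inf.1 hz).1
    by_cases hs : 8 ≤ Nat.card (S ⧸ zpowers z)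
    swap
    · -- order eight
      obtain ⟨k, hk⟩ := IsPGroup.iff_card.1 hS
      have hcard : Nat.card S = 8 := by
        have h14 : Nat.card S < 16 := by omega
        rw [hk] at h8 h14 ⊢
        have : k = 3 := by
          have := (Nat.pow_lt_pow_iff_right (show 1 < 2 by norm_num)).1 (show 2 ^ k < 2 ^ 4 by omega)
          have := (Nat.pow_le_pow_iff_right (show 1 < 2 by norm_num)).1 (show 2 ^ 3 ≤ 2 ^ k by omega)
          omega
        subst this; rfl
      obtain ⟨c, hc⟩ : ∃ c : S, c ^ 2 ≠ 1 := by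
        by_contra hcon
        push Not at hcon
        refine hcne ?_
        rw [← le_bot_iff]
        haveI : (⊥ : Subgroup S).Normal := inferInstance
        refine commutator_le_of_closure (s := Set.univ) (closure_univ) fun x _ y _ => ?_
        rw [mem_bot, commutatorElement_eq_one_iff_mul_comm]
        have hinv : ∀ g : S, g⁻¹ = g := fun g =>
          inv_eq_of_mul_eq_one_right (by rw [← pow_two, hcon g])
        have := hinv (x * y)
        rw [mul_inv_rev, hinv x, hinv y] at this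
        exact this.symm
      obtain ⟨i, hi⟩ := IsPGroup.iff_orderOf.1 hS c
      have hd : orderOf c ∣ 8 := hcard ▸ orderOf_dvd_natCard c
      rw [hi, show (8:ℕ) = 2 ^ 3 from rfl, Nat.pow_dvd_pow_iff_le_right (by norm_num)] at hd
      have h2i : 2 ≤ i := by
        by_contra h
        refine hc (orderOf_dvd_iff_pow_eq_one.1 ?_)
        rw [hi]
        exact (pow_dvd_pow 2 (show i ≤ 1 by omega))
      have hi3 : i ≠ 3 := by
        intro h3
        subst h3
        have htop : zpowers c = ⊤ := eq_top_of_card_eq _ (by rw [Nat.card_zpowers, hi, hcard]; rfl)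
        haveI : IsCyclic S := ⟨⟨c, fun x => (htop.symm ▸ mem_top x : x ∈ zpowers c)⟩⟩
        letI := IsCyclic.commGroup (α := S)
        refine hcne (le_bot_iff.1 ?_)
        refine commutator_le_of_closure (s := Set.univ) (closure_univ) fun x _ y _ => ?_
        rw [mem_bot, commutatorElement_eq_one_iff_mul_comm]; exact mul_comm x y
      obtain rfl : i = 2 := by omega
      refine mc_of_cyclic hS hab (c := c) ?_ h8
      have := (zpowers c).card_mul_index
      rw [Nat.card_zpowers, hi, hcard] at this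
      omega
    · obtain ⟨a, b, k, j, hk, ha, hcard, hb, hj, hj4⟩ :=
        ih (by omega) (hS.to_quotient _) habQ hs
      obtain ⟨c, rfl⟩ := hπ a
      obtain ⟨b, rfl⟩ := hπ b
      by_cases hzin : z ∈ zpowers c
      · refine mc_of_cyclic hS hab (c := c) ?_ h8
        have e : (zpowers c).map π = zpowers (π c) := MonoidHom.map_zpowers π c
        rw [← index_zpowers_eq_two ha hcard, ← e,
          index_map_eq _ hπ (by rw [QuotientGroup.ker_mk']; exact zpowers_le.2 hzin)]
      · exfalso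
        have hz2' : z ^ (2 : ℤ) = 1 := by
          rw [show (2 : ℤ) = ((2 : ℕ) : ℤ) from rfl, zpow_natCast, hz2]
        have hcz : ∀ x : S, Commute z x := fun x => (mem_center_iff.1 (Subgroup.mem_inf.1 hz).2 x).symm
        obtain ⟨e, he⟩ : ∃ e : ℤ, b * c * b⁻¹ = c ^ j * z ^ e := by
          have h1 : π (b * c * b⁻¹) = π (c ^ j) := by
            rw [map_mul, map_mul, map_inv, hj, map_zpow]
          have h2 : (c ^ j)⁻¹ * (b * c * b⁻¹) ∈ zpowers z := QuotientGroup.eq.1 h1.symm
          obtain ⟨e, he⟩ := mem_zpowers_iff.1 h2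
          exact ⟨e, by rw [he, mul_inv_cancel_left]⟩
        set t := c ^ (j - 1) * z ^ e with ht
        have hcpow : c ^ ((2 : ℤ) ^ k) = 1 := by
          rw [show ((2 : ℤ) ^ k) = ((2 ^ k : ℕ) : ℤ) by push_cast; ring, zpow_natCast]
          have h1 : π (c ^ 2 ^ k) = 1 := by rw [map_pow, ← ha, pow_orderOf_eq_one]
          have h2 : c ^ 2 ^ k ∈ zpowers z := (QuotientGroup.eq_one_iff _).1 h1
          obtain ⟨i, hi⟩ := mem_zpowers_iff.1 h2
          rcases Int.even_or_odd i with ⟨w, hw⟩ | ⟨w, hw⟩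
          · rw [← hi, hw, ← two_mul, zpow_mul, hz2', one_zpow]
          · refine absurd ?_ hzin
            have hzz : z ^ i = z := by rw [hw, zpow_add, zpow_mul, hz2', one_zpow, one_mul, zpow_one]
            rw [← hzz, hi]; exact npow_mem_zpowers c _
        have hbt : b * t * b⁻¹ = t ^ j := by
          have h1 : b * t * b⁻¹ = (b * c * b⁻¹) ^ (j - 1) * z ^ e := by
            rw [conj_zpow, ht]
            calc b * (c ^ (j - 1) * z ^ e) * b⁻¹ = b * c ^ (j - 1) * (z ^ e * b⁻¹) := by group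
              _ = b * c ^ (j - 1) * (b⁻¹ * z ^ e) := by rw [((hcz b⁻¹).zpow_left e).eq]
              _ = _ := by group
          rw [h1, he, ht, ((hcz (c ^ j)).zpow_left e).symm.mul_zpow,
            (((hcz (c ^ (j - 1))).zpow_left e).symm).mul_zpow, ← zpow_mul, ← zpow_mul, mul_assoc,
            ← zpow_mul, ← zpow_mul, ← zpow_add, mul_comm j (j - 1)]
          congr 1
          obtain ⟨w, hw⟩ : (2 : ℤ) ∣ e * (j - 1) + e - e * j := ⟨0, by ring⟩
          rw [show e * (j - 1) + e = e * j by ring]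
        have hct : ∀ x, x ∈ ({c, b, z} : Set S) → x * t * x⁻¹ ∈ zpowers t := by
          rintro x (rfl | rfl | rfl)
          · have : Commute x t := ((Commute.zpow_self x (j - 1)).symm).mul_right ((hcz x).symm.zpow_right e)
            rw [this.eq, mul_inv_cancel_right]; exact mem_zpowers t
          · rw [hbt]; exact zpow_mem (mem_zpowers t) j
          · rw [(hcz t).eq, mul_inv_cancel_right]; exact mem_zpowers t
        have hgen : closure ({c, b, z} : Set S) = ⊤ := by
          refine (eq_top_iff' _).2 fun x => ?_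
          have hcm : c ∈ closure ({c, b, z} : Set S) := subset_closure (by simp)
          have hbm : b ∈ closure ({c, b, z} : Set S) := subset_closure (by simp)
          have hzm : zpowers z ≤ closure ({c, b, z} : Set S) := zpowers_le.2 (subset_closure (by simp))
          obtain ⟨i, h | h⟩ := mem_cases (index_zpowers_eq_two ha hcard) hb (π x)
          · rw [← map_zpow] at h
            have h2 : (c ^ i)⁻¹ * x ∈ zpowers z := QuotientGroup.eq.1 h.symm
            have := mul_mem (zpow_mem hcm i) (hzm h2)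
            rwa [mul_inv_cancel_left] at this
          · rw [← map_zpow, ← map_mul] at h
            have h2 : (c ^ i * b)⁻¹ * x ∈ zpowers z := QuotientGroup.eq.1 h.symm
            have := mul_mem (mul_mem (zpow_mem hcm i) hbm) (hzm h2)
            rwa [mul_inv_cancel_left] at this
        have htn : (zpowers t).Normal := by
          rw [← normalizer_eq_top_iff, ← top_le_iff, ← hgen, closure_le]
          intro x hx
          rw [SetLike.mem_coe, mem_normalizer_iff_map_conj_eq]
          apply eq_of_le_of_card_ge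
          · rw [map_le_iff_le_comap, zpowers_le, mem_comap]
            exact hct x hx
          · rw [card_map_of_injective (MulAut.conj x).injective]
        have hbc : ⁅b, c⁆ = t := by
          rw [commutatorElement_def, he, ht, mul_assoc, ((hcz c⁻¹).zpow_left e).eq, ← mul_assoc,
            zpow_sub_one]
        have hle : commutator S ≤ zpowers t := by
          refine commutator_le_of_closure hgen ?_
          have hone : ∀ x y : S, Commute x y → ⁅x, y⁆ ∈ zpowers t := fun x y h => by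
            rw [commutatorElement_eq_one_iff_mul_comm.2 h.eq]; exact one_mem _
          rintro x (rfl | rfl | rfl) y (rfl | rfl | rfl)
          all_goals first
            | exact hone _ _ (Commute.refl _)
            | exact hone _ _ (hcz _)
            | exact hone _ _ (hcz _).symm
            | (rw [hbc]; exact mem_zpowers t)
            | (rw [← commutatorElement_inv, hbc]; exact inv_mem (mem_zpowers t))
        have htp : t ^ (2 ^ (k - 1)) = 1 := by
          obtain ⟨l, rfl⟩ := Nat.exists_eq_add_of_le hk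
          rw [ht, ((hcz (c ^ (j - 1))).zpow_left e).symm.mul_pow, ← zpow_natCast, ← zpow_mul,
            ← zpow_natCast, ← zpow_mul]
          have h1 : c ^ ((j - 1) * ((2 ^ (2 + l - 1) : ℕ) : ℤ)) = 1 := by
            obtain ⟨w, hw⟩ : (2 : ℤ) ∣ j - 1 := by omega
            rw [hw, show 2 * w * ((2 ^ (2 + l - 1) : ℕ) : ℤ) = (2 : ℤ) ^ (2 + l) * w by
              push_cast; rw [show 2 + l = (2 + l - 1) + 1 by omega, pow_succ]; simp; ring,
              zpow_mul, hcpow, one_zpow]
          have h2 : z ^ (e * ((2 ^ (2 + l - 1) : ℕ) : ℤ)) = 1 := by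
            rw [show e * ((2 ^ (2 + l - 1) : ℕ) : ℤ) = 2 * (e * 2 ^ l) by
              push_cast; rw [show 2 + l - 1 = l + 1 by omega, pow_succ]; ring,
              zpow_mul, hz2', one_zpow]
          rw [h1, h2, one_mul]
        have hd := (card_dvd_of_le hle).trans ((Nat.card_zpowers t) ▸ orderOf_dvd_of_pow_eq_one htp)
        have hcc := (commutator S).card_mul_index
        rw [hab, ← hQ, hcard] at hcc
        have := Nat.le_of_dvd (by positivity) hd
        have e2 : 2 ^ (k + 1) = 4 * 2 ^ (k - 1) := by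
          rw [show k + 1 = (k - 1) + 2 by omega, pow_add]; simp; ring
        omega

/-- a 2-group of sectional rank at most two with a maximal class subgroup of index two -/
theorem mc_of_index_two (hS : IsPGroup 2 S)
    (hsec : ∀ (N : Subgroup S) [N.Normal], (∀ x y : S ⧸ N, x * y = y * x) →
      (∀ x : S ⧸ N, x ^ 2 = 1) → Nat.card (S ⧸ N) ≤ 4)
    (M : Subgroup S) (hMi : M.index = 2) (hM : MC M) : MC S := by
  haveI hMn : M.Normal := normal_of_index_eq_two hMi
  haveI : Fact (Nat.Prime 2) := ⟨Nat.prime_two⟩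
  obtain ⟨a, b, k, j, hk, ha, hcard, hb, hj, hj4⟩ := hM
  have hiA := index_zpowers_eq_two ha hcard
  have hcom := MC.commutator_eq ha hcard hb hj hj4
  set K := (commutator M).map M.subtype with hK
  have hKle : K ≤ commutator S := by
    rw [hK, _root_.commutator_def, _root_.commutator_def, map_commutator]
    exact commutator_mono le_top le_top
  have hKi : K.index = 8 := by
    rw [hK, index_map_of_injective _ M.subtype_injective, range_subtype, hMi,
      MC.index_commutator ⟨a, b, k, j, hk, ha, hcard, hb, hj, hj4⟩]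
  have hS8 : 8 ≤ Nat.card S := hKi ▸ Nat.le_of_dvd Nat.card_pos K.index_dvd_card
  by_cases hab : (commutator S).index = 4
  · exact taussky _ le_rfl hS hab hS8
  have heq : commutator S = K := by
    have hd := index_dvd_of_le hKle
    rw [hKi] at hd
    have h2 : (commutator S).index ≠ 1 := by
      intro h
      rw [index_eq_one] at h
      haveI := hS.isNilpotent
      haveI : Nontrivial S := Finite.one_lt_card_iff_nontrivial.1 (by omega)
      exact ne_of_lt (IsSolvable.commutator_lt_top_of_nontrivial S) h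
    have h3 : (commutator S).index ≠ 2 := by
      intro h
      haveI := hS.isNilpotent
      haveI : IsCyclic (Abelianization S) := isCyclic_of_prime_card (p := 2) (by
        show Nat.card (S ⧸ commutator S) = 2
        exact h)
      have hfr : commutator S ≤ frattini S := Cfsg.Agent.PGroup.commutator_le_frattini hS
      have : IsCyclic S := Cfsg.Agent.PGroup.isCyclic_of_index_frattini_le hS
        (h ▸ Nat.le_of_dvd (by omega) (index_dvd_of_le hfr))
      letI := IsCyclic.commGroup (α := S)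
      have hb' : b * a * b⁻¹ = a := by
        refine Subtype.ext ?_
        push_cast
        rw [mul_comm (b : S) a, mul_inv_cancel_right]
      rw [hj] at hb'
      have h1 : a ^ (j - 1) = 1 := by rw [zpow_sub_one, hb', mul_inv_cancel]
      have h4 := orderOf_dvd_iff_zpow_eq_one.2 h1
      rw [ha] at h4
      have : (4 : ℤ) ∣ j - 1 := dvd_trans (by
        obtain ⟨l, rfl⟩ := Nat.exists_eq_add_of_le hk
        exact ⟨2 ^ l, by push_cast; rw [pow_add]; ring⟩) h4
      omega
    refine (eq_of_le_of_card_ge hKle ?_).symm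
    have e1 := (commutator S).card_mul_index
    have e2 := K.card_mul_index
    rw [hKi] at e2
    have h8 : (commutator S).index = 8 := by
      have : (commutator S).index ∣ 2 ^ 3 := hd
      obtain ⟨i, hi, e⟩ := (Nat.dvd_prime_pow Nat.prime_two).1 this
      interval_cases i <;> simp_all
    rw [h8] at e1; omega
  -- s outside M
  obtain ⟨s, hs⟩ : ∃ s, s ∉ M := by
    by_contra h
    push Not at h
    rw [(eq_top_iff' _).2 h, index_top] at hMi
    omega
  have hs2 : s * s ∈ M := (mul_mem_iff_of_index_two hMi).2 Iff.rfl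
  haveI hKn : K.Normal := heq ▸ inferInstance
  have hKc : ∀ x y : S ⧸ K, x * y = y * x := fun x y =>
    (Subgroup.Normal.quotient_commutative_iff_commutator_le.2 heq.le).is_comm.comm x y
  have hMK : ∀ u : M, (u : S) * u ∈ K := by
    intro u
    refine ⟨u * u, ?_, rfl⟩
    show u * u ∈ commutator M
    obtain ⟨i, rfl | rfl⟩ := mem_cases hiA hb u
    · rw [hcom]
      exact mem_zpowers_iff.2 ⟨i, by rw [← zpow_mul, ← zpow_add]; congr 1; ring⟩
    · have hbb : b * b ∈ zpowers a := (mul_mem_iff_of_index_two hiA).2 Iff.rfl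
      obtain ⟨m, hm⟩ := mem_zpowers_iff.1 hbb
      have hm2 : (2 : ℤ) ∣ m := by
        have h1 : b * a ^ m * b⁻¹ = a ^ m := by rw [hm]; group
        rw [← conj_zpow, hj, ← zpow_mul] at h1
        have h2 : a ^ (j * m - m) = 1 := by rw [zpow_sub, h1, mul_inv_cancel]
        have h4 := orderOf_dvd_iff_zpow_eq_one.2 h2
        rw [ha] at h4
        have h5 : (4 : ℤ) ∣ j * m - m := dvd_trans (by
          obtain ⟨l, rfl⟩ := Nat.exists_eq_add_of_le hk
          exact ⟨2 ^ l, by push_cast; rw [pow_add]; ring⟩) h4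
        rw [Int.dvd_iff_emod_eq_zero, Int.sub_emod, Int.mul_emod, hj4] at h5
        omega
      obtain ⟨w, rfl⟩ := hm2
      rw [hcom]
      have e : a ^ i * b * (a ^ i * b) = a ^ i * (b * a * b⁻¹) ^ i * (b * b) := by
        rw [conj_zpow]; group
      rw [e, hj, ← zpow_mul, ← hm, ← zpow_add, ← zpow_add]
      have hev : (2 : ℤ) ∣ i + j * i + 2 * w := by
        obtain ⟨q, hq⟩ : (2 : ℤ) ∣ j + 1 := by omega
        exact ⟨q * i + w, by linear_combination i * hq⟩
      obtain ⟨q, hq⟩ := hev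
      exact mem_zpowers_iff.2 ⟨q, by rw [← zpow_mul, hq]⟩
  have hsK : s * s ∉ K := by
    intro hsK
    have := hsec K hKc (by
      intro x
      obtain ⟨g, rfl⟩ := QuotientGroup.mk'_surjective K x
      rw [← map_pow]
      refine (QuotientGroup.eq_one_iff _).2 ?_
      by_cases hg : g ∈ M
      · rw [pow_two]; exact hMK ⟨g, hg⟩
      · have hgs : g * s⁻¹ ∈ M :=
          (mul_mem_iff_of_index_two hMi).2 (iff_of_false hg (fun h => hs (by simpa using inv_mem h)))
        have e : QuotientGroup.mk' K (g ^ 2) = QuotientGroup.mk' K ((g * s⁻¹) * (g * s⁻¹) * (s * s)) := by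
          rw [map_mul, map_mul, map_mul, map_mul, map_inv, map_pow, pow_two]
          set x := QuotientGroup.mk' K g
          set y := QuotientGroup.mk' K s
          calc x * x = x * (x * y⁻¹) * y := by group
            _ = x * (y⁻¹ * x) * y := by rw [hKc x y⁻¹]
            _ = x * y⁻¹ * (x * y⁻¹) * (y * y) := by group
        rw [← QuotientGroup.eq_one_iff]
        show QuotientGroup.mk' K (g ^ 2) = 1
        rw [e]
        exact (QuotientGroup.eq_one_iff _).2 (mul_mem (hMK ⟨_, hgs⟩) hsK))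
    rw [← index_eq_card, hKi] at this
    omega
  -- the cyclic subgroup of M is normalised by s
  set A := (zpowers a).map M.subtype with hA
  have hAeq : A = zpowers (a : S) := MonoidHom.map_zpowers M.subtype a
  have hKA : K ≤ A := map_mono (by rw [hcom, zpowers_le]; exact zpow_mem (mem_zpowers a) 2)
  haveI hAn : A.Normal := ⟨fun x hx g => by
    have hc : g * x * g⁻¹ * x⁻¹ ∈ K := heq ▸ commutator_mem_commutator (mem_top g) (mem_top x)
    have := A.mul_mem (hKA hc) hx
    rwa [inv_mul_cancel_right] at this⟩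
  obtain ⟨i, hi⟩ := mem_zpowers_iff.1 (hAeq ▸ hAn.conj_mem (a : S) (hAeq ▸ mem_zpowers _) s)
  have haS : orderOf (a : S) = 2 ^ k := by rw [Subgroup.orderOf_coe, ha]
  obtain ⟨i2, hi2 | hi2⟩ := mem_cases hiA hb ⟨s * s, hs2⟩
  swap
  · exfalso
    have hss : s * s = (a : S) ^ i2 * b := by
      have := congrArg Subtype.val hi2; push_cast at this; exact this
    have h1 : (s * s) * a * (s * s)⁻¹ = (a : S) ^ (i * i) := by
      have : s * s * a * (s * s)⁻¹ = s * (s * a * s⁻¹) * s⁻¹ := by group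
      rw [this, ← hi, ← conj_zpow, ← hi, ← zpow_mul]
    have h2 : (s * s) * a * (s * s)⁻¹ = (a : S) ^ j := by
      have hjS : (b : S) * a * (b : S)⁻¹ = (a : S) ^ j := by
        have := congrArg Subtype.val hj; push_cast at this; exact this
      rw [hss]
      have : (a : S) ^ i2 * b * a * ((a : S) ^ i2 * b)⁻¹ = (a : S) ^ i2 * ((b : S) * a * (b : S)⁻¹) * ((a : S) ^ i2)⁻¹ := by
        group
      rw [this, hjS]; group
    rw [h1] at h2
    have h3 := zpow_eq_zpow_iff_modEq.1 h2
    rw [haS] at h3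
    have h4 : (4 : ℤ) ∣ j - i * i := dvd_trans (by
      obtain ⟨l, rfl⟩ := Nat.exists_eq_add_of_le hk
      exact ⟨2 ^ l, by push_cast; rw [pow_add]; ring⟩) (Int.modEq_iff_dvd.1 h3)
    rcases Int.even_or_odd i with ⟨w, rfl⟩ | ⟨w, rfl⟩
    · rw [show (w + w) * (w + w) = 4 * (w * w) by ring] at h4; omega
    · rw [show (2 * w + 1) * (2 * w + 1) = 4 * (w * w + w) + 1 by ring] at h4; omega
  have hss : s * s = (a : S) ^ i2 := by
    have := congrArg Subtype.val hi2; push_cast at this; exact this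
  have hodd : i2 % 2 = 1 := by
    by_contra h
    obtain ⟨w, hw⟩ : (2 : ℤ) ∣ i2 := by omega
    refine hsK ⟨a ^ i2, ?_, by rw [hss, map_zpow]; rfl⟩
    show a ^ i2 ∈ commutator M
    rw [hcom, hw]
    exact mem_zpowers_iff.2 ⟨w, by rw [← zpow_mul]⟩
  obtain ⟨u, v, huv⟩ := isCoprime_two_pow hodd k
  have hamem : (a : S) = (s * s) ^ u := by
    rw [hss, ← zpow_mul]
    have h0 : (a : S) ^ ((2 : ℤ) ^ k) = 1 := by
      rw [show ((2 : ℤ) ^ k) = ((2 ^ k : ℕ) : ℤ) by push_cast; ring, zpow_natCast, ← haS, pow_orderOf_eq_one]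
    calc (a : S) = (a : S) ^ (i2 * u + (2 : ℤ) ^ k * v) := by
          rw [show i2 * u + (2 : ℤ) ^ k * v = 1 by linear_combination huv, zpow_one]
      _ = _ := by rw [zpow_add, zpow_mul (a : S) ((2 : ℤ) ^ k), h0, one_zpow, mul_one]
  have hAs : zpowers (a : S) ≤ zpowers s := by
    rw [zpowers_le, hamem]; exact zpow_mem (mul_mem (mem_zpowers s) (mem_zpowers s)) u
  have hcS : Nat.card S = 2 ^ (k + 2) := by
    rw [← M.card_mul_index, hMi, hcard, ← pow_succ]
  have hs2' : orderOf (s * s) = 2 ^ k := by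
    refine Nat.dvd_antisymm ?_ ?_
    · rw [hss, ← haS]; exact orderOf_dvd_of_mem_zpowers (zpow_mem (mem_zpowers _) i2)
    · rw [← haS, hamem]; exact orderOf_dvd_of_mem_zpowers (zpow_mem (mem_zpowers _) u)
  have hos : orderOf s = 2 ^ (k + 1) := by
    obtain ⟨n, hn⟩ := IsPGroup.iff_orderOf.1 hS s
    have hn0 : n ≠ 0 := fun h => hs (by
      rw [h, pow_zero, orderOf_eq_one_iff] at hn; rw [hn]; exact one_mem M)
    have h1 : orderOf (s * s) = orderOf s / 2 := by
      rw [← pow_two]; exact orderOf_pow_of_dvd two_ne_zero (hn ▸ dvd_pow_self 2 hn0)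
    rw [hs2', hn] at h1
    rw [hn]
    obtain ⟨n, rfl⟩ := Nat.exists_eq_succ_of_ne_zero hn0
    rw [pow_succ, Nat.mul_div_cancel _ two_pos] at h1
    rw [Nat.pow_right_injective le_rfl h1]
  have hiS := index_zpowers_eq_two hos (by rw [hcS])
  have hbS : (b : S) ∉ zpowers s := by
    intro hbs
    obtain ⟨x, hx⟩ := mem_zpowers_iff.1 hbs
    rcases Int.even_or_odd x with ⟨w, rfl⟩ | ⟨w, rfl⟩
    · apply hb
      have h1 : (b : S) ∈ A := by
        rw [hAeq, ← hx, show s ^ (w + w) = (s * s) ^ w by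
          rw [← zpow_two, ← zpow_mul]; congr 1; ring, hss]
        exact zpow_mem (zpow_mem (mem_zpowers _) i2) w
      obtain ⟨y, hy, e⟩ := h1
      exact (Subtype.ext e : y = b) ▸ hy
    · refine hs ?_
      have h1 : s ^ (2 * w) ∈ M := by rw [zpow_mul, zpow_two]; exact zpow_mem hs2 w
      have : s = (s ^ (2 * w))⁻¹ * b := by rw [← hx, zpow_add, zpow_one, inv_mul_cancel_left]
      rw [this]; exact mul_mem (inv_mem h1) b.2
  obtain ⟨l, hl⟩ := mem_zpowers_iff.1 ((normal_of_index_eq_two hiS).conj_mem s (mem_zpowers s) b)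
  refine ⟨s, b, k + 1, l, by omega, hos, by rw [hcS], hbS, hl.symm, ?_⟩
  have hjS : (b : S) * a * (b : S)⁻¹ = (a : S) ^ j := by
    have := congrArg Subtype.val hj; push_cast at this; exact this
  have h1 : (b : S) * (s * s) * (b : S)⁻¹ = (s * s) ^ j := by
    rw [hss, ← conj_zpow, hjS, ← zpow_mul, ← zpow_mul, mul_comm]
  have h2 : (b : S) * (s * s) * (b : S)⁻¹ = (s * s) ^ l := by
    have : (b : S) * (s * s) * (b : S)⁻¹ = (b * s * (b : S)⁻¹) * (b * s * (b : S)⁻¹) := by group
    rw [this, ← hl, ← zpow_add, ← zpow_two s, ← zpow_mul]; congr 1; ring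
  rw [h1] at h2
  have h3 := zpow_eq_zpow_iff_modEq.1 h2
  rw [hs2'] at h3
  have h4 : (4 : ℤ) ∣ l - j := dvd_trans (by
    obtain ⟨l, rfl⟩ := Nat.exists_eq_add_of_le hk
    exact ⟨2 ^ l, by push_cast; rw [pow_add]; ring⟩) (Int.modEq_iff_dvd.1 h3)
  omega

end Cfsg.Agent.FGS82
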