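import Mathlib
import Cfsg.Agent.OddLocal43.Coprime
import Cfsg.Agent.Lib.Coprime.Generation

/-! Independent eigen subgroups of prime order for an elementary abelian 2-group acting on a
nilpotent group of odd order. -/

set_option autoImplicit false

namespace Cfsg.Agent.FGS82

open Subgroup

variable {G : Type*} [Group G] [Finite G]

theorem coprime_two_group_odd {A B : Subgroup G} (hA : IsPGroup 2 A) (hB : Odd (Nat.card B)) :
    (Nat.card A).Coprime (Nat.card B) := by
  haveI : Fact (Nat.Prime 2) := ⟨Nat.prime_two⟩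
  obtain ⟨n, hn⟩ := IsPGroup.iff_card.1 hA
  rw [hn]
  exact Nat.Coprime.pow_left n (Nat.coprime_two_left.2 hB)

/-- an eigen element of prime order that is not centralised by `J` -/
theorem exists_eigen (I J D : Subgroup G) (hI : IsMulCommutative I) (hI2 : ∀ s ∈ I, s * s = 1)
    (hJI : J ≤ I) (hDodd : Odd (Nat.card D)) (hID : I ≤ normalizer (D : Set G))
    (hne : ¬ J ≤ centralizer (D : Set G)) :
    ∃ a ∈ D, (orderOf a).Prime ∧ (∀ s ∈ I, s * a * s⁻¹ = a ∨ s * a * s⁻¹ = a⁻¹) ∧
      ∃ t ∈ J, t * a * t⁻¹ = a⁻¹ := by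
  classical
  obtain ⟨E, -, hmin⟩ := exists_minimal_le_of_wellFoundedLT
    (fun E : Subgroup G => E ≤ D ∧ I ≤ normalizer (E : Set G) ∧ ¬ J ≤ centralizer (E : Set G)) D
    ⟨le_rfl, hID, hne⟩
  obtain ⟨hED, hIE, hJE⟩ := hmin.1
  have hcI : ∀ u ∈ I, ∀ v ∈ I, u * v = v * u := fun u hu v hv =>
    congrArg Subtype.val (mul_comm' (⟨u, hu⟩ : I) ⟨v, hv⟩)
  have hIp : IsPGroup 2 I := fun g => ⟨1, Subtype.ext (by simpa [pow_two] using hI2 g g.2)⟩
  obtain ⟨t, htJ, htE⟩ := SetLike.not_le_iff_exists.1 hJE
  have htI := hJI htJ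
  -- fixed points of a moving element are centralised by `J`
  have hfix : ∀ s ∈ I, s ∉ centralizer (E : Set G) →
      E ⊓ centralizer ({s} : Set G) ≤ centralizer (J : Set G) := by
    intro s hs hsE
    by_contra hno
    have hsub : E ⊓ centralizer ({s} : Set G) ≤ E := inf_le_left
    have hIn : I ≤ normalizer ((E ⊓ centralizer ({s} : Set G) : Subgroup G) : Set G) := by
      refine fun u hu => mem_normalizer_iff.2 fun x => ?_
      have hcs : ∀ v ∈ I, ∀ y, y ∈ centralizer ({s} : Set G) →
          v * y * v⁻¹ ∈ centralizer ({s} : Set G) := fun v hv y hy => by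
        rw [mem_centralizer_singleton_iff] at hy ⊢
        have h1 : Commute v s := hcI v hv s hs
        exact ((h1.mul_left (show Commute y s from hy)).mul_left h1.inv_left).eq
      simp only [mem_inf]
      constructor
      · exact fun h => ⟨(mem_normalizer_iff.1 (hIE hu) x).1 h.1, hcs u hu x h.2⟩
      · exact fun h => ⟨(mem_normalizer_iff.1 (hIE hu) x).2 h.1, by
          simpa [mul_assoc] using hcs u⁻¹ (inv_mem hu) _ h.2⟩
    have hno' : ¬ J ≤ centralizer ((E ⊓ centralizer ({s} : Set G) : Subgroup G) : Set G) := fun h =>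
      hno fun y hy => mem_centralizer_iff.2 fun j hj => (mem_centralizer_iff.1 (h hj) y hy).symm
    have hle := hmin.2 ⟨hsub.trans hED, hIn, hno'⟩ hsub
    exact hsE (mem_centralizer_iff.2 fun y hy =>
      (mem_centralizer_singleton_iff.1 (hle hy).2))
  have hMor : ∀ s ∈ I, s ∈ centralizer (E : Set G) ∨ s * t ∈ centralizer (E : Set G) := by
    intro s hs
    by_contra hno
    push Not at hno
    obtain ⟨hsE, hstE⟩ := hno
    set A := closure ({s, t} : Set G)
    have hAI : A ≤ I := (closure_le _).2 (by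
      rintro y (rfl | rfl)
      exacts [hs, htI])
    haveI : IsMulCommutative A := isMulCommutative_closure fun x hx y hy =>
      hcI x (hAI (subset_closure hx)) y (hAI (subset_closure hy))
    have hAel : ∀ e ∈ A, e = 1 ∨ e = s ∨ e = t ∨ e = s * t := by
      intro e he
      have hst : t * s = s * t := hcI t htI s hs
      induction he using closure_induction with
      | mem y hy =>
        simp only [Set.mem_insert_iff, Set.mem_singleton_iff] at hy
        rcases hy with h | h <;> simp [h]
      | one => simp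
      | mul u v _ _ hu hv =>
        have hss := hI2 s hs
        have htt := hI2 t htI
        have hss' : ∀ w, s * (s * w) = w := fun w => by rw [← mul_assoc, hss, one_mul]
        have htt' : ∀ w, t * (t * w) = w := fun w => by rw [← mul_assoc, htt, one_mul]
        have hst' : ∀ w, t * (s * w) = s * (t * w) := fun w => by rw [← mul_assoc, hst, mul_assoc]
        rcases hu with h | h | h | h <;> rcases hv with h' | h' | h' | h' <;> rw [h, h'] <;>
          simp [mul_assoc, hss, htt, hst, hss', htt', hst']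
      | inv u _ hu =>
        rcases hu with h | h | h | h <;> rw [h] <;>
          simp [inv_eq_of_mul_eq_one_right (hI2 s hs), inv_eq_of_mul_eq_one_right (hI2 t htI),
            mul_inv_rev, hst]
    have hnc : ¬ IsCyclic A := by
      intro hcyc
      obtain ⟨g, hg⟩ := hcyc.exists_generator
      have hpow : ∀ y : A, y = 1 ∨ y = g := fun y => by
        obtain ⟨i, rfl⟩ := mem_zpowers_iff.1 (hg y)
        have hgg : g * g = 1 := Subtype.ext (hI2 g (hAI g.2))
        rcases Int.even_or_odd' i with ⟨j, rfl | rfl⟩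
        · left; rw [zpow_mul, zpow_two, hgg, one_zpow]
        · right; rw [zpow_add, zpow_mul, zpow_two, hgg, one_zpow, one_mul, zpow_one]
      have hs1 : s ≠ 1 := fun h => hsE (h ▸ one_mem _)
      have ht1 : t ≠ 1 := fun h => htE (h ▸ one_mem _)
      have hsA : s ∈ A := subset_closure (by simp)
      have htA : t ∈ A := subset_closure (by simp)
      rcases hpow ⟨s, hsA⟩ with h | h
      · exact hs1 (congrArg Subtype.val h)
      rcases hpow ⟨t, htA⟩ with h' | h'
      · exact ht1 (congrArg Subtype.val h')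
      have : s = t := congrArg Subtype.val (h.trans h'.symm)
      exact hstE (by rw [this, hI2 t htI]; exact one_mem _)
    have hle := Coprime.le_of_centralizer_le A E (centralizer (J : Set G)) hnc
      (hAI.trans hIE) (coprime_two_group_odd (hIp.to_le hAI) (hDodd.of_dvd_nat (card_dvd_of_le hED)))
      (fun e he he1 => hfix e (hAI he) fun hc => by
        rcases hAel e he with h | h | h | h
        · exact he1 h
        · exact hsE (h ▸ hc)
        · exact htE (h ▸ hc)
        · exact hstE (h ▸ hc))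
    exact hJE fun j hj => mem_centralizer_iff.2 fun y hy => (mem_centralizer_iff.1 (hle hy) j hj).symm
  obtain ⟨g, hg, hgt⟩ : ∃ g ∈ E, t * g * t⁻¹ ≠ g := by
    by_contra h
    push Not at h
    exact htE (mem_centralizer_iff.2 fun y hy => (mul_inv_eq_iff_eq_mul.1 (h y hy)).symm)
  set x := g⁻¹ * (t * g * t⁻¹)
  have hxE : x ∈ E := mul_mem (inv_mem hg) ((mem_normalizer_iff.1 (hIE htI) g).1 hg)
  have hx1 : x ≠ 1 := fun h => hgt (inv_mul_eq_one.1 h).symm
  have hti : t⁻¹ = t := inv_eq_of_mul_eq_one_right (hI2 t htI)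
  have htx : t * x * t⁻¹ = x⁻¹ := by
    have htt : ∀ w, t * (t * w) = w := fun w => by rw [← mul_assoc, hI2 t htI, one_mul]
    simp only [x, hti, mul_inv_rev, inv_inv, mul_assoc, htt, hI2 t htI, mul_one]
  obtain ⟨q, hq, hdvd⟩ := Nat.exists_prime_and_dvd (fun h => hx1 (orderOf_eq_one_iff.1 h) : orderOf x ≠ 1)
  refine ⟨x ^ (orderOf x / q), pow_mem (hED hxE) _, ?_, fun s hs => ?_, t, htJ, ?_⟩
  · rw [orderOf_pow_orderOf_div (orderOf_pos x).ne' hdvd]; exact hq
  · rcases hMor s hs with h | h
    · left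
      rw [mul_inv_eq_iff_eq_mul]
      exact (mem_centralizer_iff.1 h _ (pow_mem hxE _)).symm
    · right
      rw [← conj_pow, ← inv_pow, ← htx]
      congr 1
      have h1 : s * t * x = x * (s * t) := (mem_centralizer_iff.1 h x hxE).symm
      have hsi : s⁻¹ = s := inv_eq_of_mul_eq_one_right (hI2 s hs)
      calc s * x * s⁻¹ = s * (s * t * x * (s * t)⁻¹) * s⁻¹ := by rw [h1]; group
        _ = (s * s) * (t * x * t⁻¹) * (s * s)⁻¹ := by group
        _ = t * x * t⁻¹ := by rw [hI2 s hs]; group
  · rw [← conj_pow, htx, inv_pow]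

theorem iSup_cons {k : ℕ} (A : Subgroup G) (f : Fin k → Subgroup G) :
    (⨆ i, (Fin.cons A f : Fin (k + 1) → Subgroup G) i) = A ⊔ ⨆ i, f i := by
  apply le_antisymm
  · apply iSup_le
    intro i
    induction i using Fin.cases with
    | zero => rw [Fin.cons_zero]; exact le_sup_left
    | succ j => rw [Fin.cons_succ]; exact (le_iSup f j).trans le_sup_right
  · apply sup_le
    · exact le_iSup_of_le (f := (Fin.cons A f : Fin (k + 1) → Subgroup G)) 0 (by rw [Fin.cons_zero])
    · exact iSup_le fun j =>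
        le_iSup_of_le (f := (Fin.cons A f : Fin (k + 1) → Subgroup G)) j.succ (by rw [Fin.cons_succ])

/-- the family of eigen subgroups -/
theorem exists_family (I : Subgroup G) (hI : IsMulCommutative I) (hI2 : ∀ s ∈ I, s * s = 1) :
    ∀ (k : ℕ) (J D : Subgroup G), J ≤ I → Group.IsNilpotent D → Odd (Nat.card D) →
      I ≤ normalizer (D : Set G) → Nat.card J = 2 ^ k → J ⊓ centralizer (D : Set G) = ⊥ →
    ∃ f : Fin k → Subgroup G, (∀ i, (Nat.card ↥(f i)).Prime) ∧ (∀ i, f i ≤ D) ∧
      (∀ i, I ≤ normalizer ((f i) : Set G)) ∧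
      (∀ i j, i ≠ j → ∀ a ∈ f i, ∀ b ∈ f j, a * b = b * a) ∧
      Nat.card ↥(⨆ i, f i) = ∏ i, Nat.card ↥(f i) ∧
      J ⊓ centralizer ((⨆ i, f i : Subgroup G) : Set G) = ⊥ ∧
      (⨆ i, f i) ⊓ centralizer (J : Set G) = ⊥ := by
  intro k
  induction k with
  | zero =>
    intro J D hJI _ _ _ hJ _
    refine ⟨Fin.elim0, fun i => i.elim0, fun i => i.elim0, fun i => i.elim0, fun i => i.elim0,
      by simp, ?_, by simp⟩
    rw [eq_bot_of_card_eq J (by simpa using hJ), bot_inf_eq]
  | succ k ih =>
    intro J D hJI hDn hDodd hID hJ hfaith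
    have hne : ¬ J ≤ centralizer (D : Set G) := fun h => by
      rw [inf_eq_left.2 h] at hfaith
      rw [hfaith, card_bot] at hJ
      exact absurd hJ.symm (Nat.one_lt_two_pow (Nat.succ_ne_zero k)).ne'
    obtain ⟨a, haD, hap, hev, t, htJ, hta⟩ := exists_eigen I J D hI hI2 hJI hDodd hID hne
    have hcI : ∀ u ∈ I, ∀ v ∈ I, u * v = v * u := fun u hu v hv =>
      congrArg Subtype.val (mul_comm' (⟨u, hu⟩ : I) ⟨v, hv⟩)
    have hainv : a ≠ a⁻¹ := fun h => by
      have h2 : orderOf a ∣ 2 := orderOf_dvd_of_pow_eq_one (by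
        rw [pow_two]; nth_rw 2 [h]; exact mul_inv_cancel a)
      have h3 : Odd (orderOf a) := hDodd.of_dvd_nat (D.orderOf_dvd_natCard haD)
      rcases (Nat.dvd_prime Nat.prime_two).1 h2 with h4 | h4
      · exact hap.ne_one h4
      · rw [h4] at h3; exact absurd h3 (by decide)
    set J' := J ⊓ centralizer ({a} : Set G)
    have htJ' : t ∉ J' := fun h => hainv (by
      rw [← hta, mem_centralizer_singleton_iff.1 h.2, mul_inv_cancel_right])
    have hidx : Nat.card J' = 2 ^ k := by
      have h2 : J'.relIndex J = 2 := by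
        rw [relIndex, index_eq_two_iff]
        refine ⟨⟨t, htJ⟩, fun b => ?_⟩
        have hmem : ∀ s ∈ J, s ∈ J' ↔ s * a * s⁻¹ = a := fun s hs => by
          rw [mem_inf, mem_centralizer_singleton_iff, mul_inv_eq_iff_eq_mul]
          exact ⟨fun h => h.2, fun h => ⟨hs, h⟩⟩
        simp only [mem_subgroupOf, Subgroup.coe_mul]
        rw [hmem _ (mul_mem b.2 htJ), hmem _ b.2]
        have e : (b : G) * t * a * ((b : G) * t)⁻¹ = ((b : G) * a * (b : G)⁻¹)⁻¹ := by
          calc (b : G) * t * a * ((b : G) * t)⁻¹ = b * (t * a * t⁻¹) * (b : G)⁻¹ := by group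
            _ = _ := by rw [hta]; group
        rw [e]
        rcases hev b (hJI b.2) with h | h <;> rw [h]
        · exact Or.inr ⟨rfl, fun h => hainv h.symm⟩
        · exact Or.inl ⟨inv_inv a, fun h => hainv h.symm⟩
      have := card_mul_index (J'.subgroupOf J)
      rw [show (J'.subgroupOf J).index = 2 from h2,
        Nat.card_congr (subgroupOfEquivOfLe (inf_le_left : J' ≤ J)).toEquiv, hJ, pow_succ] at this
      exact Nat.eq_of_mul_eq_mul_right two_pos this
    set D' := D ⊓ centralizer ({a} : Set G)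
    have hID' : I ≤ normalizer (D' : Set G) := by
      intro u hu
      rw [mem_normalizer_iff]
      intro x
      have hcs : ∀ v ∈ I, ∀ y, y ∈ centralizer ({a} : Set G) →
          v * y * v⁻¹ ∈ centralizer ({a} : Set G) := fun v hv y hy => by
        rw [mem_centralizer_singleton_iff] at hy ⊢
        have hy' : Commute y (v⁻¹ * a * v) := by
          rcases hev v⁻¹ (inv_mem hv) with h | h <;> rw [inv_inv] at h <;> rw [h]
          · exact hy
          · exact (show Commute y a from hy).inv_right
        calc v * y * v⁻¹ * a = v * (y * (v⁻¹ * a * v)) * v⁻¹ := by group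
          _ = v * ((v⁻¹ * a * v) * y) * v⁻¹ := by rw [hy'.eq]
          _ = a * (v * y * v⁻¹) := by group
      simp only [D', mem_inf]
      constructor
      · exact fun h => ⟨(mem_normalizer_iff.1 (hID hu) x).1 h.1, hcs u hu x h.2⟩
      · exact fun h => ⟨(mem_normalizer_iff.1 (hID hu) x).2 h.1, by
          simpa [mul_assoc] using hcs u⁻¹ (inv_mem hu) _ h.2⟩
    have hfaith' : J' ⊓ centralizer (D' : Set G) = ⊥ := by
      set B := J' ⊓ centralizer (D' : Set G)
      have hBJ : B ≤ J := inf_le_left.trans inf_le_left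
      have hle : D ≤ centralizer (B : Set G) := by
        refine OddLocal43.le_centralizer_of_self_centralizing hDn
          ((hBJ.trans hJI).trans hID)
          (coprime_two_group_odd ((fun g => ⟨1, Subtype.ext (by
            simpa [pow_two] using hI2 g ((hBJ.trans hJI) g.2))⟩) : IsPGroup 2 B) hDodd) ?_
        intro y hy
        have haB : a ∈ D ⊓ centralizer (B : Set G) := mem_inf.2 ⟨haD, mem_centralizer_iff.2
          fun b hb => mem_centralizer_singleton_iff.1 hb.1.2⟩
        have hyD' : y ∈ D' := mem_inf.2 ⟨hy.1,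
          mem_centralizer_singleton_iff.2 (mem_centralizer_iff.1 hy.2 a haB).symm⟩
        exact mem_inf.2 ⟨hy.1, mem_centralizer_iff.2 fun b hb =>
          (mem_centralizer_iff.1 hb.2 y hyD').symm⟩
      rw [eq_bot_iff]
      intro b hb
      rw [← hfaith]
      exact mem_inf.2 ⟨hBJ hb, mem_centralizer_iff.2 fun d hd =>
        (mem_centralizer_iff.1 (hle hd) b hb).symm⟩
    have hD'n : Group.IsNilpotent D' := by
      haveI := hDn
      exact Group.nilpotent_of_surjective (G := D'.subgroupOf D)
        (subgroupOfEquivOfLe (inf_le_left : D' ≤ D)).toMonoidHom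
        (subgroupOfEquivOfLe (inf_le_left : D' ≤ D)).surjective
    obtain ⟨f, hfp, hfD, hfI, hfc, hfcard, hfJ, hfC⟩ := ih J' D' (inf_le_left.trans hJI) hD'n
      (hDodd.of_dvd_nat (card_dvd_of_le inf_le_left)) hID' hidx hfaith'
    set W := ⨆ i, f i
    have hWD : W ≤ D' := iSup_le hfD
    have hza : ∀ w ∈ W, Commute a w := fun w hw =>
      (mem_centralizer_singleton_iff.1 (hWD hw).2).symm
    refine ⟨Fin.cons (zpowers a) f, ?_, ?_, ?_, ?_, ?_⟩
    · refine Fin.cases ?_ ?_
      · simpa [Nat.card_zpowers] using hap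
      · intro i; simpa using hfp i
    · refine Fin.cases ?_ ?_
      · simpa [zpowers_le] using haD
      · intro i; simpa using (hfD i).trans inf_le_left
    · refine Fin.cases ?_ ?_
      · intro u hu
        rw [Fin.cons_zero, mem_normalizer_iff]
        intro x
        have key : ∀ v ∈ I, ∀ y ∈ zpowers a, v * y * v⁻¹ ∈ zpowers a := by
          intro v hv y hy
          obtain ⟨i, rfl⟩ := mem_zpowers_iff.1 hy
          rw [← conj_zpow]
          rcases hev v hv with h | h <;> rw [h]
          · exact mem_zpowers_iff.2 ⟨i, rfl⟩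
          · exact zpow_mem (inv_mem (mem_zpowers a)) i
        exact ⟨key u hu x, fun h => by simpa [mul_assoc] using key u⁻¹ (inv_mem hu) _ h⟩
      · intro i; simpa using hfI i
    · refine Fin.cases ?_ ?_
      · refine Fin.cases (fun h => absurd rfl h) ?_
        intro j _ x hx y hy
        rw [Fin.cons_zero] at hx
        rw [Fin.cons_succ] at hy
        obtain ⟨i, rfl⟩ := mem_zpowers_iff.1 hx
        exact ((hza y (le_iSup f j hy)).zpow_left i).eq
      · intro i
        refine Fin.cases ?_ ?_
        · intro _ x hx y hy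
          rw [Fin.cons_succ] at hx
          rw [Fin.cons_zero] at hy
          obtain ⟨j, rfl⟩ := mem_zpowers_iff.1 hy
          exact ((hza x (le_iSup f i hx)).zpow_left j).symm.eq
        · intro j hij x hx y hy
          rw [Fin.cons_succ] at hx hy
          exact hfc i j (fun h => hij (congrArg Fin.succ h)) x hx y hy
    have hsup : (⨆ i, (Fin.cons (zpowers a) f : Fin (k + 1) → Subgroup G) i) = zpowers a ⊔ W :=
      iSup_cons _ _
    let φ : zpowers a × W →* G := MonoidHom.noncommCoprod (zpowers a).subtype W.subtype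
      fun u w => by
        obtain ⟨i, hi⟩ := mem_zpowers_iff.1 u.2
        show Commute (u : G) (w : G)
        rw [← hi]; exact (hza w w.2).zpow_left i
    have haJ' : ∀ s ∈ J', ∀ u ∈ zpowers a, s * u = u * s := fun s hs u hu => by
      obtain ⟨i, rfl⟩ := mem_zpowers_iff.1 hu
      exact ((show Commute s a from mem_centralizer_singleton_iff.1 hs.2).zpow_right i).eq
    have hdisj : ∀ u ∈ zpowers a, u ∈ W → u = 1 := fun u hu huW => by
      rw [← mem_bot, ← hfC]
      exact mem_inf.2 ⟨huW, mem_centralizer_iff.2 fun s hs => haJ' s hs u hu⟩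
    have hφ : Function.Injective φ := by
      rw [injective_iff_map_eq_one]
      rintro ⟨u, w⟩ h
      replace h : (u : G) * w = 1 := h
      have hu := hdisj u u.2 (by rw [eq_inv_of_mul_eq_one_left h]; exact inv_mem w.2)
      rw [hu, one_mul] at h
      exact Prod.ext (Subtype.ext hu) (Subtype.ext h)
    have hrange : φ.range = zpowers a ⊔ W := by
      refine le_antisymm ?_ (sup_le (fun u hu => ⟨(⟨u, hu⟩, 1), by simp [φ]⟩)
        (fun w hw => ⟨(1, ⟨w, hw⟩), by simp [φ]⟩))
      rintro _ ⟨v, rfl⟩
      exact mul_mem (mem_sup_left v.1.2) (mem_sup_right v.2.2)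
    rw [hsup]
    refine ⟨?_, ?_, ?_⟩
    · rw [← hrange, ← Nat.card_congr (MonoidHom.ofInjective hφ).toEquiv, Nat.card_prod,
        Fin.prod_univ_succ, hfcard]
      simp
    · rw [eq_bot_iff]
      intro s hs
      have hsa : s ∈ centralizer ({a} : Set G) := mem_centralizer_singleton_iff.2
        (mem_centralizer_iff.1 hs.2 a (mem_sup_left (mem_zpowers a))).symm
      rw [← hfJ]
      exact mem_inf.2 ⟨mem_inf.2 ⟨hs.1, hsa⟩, mem_centralizer_iff.2 fun w hw =>
        mem_centralizer_iff.1 hs.2 w (mem_sup_right hw)⟩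
    · rw [eq_bot_iff]
      intro x hx
      obtain ⟨hxW, hxJ⟩ := mem_inf.1 hx
      rw [← hrange] at hxW
      obtain ⟨⟨u, w⟩, rfl⟩ := hxW
      change (u : G) * w ∈ centralizer (J : Set G) at hxJ
      have hw : (w : G) = 1 := by
        rw [← mem_bot, ← hfC]
        refine mem_inf.2 ⟨w.2, mem_centralizer_iff.2 fun s hs => ?_⟩
        have h1 := mem_centralizer_iff.1 hxJ s hs.1
        rw [← mul_assoc, haJ' s hs u u.2, mul_assoc, mul_assoc] at h1
        exact mul_left_cancel h1
      show (u : G) * w ∈ (⊥ : Subgroup G)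
      rw [hw, mul_one] at hxJ ⊢
      obtain ⟨i, hi⟩ := mem_zpowers_iff.1 u.2
      have h2 : t * (u : G) * t⁻¹ = u := by
        rw [mem_centralizer_iff.1 hxJ t htJ, mul_inv_cancel_right]
      have h3 : t * (u : G) * t⁻¹ = (u : G)⁻¹ := by
        rw [← hi, ← conj_zpow, hta, inv_zpow]
      rw [h2] at h3
      have h4 : orderOf (u : G) ∣ 2 := orderOf_dvd_of_pow_eq_one (by
        rw [pow_two]; nth_rw 2 [h3]; exact mul_inv_cancel _)
      have h5 : Odd (orderOf (u : G)) :=
        hDodd.of_dvd_nat (D.orderOf_dvd_natCard (hi ▸ zpow_mem haD i))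
      rcases (Nat.dvd_prime Nat.prime_two).1 h4 with h | h
      · rw [mem_bot]; exact orderOf_eq_one_iff.1 h
      · rw [h] at h5; exact absurd h5 (by decide)

end Cfsg.Agent.FGS82
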