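import Mathlib
import Cfsg.Prelude.Def_Transfer
import Cfsg.Agent.Class49.Extraspecial

/-!
Extraspecial 2-groups are determined by their order and the number of square roots of the identity.
-/

set_option autoImplicit false

namespace Cfsg.Agent.FGS82

open scoped commutatorElement

/-- data of a group with all squares and commutators in a central subgroup `{1, z}` equal to the centre -/
structure QData (E : Type*) [Group E] (z : E) : Prop where
  ne : z ≠ 1
  sq : z * z = 1
  cen : ∀ g : E, g * z = z * g
  squares : ∀ g : E, g * g = 1 ∨ g * g = z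
  comm : ∀ g h : E, g * h = h * g ∨ g * h = h * g * z
  center : ∀ g : E, (∀ h : E, g * h = h * g) → g = 1 ∨ g = z

variable {E : Type*} [Group E] {z : E}

/-- a power with exponent zero or one -/
def bp (g : E) (b : Bool) : E := if b then g else 1

theorem bp_zero (g : E) : bp g false = 1 := rfl
theorem bp_one (g : E) : bp g true = g := rfl

/-- a frame: two non-commuting elements whose squares are both `z^ε` -/
structure Frame (z : E) (x y : E) (ε : Bool) : Prop where
  nc : y * x = x * y * z
  sx : x * x = bp z ε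
  sy : y * y = bp z ε

/-- the word `x^i y^j` -/
def wd (x y : E) (i j : Bool) : E := bp x i * bp y j

/-- the correction exponent in a product of two words -/
def cc (ε i j k l : Bool) : Bool := xor (j && k) (xor (ε && (i && k)) (ε && (j && l)))

theorem QData.bp_cen (D : QData E z) (b : Bool) (g : E) : g * bp z b = bp z b * g := by
  cases b
  · simp [bp]
  · exact D.cen g

theorem wd_mul (D : QData E z) {x y : E} {ε : Bool} (F : Frame z x y ε) (i j k l : Bool) :
    wd x y i j * wd x y k l = wd x y (xor i k) (xor j l) * bp z (cc ε i j k l) := by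
  have hz : ∀ g h : E, g * (z * h) = z * (g * h) := fun g h => by
    rw [← mul_assoc, D.cen, mul_assoc]
  have hz' : ∀ g : E, z * (z * g) = g := fun g => by rw [← mul_assoc, D.sq, one_mul]
  have hyx : y * x = z * (x * y) := by rw [F.nc, D.cen]
  have hyx' : ∀ g : E, y * (x * g) = z * (x * (y * g)) := fun g => by
    rw [← mul_assoc, hyx, mul_assoc, mul_assoc]
  have hxx' : ∀ g : E, x * (x * g) = bp z ε * g := fun g => by rw [← mul_assoc, F.sx]
  have hyy' : ∀ g : E, y * (y * g) = bp z ε * g := fun g => by rw [← mul_assoc, F.sy]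
  have hxx := F.sx
  have hyy := F.sy
  have hxz := D.cen x
  have hyz := D.cen y
  have hsq := D.sq
  cases ε <;> cases i <;> cases j <;> cases k <;> cases l <;>
    simp_all [wd, cc, bp, mul_assoc]

theorem QData.commute_or (D : QData E z) {g x : E} (h : g * x ≠ x * g) : g * x = x * g * z :=
  (D.comm g x).resolve_left h

theorem QData.zmul (D : QData E z) (g : E) : g * z * z = g := by rw [mul_assoc, D.sq, mul_one]

/-- every element splits off its word -/
theorem decompose (D : QData E z) {x y : E} {ε : Bool} (F : Frame z x y ε) (g : E) :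
    ∃ i j : Bool, (wd x y i j)⁻¹ * g ∈ Subgroup.centralizer ({x, y} : Set E) := by
  classical
  have hzi : z⁻¹ = z := inv_eq_of_mul_eq_one_right D.sq
  have hyne : y * x ≠ x * y := by
    rw [F.nc]; exact fun h => D.ne (mul_left_cancel (h.trans (mul_one _).symm))
  obtain ⟨j, hj⟩ : ∃ j : Bool, Commute ((bp y j)⁻¹ * g) x := by
    by_cases h : g * x = x * g
    · exact ⟨false, by simp only [bp, Bool.false_eq_true, if_false, inv_one, one_mul]; exact h⟩
    · refine ⟨true, ?_⟩
      have h1 := D.commute_or h
      have h2 : y⁻¹ * x = x * y⁻¹ * z := by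
        have e := congrArg (fun t => y⁻¹ * t * y⁻¹) F.nc
        simp only [← mul_assoc, inv_mul_cancel, one_mul] at e
        rw [mul_assoc _ z y⁻¹, ← D.cen y⁻¹] at e
        simp only [← mul_assoc, mul_inv_cancel_right] at e
        conv_rhs => rw [e, D.zmul]
      show y⁻¹ * g * x = x * (y⁻¹ * g)
      rw [mul_assoc, h1, ← mul_assoc, ← mul_assoc, h2, mul_assoc (x * y⁻¹) z g, ← D.cen g,
        ← mul_assoc, D.zmul, mul_assoc]
  obtain ⟨i, hi⟩ : ∃ i : Bool, Commute ((bp x i)⁻¹ * ((bp y j)⁻¹ * g)) y := by
    by_cases h : ((bp y j)⁻¹ * g) * y = y * ((bp y j)⁻¹ * g)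
    · exact ⟨false, by
        simp only [bp, Bool.false_eq_true, if_false, inv_one, one_mul] at h ⊢
        exact h⟩
    · refine ⟨true, ?_⟩
      have h1 := D.commute_or h
      have h2 : x⁻¹ * y = y * x⁻¹ * z := by
        have e := congrArg (fun t => x⁻¹ * t * x⁻¹) F.nc
        simp only [← mul_assoc, inv_mul_cancel, one_mul, mul_inv_cancel_right] at e
        rw [e, mul_assoc y z, ← D.cen x⁻¹]
        simp only [← mul_assoc]
      show x⁻¹ * ((bp y j)⁻¹ * g) * y = y * (x⁻¹ * ((bp y j)⁻¹ * g))
      set c := (bp y j)⁻¹ * g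
      rw [mul_assoc, h1, ← mul_assoc, ← mul_assoc, h2, mul_assoc (y * x⁻¹) z c, ← D.cen c,
        ← mul_assoc, D.zmul, mul_assoc]
  have hxi : Commute (bp x i) x := by cases i <;> simp [bp]
  have hc : ∀ w : E, w ∈ Subgroup.centralizer ({x, y} : Set E) ↔ Commute w x ∧ Commute w y := fun w => by
    rw [Subgroup.mem_centralizer_iff]
    simp only [Set.mem_insert_iff, Set.mem_singleton_iff, forall_eq_or_imp, forall_eq]
    exact ⟨fun h => ⟨h.1.symm, h.2.symm⟩, fun h => ⟨h.1.symm, h.2.symm⟩⟩
  refine ⟨i, j, ?_⟩
  have hne : (wd x y i j)⁻¹ * g = (bp y j)⁻¹ * ((bp x i)⁻¹ * g) := by rw [wd, mul_inv_rev, mul_assoc]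
  -- move the two factors past each other at the cost of a central element
  have hsw : ∃ b : Bool, (bp y j)⁻¹ * (bp x i)⁻¹ = (bp x i)⁻¹ * (bp y j)⁻¹ * bp z b := by
    rcases D.comm (bp y j)⁻¹ (bp x i)⁻¹ with h | h
    · exact ⟨false, by rw [h, bp_zero, mul_one]⟩
    · exact ⟨true, by rw [h, bp_one]⟩
  obtain ⟨b, hb⟩ := hsw
  rw [hne, ← mul_assoc, hb, mul_assoc _ (bp z b) g, ← D.bp_cen b g, ← mul_assoc, mul_assoc (bp x i)⁻¹]
  refine (hc _).2 ⟨?_, ?_⟩
  · exact (hxi.inv_left.mul_left hj).mul_left (D.bp_cen b x).symm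
  · exact hi.mul_left (D.bp_cen b y).symm

theorem wd_injective (D : QData E z) {x y : E} {ε : Bool} (F : Frame z x y ε) {i j k l : Bool}
    {c d : E} (hc : c ∈ Subgroup.centralizer ({x, y} : Set E))
    (hd : d ∈ Subgroup.centralizer ({x, y} : Set E))
    (h : wd x y i j * c = wd x y k l * d) : i = k ∧ j = l ∧ c = d := by
  rw [Subgroup.mem_centralizer_iff] at hc hd
  have key : i = k ∧ j = l := by
    have hq : wd x y i j = wd x y k l * (d * c⁻¹) := by rw [← mul_assoc, ← h, mul_inv_cancel_right]
    have hx : ∀ a b : Bool, wd x y a b * x = x * wd x y a b * bp z b := by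
      intro a b
      have e1 : wd x y a b * wd x y true false = wd x y (xor a true) b * bp z (cc ε a b true false) := by
        simpa using wd_mul D F a b true false
      have e2 : wd x y true false * wd x y a b = wd x y (xor true a) b * bp z (cc ε true false a b) := by
        simpa using wd_mul D F true false a b
      have ex : wd x y true false = x := by simp [wd, bp]
      rw [ex] at e1 e2
      rw [e1, e2]
      have hsq := D.sq
      cases ε <;> cases a <;> cases b <;> simp [cc, bp, mul_assoc, hsq]
    have hy : ∀ a b : Bool, wd x y a b * y = y * wd x y a b * bp z a := by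
      intro a b
      have e1 : wd x y a b * wd x y false true = wd x y a (xor b true) * bp z (cc ε a b false true) := by
        simpa using wd_mul D F a b false true
      have e2 : wd x y false true * wd x y a b = wd x y a (xor true b) * bp z (cc ε false true a b) := by
        simpa using wd_mul D F false true a b
      have ey : wd x y false true = y := by simp [wd, bp]
      rw [ey] at e1 e2
      rw [e1, e2]
      have hsq := D.sq
      cases ε <;> cases a <;> cases b <;> simp [cc, bp, mul_assoc, hsq]
    have hcc : ∀ w : E, x * w = w * x → ∀ u : E, (u * w) * x * ((u * w))⁻¹ = u * x * u⁻¹ := by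
      intro w hw u
      rw [mul_assoc u w x, ← hw]
      group
    have hcc' : ∀ w : E, y * w = w * y → ∀ u : E, (u * w) * y * ((u * w))⁻¹ = u * y * u⁻¹ := by
      intro w hw u
      rw [mul_assoc u w y, ← hw]
      group
    have hbinj : ∀ a b : Bool, bp z a = bp z b → a = b := by
      intro a b hab
      cases a <;> cases b <;> simp [bp, D.ne, D.ne.symm] at hab ⊢
    have hdc : ∀ t : E, t * d = d * t → t * c = c * t → t * (d * c⁻¹) = d * c⁻¹ * t :=
      fun t h1 h2 => (Commute.mul_right (show Commute t d from h1) (Commute.inv_right (show Commute t c from h2))).eq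
    have conjx : ∀ a b : Bool, wd x y a b * x * (wd x y a b)⁻¹ = x * bp z b := fun a b => by
      rw [hx, mul_assoc (x * wd x y a b), ← D.bp_cen b (wd x y a b)⁻¹, ← mul_assoc, mul_inv_cancel_right]
    have conjy : ∀ a b : Bool, wd x y a b * y * (wd x y a b)⁻¹ = y * bp z a := fun a b => by
      rw [hy, mul_assoc (y * wd x y a b), ← D.bp_cen a (wd x y a b)⁻¹, ← mul_assoc, mul_inv_cancel_right]
    constructor
    · apply hbinj
      have := conjy i j
      rw [hq, hcc' _ (hdc y (hd y (by simp)) (hc y (by simp))), conjy] at this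
      exact (mul_left_cancel this).symm
    · apply hbinj
      have := conjx i j
      rw [hq, hcc _ (hdc x (hd x (by simp)) (hc x (by simp))), conjx] at this
      exact (mul_left_cancel this).symm
  obtain ⟨rfl, rfl⟩ := key
  exact ⟨rfl, rfl, mul_left_cancel h⟩

/-- the splitting bijection -/
noncomputable def splitEquiv (D : QData E z) {x y : E} {ε : Bool} (F : Frame z x y ε) :
    Bool × Bool × ↥(Subgroup.centralizer ({x, y} : Set E)) ≃ E :=
  Equiv.ofBijective (fun t => wd x y t.1 t.2.1 * t.2.2) (by
    constructor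
    · rintro ⟨i, j, c⟩ ⟨k, l, d⟩ h
      obtain ⟨rfl, rfl, hcd⟩ := wd_injective D F c.2 d.2 h
      rw [Subtype.ext hcd]
    · intro g
      obtain ⟨i, j, h⟩ := decompose D F g
      exact ⟨(i, j, ⟨_, h⟩), mul_inv_cancel_left _ _⟩)

theorem splitEquiv_apply (D : QData E z) {x y : E} {ε : Bool} (F : Frame z x y ε)
    (t : Bool × Bool × ↥(Subgroup.centralizer ({x, y} : Set E))) :
    splitEquiv D F t = wd x y t.1 t.2.1 * t.2.2 := rfl

theorem QData.z_mem (D : QData E z) (x y : E) : z ∈ Subgroup.centralizer ({x, y} : Set E) := by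
  rw [Subgroup.mem_centralizer_iff]
  exact fun h _ => D.cen h

theorem wd_commute {x y : E} {c : E} (hc : c ∈ Subgroup.centralizer ({x, y} : Set E)) (i j : Bool) :
    c * wd x y i j = wd x y i j * c := by
  rw [Subgroup.mem_centralizer_iff] at hc
  have h1 : Commute c x := (hc x (by simp)).symm
  have h2 : Commute c y := (hc y (by simp)).symm
  have h3 : Commute c (bp x i) := by cases i <;> simp [bp, h1]
  have h4 : Commute c (bp y j) := by cases j <;> simp [bp, h2]
  exact (h3.mul_right h4).eq

theorem QData.centralizer (D : QData E z) {x y : E} {ε : Bool} (F : Frame z x y ε) :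
    QData ↥(Subgroup.centralizer ({x, y} : Set E)) ⟨z, D.z_mem x y⟩ := by
  refine ⟨fun h => D.ne (congrArg Subtype.val h), Subtype.ext D.sq, fun g => Subtype.ext (D.cen g),
    fun g => ?_, fun g h => ?_, fun g hg => ?_⟩
  · rcases D.squares g with h | h
    · exact Or.inl (Subtype.ext h)
    · exact Or.inr (Subtype.ext h)
  · rcases D.comm g h with e | e
    · exact Or.inl (Subtype.ext e)
    · exact Or.inr (Subtype.ext e)
  · have : ∀ h : E, (g : E) * h = h * g := by
      intro h
      obtain ⟨⟨i, j, c⟩, rfl⟩ := (splitEquiv D F).surjective h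
      rw [splitEquiv_apply, ← mul_assoc, wd_commute g.2, mul_assoc,
        show (g : E) * (c : E) = c * g from congrArg Subtype.val (hg c)]
      simp [mul_assoc]
    rcases D.center g this with e | e
    · exact Or.inl (Subtype.ext e)
    · exact Or.inr (Subtype.ext e)

theorem QData.card_eq [Finite E] (D : QData E z) {x y : E} {ε : Bool} (F : Frame z x y ε) :
    Nat.card E = 4 * Nat.card ↥(Subgroup.centralizer ({x, y} : Set E)) := by
  rw [← Nat.card_congr (splitEquiv D F), Nat.card_prod, Nat.card_prod]
  simp only [Nat.card_eq_fintype_card (α := Bool), Fintype.card_bool]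
  ring

/-- number of square roots of one -/
noncomputable def nsq (E : Type*) [Group E] : ℕ := Nat.card {g : E // g * g = 1}

theorem QData.nsq_eq [Finite E] (D : QData E z) {x y : E} {ε : Bool} (F : Frame z x y ε) :
    (nsq E : ℤ) = if ε then 3 * (Nat.card ↥(Subgroup.centralizer ({x, y} : Set E)) : ℤ) -
        2 * nsq ↥(Subgroup.centralizer ({x, y} : Set E))
      else 2 * (nsq ↥(Subgroup.centralizer ({x, y} : Set E)) : ℤ) +
        Nat.card ↥(Subgroup.centralizer ({x, y} : Set E)) := by
  classical
  haveI := Fintype.ofFinite E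
  set C := Subgroup.centralizer ({x, y} : Set E)
  have hsq : ∀ (i j : Bool) (c : C), (wd x y i j * c) * (wd x y i j * c) = 1 ↔
      ((c : E) * c = bp z (cc ε i j i j)) := by
    intro i j c
    have e : (wd x y i j * c) * (wd x y i j * c) = bp z (cc ε i j i j) * ((c : E) * c) := by
      calc (wd x y i j * c) * (wd x y i j * c) = wd x y i j * ((c : E) * wd x y i j) * c := by
            simp [mul_assoc]
        _ = (wd x y i j * wd x y i j) * ((c : E) * c) := by rw [wd_commute c.2]; simp [mul_assoc]
        _ = _ := by rw [wd_mul D F, Bool.xor_self, Bool.xor_self]; simp [wd, bp]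
    rw [e]
    have hinv : (bp z (cc ε i j i j))⁻¹ = bp z (cc ε i j i j) := by
      cases cc ε i j i j <;> simp [bp, inv_eq_of_mul_eq_one_right D.sq]
    constructor
    · intro h; rw [eq_inv_of_mul_eq_one_right h, hinv]
    · intro h; rw [h]; cases cc ε i j i j <;> simp [bp, D.sq]
  have hpart : ∀ b : Bool, (Nat.card {c : C // (c : E) * c = bp z b} : ℤ) =
      if b then (Nat.card C : ℤ) - nsq C else nsq C := by
    intro b
    cases b
    · simp only [Bool.false_eq_true, if_false, bp_zero, nsq]
      exact_mod_cast Nat.card_congr (Equiv.subtypeEquivRight fun c => by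
        rw [Subtype.ext_iff])
    · simp only [if_true, bp_one]
      have e : ∀ c : C, (c : E) * c = z ↔ ¬ (c * c = 1) := fun c => by
        rw [Subtype.ext_iff, Subgroup.coe_mul, Subgroup.coe_one]
        refine ⟨fun h h' => D.ne (h ▸ h'), fun h => (D.squares c).resolve_left h⟩
      rw [Nat.card_congr (Equiv.subtypeEquivRight e), nsq]
      simp only [Nat.card_eq_fintype_card]
      rw [Fintype.card_subtype_compl, Nat.cast_sub (Fintype.card_subtype_le _)]
  have htot : (nsq E : ℤ) = ∑ i : Bool, ∑ j : Bool,
      (Nat.card {c : C // (c : E) * c = bp z (cc ε i j i j)} : ℤ) := by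
    have e : {g : E // g * g = 1} ≃
        Σ i : Bool, Σ j : Bool, {c : C // (c : E) * c = bp z (cc ε i j i j)} :=
      ((Equiv.subtypeEquiv (splitEquiv D F)
        (p := fun t : Bool × Bool × C => ((t.2.2 : E) * t.2.2 = bp z (cc ε t.1 t.2.1 t.1 t.2.1)))
        (q := fun g => g * g = 1) (fun t => (hsq t.1 t.2.1 t.2.2).symm)).symm).trans
      { toFun := fun t => ⟨t.1.1, t.1.2.1, t.1.2.2, t.2⟩
        invFun := fun u => ⟨(u.1, u.2.1, u.2.2.1), u.2.2.2⟩
        left_inv := fun _ => rfl
        right_inv := fun _ => rfl }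
    rw [nsq, Nat.card_congr e, Nat.card_sigma]
    push_cast
    refine Finset.sum_congr rfl fun i _ => ?_
    rw [Nat.card_sigma]; push_cast; rfl
  rw [htot]
  simp only [Fintype.sum_bool, hpart]
  cases ε <;> simp [cc] <;> ring

theorem exists_frame (D : QData E z) (hnc : ∃ g h : E, g * h ≠ h * g) :
    (∃ g : E, g * g = 1 ∧ g ≠ 1 ∧ g ≠ z) → ∃ x y : E, Frame z x y false := by
  rintro ⟨x, hx, hx1, hxz⟩
  obtain ⟨y, hy⟩ : ∃ y, y * x ≠ x * y := by
    by_contra h
    push Not at h
    rcases D.center x (fun w => (h w).symm) with e | e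
    · exact hx1 e
    · exact hxz e
  have hyx := D.commute_or hy
  rcases D.squares y with hyy | hyy
  · exact ⟨x, y, hyx, by simpa [bp] using hx, by simpa [bp] using hyy⟩
  · refine ⟨x, x * y, ?_, by simpa [bp] using hx, ?_⟩
    · rw [mul_assoc x y x, hyx]; simp [mul_assoc]
    · show x * y * (x * y) = 1
      calc x * y * (x * y) = x * (y * x) * y := by simp [mul_assoc]
        _ = (x * x) * (y * (z * y)) := by rw [hyx]; simp [mul_assoc]
        _ = 1 := by rw [hx, one_mul, ← D.cen y, ← mul_assoc, hyy, D.sq]

/-- which frame exists is visible from the square root count -/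
theorem frame_of_nsq [Finite E] (D : QData E z) (hnc : ∃ g h : E, g * h ≠ h * g) :
    ∃ x y : E, Frame z x y (decide (nsq E ≤ 2)) := by
  classical
  haveI := Fintype.ofFinite E
  by_cases h : nsq E ≤ 2
  · rw [decide_eq_true h]
    obtain ⟨g, w, hgw⟩ := hnc
    have hall : ∀ u : E, (∃ v, u * v ≠ v * u) → u * u = z := by
      rintro u ⟨v, huv⟩
      refine (D.squares u).resolve_left fun hu => ?_
      have h3 : ({1, z, u} : Finset E).card ≤ nsq E := by
        rw [nsq, Nat.card_eq_fintype_card, Fintype.card_subtype]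
        refine Finset.card_le_card fun a ha => ?_
        simp only [Finset.mem_insert, Finset.mem_singleton] at ha
        simp only [Finset.mem_filter, Finset.mem_univ, true_and]
        rcases ha with rfl | rfl | rfl
        exacts [one_mul 1, D.sq, hu]
      have hu1 : u ≠ 1 := fun e => huv (by simp [e])
      have huz : u ≠ z := fun e => huv (by subst e; exact (D.cen v).symm)
      rw [Finset.card_insert_of_notMem (by simp [D.ne.symm, hu1.symm]),
        Finset.card_insert_of_notMem (by simp [huz.symm]), Finset.card_singleton] at h3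
      omega
    exact ⟨w, g, D.commute_or hgw, by simpa [bp] using hall w ⟨g, Ne.symm hgw⟩,
      by simpa [bp] using hall g ⟨w, hgw⟩⟩
  · rw [decide_eq_false h]
    refine exists_frame D hnc ?_
    by_contra hcon
    push Not at hcon
    refine h ?_
    rw [nsq, Nat.card_eq_fintype_card, Fintype.card_subtype]
    refine le_trans (Finset.card_le_card (t := {1, z}) fun a ha => ?_) (Finset.card_le_two)
    simp only [Finset.mem_filter, Finset.mem_univ, true_and] at ha
    by_cases ha1 : a = 1
    · simp [ha1]
    · simp [hcon a ha ha1]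

theorem nsq_pos [Finite E] : 0 < nsq E := by
  haveI : Nonempty {g : E // g * g = 1} := ⟨⟨1, one_mul 1⟩⟩
  exact Nat.card_pos

theorem small (D : QData E z) (hcomm : ∀ g h : E, g * h = h * g) :
    Nat.card E = 2 ∧ nsq E = 2 := by
  have h1 : Nat.card E = 2 := by
    rw [Nat.card_eq_two_iff]
    refine ⟨1, z, D.ne.symm, Set.eq_univ_of_forall fun g => ?_⟩
    exact D.center g (hcomm g)
  refine ⟨h1, ?_⟩
  rw [← h1, nsq]
  refine Nat.card_congr (Equiv.subtypeUnivEquiv fun g => ?_)
  rcases D.center g (hcomm g) with rfl | rfl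
  exacts [one_mul 1, D.sq]

theorem counts : ∀ (n : ℕ) {E : Type*} [Group E] [Finite E] {z : E}, QData E z → Nat.card E ≤ n →
    ∃ m : ℕ, Nat.card E = 2 ^ (2 * m + 1) ∧ ((nsq E : ℤ) = 2 ^ (2 * m) + 2 ^ m ∨
      (nsq E : ℤ) = 2 ^ (2 * m) - 2 ^ m) := by
  intro n
  induction n with
  | zero => intro E _ _ z D h; exact absurd h (by have := Nat.card_pos (α := E); omega)
  | succ n ih =>
    intro E _ _ z D hn
    by_cases hc : ∀ g h : E, g * h = h * g
    · obtain ⟨h1, h2⟩ := small D hc
      exact ⟨0, by simpa using h1, Or.inl (by rw [h2]; norm_num)⟩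
    push Not at hc
    obtain ⟨x, y, F⟩ := frame_of_nsq D hc
    have hcard := D.card_eq F
    have hN := D.nsq_eq F
    have hpos : 0 < Nat.card ↥(Subgroup.centralizer ({x, y} : Set E)) := Nat.card_pos
    obtain ⟨k, hk, hs⟩ := ih (D.centralizer F) (by omega)
    refine ⟨k + 1, by rw [hcard, hk]; ring, ?_⟩
    rw [hk] at hN
    push_cast at hN
    split_ifs at hN <;> rcases hs with hs | hs <;> rw [hs] at hN <;> rw [hN]
    · right; ring
    · left; ring
    · left; ring
    · right; ring

theorem determined : ∀ (n : ℕ) {E : Type*} [Group E] [Finite E] {z : E} {E' : Type*} [Group E']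
    [Finite E'] {z' : E'}, QData E z → QData E' z' → Nat.card E ≤ n → Nat.card E' = Nat.card E →
    nsq E' = nsq E → ∃ e : E ≃* E', e z = z' := by
  intro n
  induction n with
  | zero => intro E _ _ z E' _ _ z' D D' h; exact absurd h (by have := Nat.card_pos (α := E); omega)
  | succ n ih =>
    intro E _ _ z E' _ _ z' D D' hn hcard hnsq
    by_cases hc : ∀ g h : E, g * h = h * g
    · obtain ⟨h1, -⟩ := small D hc
      haveI : Fact (Nat.Prime 2) := ⟨Nat.prime_two⟩
      haveI := isCyclic_of_prime_card h1
      haveI := isCyclic_of_prime_card (hcard.trans h1)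
      let e : E ≃* E' := mulEquivOfCyclicCardEq hcard.symm
      refine ⟨e, ?_⟩
      have hc' : ∀ g h : E', g * h = h * g := (IsCyclic.commGroup (α := E')).mul_comm
      exact (D'.center (e z) (hc' _)).resolve_left fun h => D.ne (e.map_eq_one_iff.1 h)
    push Not at hc
    have hc' : ∃ g h : E', g * h ≠ h * g := by
      by_contra hcon
      push Not at hcon
      obtain ⟨h1, -⟩ := small D' hcon
      obtain ⟨g, h, hgh⟩ := hc
      haveI : Fact (Nat.Prime 2) := ⟨Nat.prime_two⟩
      haveI := isCyclic_of_prime_card (α := E) (hcard.symm.trans h1)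
      exact hgh ((IsCyclic.commGroup (α := E)).mul_comm g h)
    obtain ⟨x, y, F⟩ := frame_of_nsq D hc
    obtain ⟨x', y', F'⟩ := frame_of_nsq D' hc'
    rw [hnsq] at F'
    have h4 := D.card_eq F
    have h4' := D'.card_eq F'
    have hN := D.nsq_eq F
    have hN' := D'.nsq_eq F'
    have hCcard : Nat.card ↥(Subgroup.centralizer ({x', y'} : Set E')) =
        Nat.card ↥(Subgroup.centralizer ({x, y} : Set E)) := by omega
    have hCn : nsq ↥(Subgroup.centralizer ({x', y'} : Set E')) =
        nsq ↥(Subgroup.centralizer ({x, y} : Set E)) := by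
      rw [hnsq, hCcard] at hN'
      split_ifs at hN hN' <;> omega
    have hpos : 0 < Nat.card ↥(Subgroup.centralizer ({x, y} : Set E)) := Nat.card_pos
    obtain ⟨e, he⟩ := ih (D.centralizer F) (D'.centralizer F') (by omega) hCcard hCn
    let ι : Bool × Bool × ↥(Subgroup.centralizer ({x, y} : Set E)) ≃
        Bool × Bool × ↥(Subgroup.centralizer ({x', y'} : Set E')) :=
      Equiv.prodCongr (Equiv.refl _) (Equiv.prodCongr (Equiv.refl _) e.toEquiv)
    let Φ : E ≃ E' := (splitEquiv D F).symm.trans (ι.trans (splitEquiv D' F'))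
    have hΦ : ∀ t, Φ (splitEquiv D F t) = splitEquiv D' F' (ι t) := fun t => by simp [Φ]
    have he1 : ∀ b, ((e ⟨bp z b, by cases b; exacts [one_mem _, D.z_mem x y]⟩ :
        ↥(Subgroup.centralizer ({x', y'} : Set E'))) : E') = bp z' b := by
      intro b
      cases b
      · simp only [bp_zero]; exact congrArg Subtype.val (map_one e)
      · simp only [bp_one]; exact congrArg Subtype.val he
    have hmul : ∀ g h : E, Φ (g * h) = Φ g * Φ h := by
      intro g h
      obtain ⟨⟨i, j, c⟩, rfl⟩ := (splitEquiv D F).surjective g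
      obtain ⟨⟨k, l, d⟩, rfl⟩ := (splitEquiv D F).surjective h
      have hb : bp z (cc (decide (nsq E ≤ 2)) i j k l) ∈ Subgroup.centralizer ({x, y} : Set E) := by
        cases cc (decide (nsq E ≤ 2)) i j k l
        exacts [one_mem _, D.z_mem x y]
      have hprod : splitEquiv D F (i, j, c) * splitEquiv D F (k, l, d) =
          splitEquiv D F (xor i k, xor j l, ⟨_, hb⟩ * (c * d)) := by
        simp only [splitEquiv_apply, Subgroup.coe_mul]
        calc wd x y i j * c * (wd x y k l * d) = wd x y i j * ((c : E) * wd x y k l) * d := by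
              simp [mul_assoc]
          _ = wd x y i j * wd x y k l * ((c : E) * d) := by rw [wd_commute c.2]; simp [mul_assoc]
          _ = _ := by rw [wd_mul D F]; simp [mul_assoc]
      rw [hprod, hΦ, hΦ, hΦ]
      simp only [ι, Equiv.prodCongr_apply, Prod.map, Equiv.refl_apply, MulEquiv.toEquiv_eq_coe,
        EquivLike.coe_coe, splitEquiv_apply, map_mul, Subgroup.coe_mul, he1]
      symm
      calc wd x' y' i j * (e c : E') * (wd x' y' k l * e d)
          = wd x' y' i j * ((e c : E') * wd x' y' k l) * e d := by simp [mul_assoc]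
        _ = wd x' y' i j * wd x' y' k l * ((e c : E') * e d) := by
            rw [wd_commute (e c).2]; simp [mul_assoc]
        _ = _ := by rw [wd_mul D' F']; simp [mul_assoc]
    refine ⟨{ Φ with map_mul' := hmul }, ?_⟩
    have hz : z = splitEquiv D F (false, false, ⟨z, D.z_mem x y⟩) := by simp [splitEquiv_apply, wd, bp]
    show Φ z = z'
    rw [hz, hΦ]
    simp [ι, splitEquiv_apply, wd, bp, he]

theorem exists_qdata {E : Type*} [Group E] [Finite E] (hE : Cfsg.IsExtraspecial 2 E) :
    ∃ z : E, QData E z := by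
  obtain ⟨⟨z, hz⟩, hz1, huniq⟩ := (Nat.card_eq_two_iff' (⟨1, one_mem _⟩ : Subgroup.center E)).1 hE.2
  have hmem : ∀ g ∈ Subgroup.center E, g = 1 ∨ g = z := by
    intro g hg
    by_cases h : g = 1
    · exact Or.inl h
    · exact Or.inr (congrArg Subtype.val (huniq ⟨g, hg⟩ fun e => h (congrArg Subtype.val e)))
  refine ⟨z, fun h => hz1 (Subtype.ext h), ?_, fun g => (Subgroup.mem_center_iff.1 hz g), fun g => ?_,
    fun g h => ?_, fun g hg => hmem g (Subgroup.mem_center_iff.2 fun h => (hg h).symm)⟩
  · rw [← pow_two]; exact Class49.exSp_center_sq hE hz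
  · rw [← pow_two]; exact hmem _ (Class49.exSp_sq_mem_center hE g)
  · rcases hmem _ (Class49.exSp_comm_mem_center hE g h) with e | e
    · exact Or.inl (commutatorElement_eq_one_iff_mul_comm.1 e)
    · right
      rw [commutatorElement_def] at e
      have hz' := Subgroup.mem_center_iff.1 hz
      calc g * h = (g * h * g⁻¹ * h⁻¹) * (h * g) := by group
        _ = h * g * z := by rw [e, hz' (h * g)]

end Cfsg.Agent.FGS82
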