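import Mathlib
import Cfsg.Agent.FGS82.ExtraTwo
import Cfsg.Agent.Lib.Thompson.Basic

/-! The extraspecial group of order 32 of minus type and its automorphism group. -/

set_option autoImplicit false

namespace Cfsg.Agent.FGS82.Minus

/-- Four pairwise non-commuting involutions and a central involution, in normal form. -/
structure M where
  a : ZMod 2
  b : ZMod 2
  c : ZMod 2
  d : ZMod 2
  e : ZMod 2
  deriving DecidableEq, Fintype

namespace M

@[ext] theorem ext' {x y : M} (ha : x.a = y.a) (hb : x.b = y.b) (hc : x.c = y.c) (hd : x.d = y.d)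
    (he : x.e = y.e) : x = y := by
  cases x; cases y; simp_all

instance : Mul M :=
  ⟨fun x y => ⟨x.a + y.a, x.b + y.b, x.c + y.c, x.d + y.d,
    x.e + y.e + (x.b * y.a + x.c * (y.a + y.b) + x.d * (y.a + y.b + y.c))⟩⟩
instance : One M := ⟨⟨0, 0, 0, 0, 0⟩⟩
instance : Inv M :=
  ⟨fun x => ⟨x.a, x.b, x.c, x.d, x.e + (x.b * x.a + x.c * (x.a + x.b) + x.d * (x.a + x.b + x.c))⟩⟩

theorem mul_def (x y : M) : x * y = ⟨x.a + y.a, x.b + y.b, x.c + y.c, x.d + y.d,
    x.e + y.e + (x.b * y.a + x.c * (y.a + y.b) + x.d * (y.a + y.b + y.c))⟩ := rfl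

theorem one_mul' : ∀ x : M, 1 * x = x := by decide
theorem mul_one' : ∀ x : M, x * 1 = x := by decide
theorem inv_mul' : ∀ x : M, x⁻¹ * x = 1 := by decide

theorem mul_assoc' (x y w : M) : x * y * w = x * (y * w) := by
  simp only [mul_def]
  ext <;> dsimp only <;> ring

instance : Group M where
  mul_assoc := mul_assoc'
  one_mul := one_mul'
  mul_one := mul_one'
  inv_mul_cancel := inv_mul'

end M

/-- the central involution -/
def zM : M := ⟨0, 0, 0, 0, 1⟩

/-- representatives of the five cosets of involutions -/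
def u : Fin 5 → M :=
  ![⟨1, 0, 0, 0, 0⟩, ⟨0, 1, 0, 0, 0⟩, ⟨0, 0, 1, 0, 0⟩, ⟨0, 0, 0, 1, 0⟩, ⟨1, 1, 1, 1, 0⟩]

theorem qdataM : QData M zM := by
  refine ⟨?_, ?_, ?_, ?_, ?_, ?_⟩ <;> decide +kernel

theorem cardM : Nat.card M = 32 := by
  rw [Nat.card_eq_fintype_card]; decide +kernel

theorem nsqM : nsq M = 12 := by
  rw [nsq, Nat.card_eq_fintype_card]; decide +kernel

theorem u_invol : ∀ i, u i * u i = 1 ∧ u i ≠ 1 ∧ u i ≠ zM := by decide +kernel

theorem u_cover : ∀ x : M, x * x = 1 → x ≠ 1 → x ≠ zM → ∃ i, x = u i ∨ x = u i * zM := by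
  decide +kernel

theorem u_unique : ∀ i j, (u i = u j ∨ u i = u j * zM) → i = j := by decide +kernel

theorem aut_z (φ : MulAut M) : φ zM = zM := by
  refine (qdataM.center (φ zM) fun h => ?_).resolve_left fun h => qdataM.ne ?_
  · obtain ⟨h', rfl⟩ := φ.surjective h
    rw [← map_mul, ← map_mul, qdataM.cen h']
  · exact φ.injective (h.trans (map_one φ).symm)

theorem exists_img (φ : MulAut M) (i : Fin 5) : ∃ j, φ (u i) = u j ∨ φ (u i) = u j * zM := by
  obtain ⟨h1, h2, h3⟩ := u_invol i
  refine u_cover _ (by rw [← map_mul, h1, map_one]) ?_ ?_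
  · exact fun h => h2 (φ.injective (h.trans (map_one φ).symm))
  · exact fun h => h3 (φ.injective (h.trans (aut_z φ).symm))

/-- the action on the five cosets, as a function -/
noncomputable def pf (φ : MulAut M) (i : Fin 5) : Fin 5 := (exists_img φ i).choose

theorem pf_spec (φ : MulAut M) (i : Fin 5) :
    φ (u i) = u (pf φ i) ∨ φ (u i) = u (pf φ i) * zM := (exists_img φ i).choose_spec

theorem pf_eq {φ : MulAut M} {i j : Fin 5} (h : φ (u i) = u j ∨ φ (u i) = u j * zM) :
    pf φ i = j := by
  have hz : ∀ x : M, x * zM * zM = x := qdataM.zmul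
  rcases pf_spec φ i with h' | h' <;> rcases h with h | h <;> rw [h'] at h
  · exact u_unique _ _ (Or.inl h)
  · exact u_unique _ _ (Or.inr h)
  · exact u_unique _ _ (Or.inr (by rw [← h, hz]))
  · exact u_unique _ _ (Or.inl (mul_right_cancel h))

theorem pf_one : pf 1 = id := funext fun _ => pf_eq (Or.inl rfl)

theorem pf_mul (φ ψ : MulAut M) : pf (φ * ψ) = pf φ ∘ pf ψ := by
  funext i
  apply pf_eq
  have hz : ∀ x : M, x * zM * zM = x := qdataM.zmul
  rw [MulAut.mul_apply]
  rcases pf_spec ψ i with h | h <;> rcases pf_spec φ (pf ψ i) with h' | h'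
  · left; rw [h, h']; rfl
  · right; rw [h, h']; rfl
  · right; rw [h, map_mul, h', aut_z]; rfl
  · left; rw [h, map_mul, h', aut_z, hz]; rfl

/-- the action of the automorphism group on the five cosets -/
noncomputable def act : MulAut M →* Equiv.Perm (Fin 5) where
  toFun φ := ⟨pf φ, pf φ⁻¹,
    fun i => by rw [← Function.comp_apply (f := pf φ⁻¹), ← pf_mul, inv_mul_cancel, pf_one]; rfl,
    fun i => by rw [← Function.comp_apply (f := pf φ), ← pf_mul, mul_inv_cancel, pf_one]; rfl⟩
  map_one' := Equiv.ext fun i => congrFun pf_one i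
  map_mul' φ ψ := Equiv.ext fun i => congrFun (pf_mul φ ψ) i

theorem act_apply (φ : MulAut M) (i : Fin 5) : act φ i = pf φ i := rfl

/-- a power with exponent in `ZMod 2` -/
def zp (g : M) (t : ZMod 2) : M := if t = 1 then g else 1

/-- substitution of the four generators -/
def subst (s : Fin 4 → M) (x : M) : M :=
  zp (s 0) x.a * zp (s 1) x.b * zp (s 2) x.c * zp (s 3) x.d * zp zM x.e

theorem subst_id : ∀ x : M, subst (fun j => u j.castSucc) x = x := by decide +kernel

theorem aut_eq_subst (φ : MulAut M) (x : M) : φ x = subst (fun j => φ (u j.castSucc)) x := by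
  have hp : ∀ g t, φ (zp g t) = zp (φ g) t := fun g t => by
    unfold zp; split_ifs <;> simp
  conv_lhs => rw [← subst_id x]
  simp only [subst, map_mul, hp, aut_z]

/-- the images of the generators under an adjacent transposition -/
def swapImg (i : Fin 4) (j : Fin 4) : M := u (Equiv.swap i.castSucc i.succ j.castSucc)

theorem swap_hom : ∀ i : Fin 4, ∀ x y : M,
    subst (swapImg i) (x * y) = subst (swapImg i) x * subst (swapImg i) y := by decide +kernel

theorem swap_inj : ∀ i : Fin 4, ∀ x y : M,
    subst (swapImg i) x = subst (swapImg i) y → x = y := by decide +kernel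

/-- the automorphism inducing an adjacent transposition -/
noncomputable def swapAut (i : Fin 4) : MulAut M :=
  MulEquiv.ofBijective
    ({ toFun := subst (swapImg i)
       map_one' := mul_left_cancel (a := subst (swapImg i) 1)
         (by rw [← swap_hom, one_mul, mul_one])
       map_mul' := swap_hom i } : M →* M)
    (Finite.injective_iff_bijective.1 fun x y => swap_inj i x y)

theorem swap_u : ∀ (i : Fin 4) (j : Fin 5),
    subst (swapImg i) (u j) = u (Equiv.swap i.castSucc i.succ j) ∨
      subst (swapImg i) (u j) = u (Equiv.swap i.castSucc i.succ j) * zM := by decide +kernel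

theorem act_swapAut (i : Fin 4) : act (swapAut i) = Equiv.swap i.castSucc i.succ :=
  Equiv.ext fun j => pf_eq (swap_u i j)

theorem act_surjective : Function.Surjective act := by
  intro σ
  have h : σ ∈ Submonoid.closure (Set.range fun i : Fin 4 => Equiv.swap i.castSucc i.succ) := by
    rw [Equiv.Perm.mclosure_swap_castSucc_succ]; trivial
  induction h using Submonoid.closure_induction with
  | mem x hx => obtain ⟨i, rfl⟩ := hx; exact ⟨swapAut i, act_swapAut i⟩
  | one => exact ⟨1, map_one act⟩
  | mul x y _ _ hx hy =>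
    obtain ⟨a, rfl⟩ := hx; obtain ⟨b, rfl⟩ := hy
    exact ⟨a * b, map_mul act a b⟩

theorem card_ker_act_le : Nat.card act.ker ≤ 16 := by
  let f : act.ker → (Fin 4 → Bool) := fun φ j => decide (φ.1 (u j.castSucc) = u j.castSucc)
  have hf : Function.Injective f := by
    intro φ ψ h
    refine Subtype.ext (MulEquiv.ext fun x => ?_)
    rw [aut_eq_subst φ.1, aut_eq_subst ψ.1]
    congr 1
    funext j
    have hk : ∀ χ : act.ker, χ.1 (u j.castSucc) = u j.castSucc ∨
        χ.1 (u j.castSucc) = u j.castSucc * zM := fun χ => by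
      have := pf_spec χ.1 j.castSucc
      rwa [show pf χ.1 j.castSucc = j.castSucc by
        rw [← act_apply, MonoidHom.mem_ker.1 χ.2]; rfl] at this
    have hj := congrFun h j
    simp only [f, decide_eq_decide] at hj
    rcases hk φ with a | a
    · rw [a, hj.1 a]
    · rcases hk ψ with b | b
      · rw [b, hj.2 b]
      · rw [a, b]
  refine (Nat.card_le_card_of_injective f hf).trans ?_
  simp [Nat.card_eq_fintype_card]

theorem conj_u : ∀ (g : M) (i : Fin 5), g * u i * g⁻¹ = u i ∨ g * u i * g⁻¹ = u i * zM := by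
  decide +kernel

theorem act_conj (g : M) : act (MulAut.conj g) = 1 :=
  Equiv.ext fun i => pf_eq (by simpa using conj_u g i)

theorem perm_fixed_subsingleton : ∀ σ : Equiv.Perm (Fin 5), σ * σ = 1 → σ ≠ 1 →
    ∀ c : Equiv.Perm (Fin 5), c ^ 5 = 1 → c ≠ 1 → (∃ r : Fin 5, σ * c * σ = c ^ (r : ℕ)) →
      ∀ i j, σ i = i → σ j = j → i = j := by decide +kernel

theorem classify : ∀ w : M, w = 1 ∨ w = zM ∨ (∃ i, w = u i ∨ w = u i * zM) ∨
    (∃ i j, i ≠ j ∧ w = u i * u j) := by decide +kernel

theorem pair_unique : ∀ i j k l : Fin 5, i ≠ j → k ≠ l →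
    (u i * u j = u k * u l ∨ u i * u j = u k * u l * zM) → i = k ∧ j = l ∨ i = l ∧ j = k := by
  decide +kernel

theorem u_noncomm : ∀ i j : Fin 5, i ≠ j → u j * u i ≠ u i * u j := by decide +kernel

/-- an involutory automorphism with at most one fixed coset fixes at most four elements -/
theorem card_fixed_le (φ : MulAut M) (h2 : ∀ x, φ (φ x) = x)
    (hfix : ∀ i j, pf φ i = i → pf φ j = j → i = j) :
    Nat.card {w : M // φ w = w} ≤ 4 := by
  classical
  have hz : ∀ x : M, x * zM * zM = x := qdataM.zmul
  obtain ⟨k, hk⟩ : ∃ k, ∀ i, pf φ i = i → i = k := by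
    by_cases h : ∃ k, pf φ k = k
    · obtain ⟨k, hk⟩ := h; exact ⟨k, fun i hi => hfix i k hi hk⟩
    · exact ⟨0, fun i hi => absurd ⟨i, hi⟩ h⟩
  rw [Nat.card_eq_fintype_card, Fintype.card_subtype]
  refine le_trans (Finset.card_le_card (t := {1, zM, u k, u k * zM}) fun w hw => ?_)
    Finset.card_le_four
  simp only [Finset.mem_filter, Finset.mem_univ, true_and] at hw
  simp only [Finset.mem_insert, Finset.mem_singleton]
  rcases classify w with h | h | ⟨i, h⟩ | ⟨i, j, hij, h⟩
  · exact Or.inl h
  · exact Or.inr (Or.inl h)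
  · obtain rfl := hk i (pf_eq (by
      rcases h with rfl | rfl
      · exact Or.inl hw
      · rw [map_mul, aut_z] at hw
        exact Or.inl (mul_right_cancel hw)))
    tauto
  · exfalso
    subst h
    rw [map_mul] at hw
    have hne : pf φ i ≠ pf φ j := fun h => hij ((act φ).injective h)
    have hpair : u i * u j = u (pf φ i) * u (pf φ j) ∨
        u i * u j = u (pf φ i) * u (pf φ j) * zM := by
      rw [← hw]
      rcases pf_spec φ i with a | a <;> rcases pf_spec φ j with b | b <;> rw [a, b]
      · exact Or.inl rfl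
      · exact Or.inr (mul_assoc _ _ _).symm
      · exact Or.inr (by rw [mul_assoc, ← qdataM.cen (u (pf φ j)), ← mul_assoc])
      · exact Or.inl (by
          rw [mul_assoc (u (pf φ i)) zM, ← qdataM.cen (u (pf φ j) * zM), hz])
    rcases pair_unique _ _ _ _ hij hne hpair with ⟨a, b⟩ | ⟨a, b⟩
    · exact hij (hfix i j a.symm b.symm)
    · have hj := pf_spec φ i
      rw [← b] at hj
      rcases hj with e | e
      · have e' : φ (u j) = u i := by rw [← e, h2]
        rw [e, e'] at hw
        exact u_noncomm i j hij hw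
      · have e' : φ (u j) = u i * zM := by
          have := h2 (u i); rw [e, map_mul, aut_z] at this
          exact mul_right_cancel (b := zM) (by rw [this, hz])
        rw [e, e', mul_assoc (u j) zM, ← qdataM.cen (u i * zM), hz] at hw
        exact u_noncomm i j hij hw

/-- an extraspecial group of order 32 without elementary abelian subgroup of order 8 is the model -/
theorem equiv_model {P : Type*} [Group P] [Finite P] {z : P} (D : QData P z)
    (h32 : Nat.card P = 32)
    (hm : ∀ A : Subgroup P, Cfsg.IsElementaryAbelian 2 A → Nat.card A ≤ 4) :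
    Nonempty (P ≃* M) := by
  obtain ⟨m, hcard, hn⟩ := counts _ D le_rfl
  have hm2 : m = 2 := by
    have : 2 ^ (2 * m + 1) = 2 ^ 5 := by rw [← hcard, h32]; norm_num
    have := Nat.pow_right_injective le_rfl this
    omega
  subst hm2
  norm_num at hn
  have hnc : ∃ g h : P, g * h ≠ h * g := by
    by_contra h
    push Not at h
    have := (small D h).1
    omega
  obtain ⟨x, y, F⟩ := frame_of_nsq D hnc
  rw [decide_eq_false (by omega : ¬ nsq P ≤ 2)] at F
  have hC := D.card_eq F
  have hN := D.nsq_eq F
  set C := Subgroup.centralizer ({x, y} : Set P) with hCdef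
  have hCn : nsq C = 2 := by
    have hxy : y * x ≠ x * y := fun h => D.ne (mul_left_cancel (a := x * y)
      (by rw [mul_one, ← F.nc, h]))
    have key : ∀ c : C, c * c = 1 → c = 1 ∨ c = ⟨z, D.z_mem x y⟩ := by
      intro c hc
      by_contra hne
      push Not at hne
      have hc' : (c : P) * c = 1 := by simpa [Subtype.ext_iff] using hc
      have hcx : x * c = c * x := Subgroup.mem_centralizer_iff.1 c.2 x (by simp)
      have hcy : y * c = c * y := Subgroup.mem_centralizer_iff.1 c.2 y (by simp)
      have hxx : x * x = 1 := by simpa [bp] using F.sx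
      set A := Subgroup.closure ({x, (c : P), z} : Set P)
      have hA : Cfsg.IsElementaryAbelian 2 A := by
        refine Thompson.isElementaryAbelian_closure ?_ ?_
        · intro a ha b hb
          simp only [Set.mem_insert_iff, Set.mem_singleton_iff] at ha hb
          rcases ha with rfl | rfl | rfl <;> rcases hb with rfl | rfl | rfl <;>
            first | rfl | exact hcx | exact hcx.symm | exact D.cen _ | exact (D.cen _).symm
        · intro a ha
          simp only [Set.mem_insert_iff, Set.mem_singleton_iff] at ha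
          rcases ha with rfl | rfl | rfl <;> rw [pow_two]
          exacts [hxx, hc', D.sq]
      classical
      haveI := Fintype.ofFinite P
      have h5 : ({1, x, (c : P), z, x * c} : Finset P).card ≤ Nat.card A := by
        rw [Nat.card_eq_fintype_card, Fintype.card_subtype]
        refine Finset.card_le_card fun a ha => ?_
        simp only [Finset.mem_insert, Finset.mem_singleton] at ha
        simp only [Finset.mem_filter, Finset.mem_univ, true_and]
        have hx' : x ∈ A := Subgroup.subset_closure (by simp)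
        have hc'' : (c : P) ∈ A := Subgroup.subset_closure (by simp)
        rcases ha with rfl | rfl | rfl | rfl | rfl
        exacts [one_mem _, hx', hc'', Subgroup.subset_closure (by simp), mul_mem hx' hc'']
      have hx1 : x ≠ 1 := fun h => hxy (by simp [h])
      have hxz : x ≠ z := fun h => hxy (by rw [h]; exact D.cen y)
      have hc1 : (c : P) ≠ 1 := fun h => hne.1 (Subtype.ext h)
      have hcz : (c : P) ≠ z := fun h => hne.2 (Subtype.ext h)
      have hxc : x ≠ c := fun h => hxy (by rw [h]; exact hcy)
      have h1 : x * c ≠ 1 := fun h => hxc (mul_left_cancel (a := x) (by rw [hxx, h]))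
      have h2 : x * c ≠ x := fun h => hc1 (mul_left_cancel (a := x) (by rw [h, mul_one]))
      have h3 : x * c ≠ c := fun h => hx1 (mul_right_cancel (b := (c : P)) (by rw [h, one_mul]))
      have h4 : x * c ≠ z := fun h => hxy (by
        have e : x = z * c := by rw [← h, mul_assoc, hc', mul_one]
        rw [e]; simp only [← mul_assoc, D.cen y]; simp only [mul_assoc, hcy])
      have := hm A hA
      rw [Finset.card_insert_of_notMem (by simp [hx1.symm, hc1.symm, D.ne.symm, h1.symm]),
        Finset.card_insert_of_notMem (by simp [hxz, hxc, h2.symm]),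
        Finset.card_insert_of_notMem (by simp [hcz, h3.symm]),
        Finset.card_insert_of_notMem (by simp [h4.symm]), Finset.card_singleton] at h5
      omega
    classical
    haveI := Fintype.ofFinite C
    rw [nsq, Nat.card_eq_fintype_card, Fintype.card_subtype]
    have hne' : (⟨z, D.z_mem x y⟩ : C) ≠ 1 := fun h => D.ne (congrArg Subtype.val h)
    rw [← Finset.card_pair hne'.symm]
    congr 1
    ext c
    simp only [Finset.mem_filter, Finset.mem_univ, true_and, Finset.mem_insert,
      Finset.mem_singleton]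
    refine ⟨key c, ?_⟩
    rintro (rfl | rfl)
    exacts [one_mul 1, Subtype.ext D.sq]
  have h12 : nsq P = nsq M := by
    rw [nsqM]
    rw [if_neg Bool.false_ne_true, hCn] at hN
    omega
  obtain ⟨e, -⟩ := determined _ qdataM D le_rfl (by rw [h32, cardM]) h12
  exact ⟨e.symm⟩

end Cfsg.Agent.FGS82.Minus
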