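import Mathlib
import Cfsg.Agent.Lib.PGroup.Basic
import Cfsg.Agent.Lib.PGroup.NormalAbelian
import Cfsg.Agent.Lib.PGroup.NormalRankTwo
import Cfsg.Agent.Lib.Involution.NormalFour
import Cfsg.Agent.Lib.Thompson.PSolvable
import Cfsg.Agent.Lib.Coprime.Generation

/-! The derived length of linear `p`-groups in characteristic different from `p`. -/

set_option autoImplicit false

namespace Cfsg.Agent.FGS82.LinDL

universe u

open Subgroup
open scoped commutatorElement

/-- the bound -/
def L (e d : ℕ) : ℕ := Nat.log 2 (d / e) + 1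

theorem L_mono (e : ℕ) {a b : ℕ} (h : a ≤ b) : L e a ≤ L e b :=
  Nat.add_le_add_right (Nat.log_mono_right (Nat.div_le_div_right h)) 1

theorem derived_le_of_commutator_le {P : Type*} [Group P] {N : Subgroup P}
    (h : commutator P ≤ N) (k : ℕ) :
    derivedSeries P (k + 1) ≤ (derivedSeries N k).map N.subtype := by
  induction k with
  | zero =>
    rw [derivedSeries_zero, derivedSeries_one, ← MonoidHom.range_eq_map, Subgroup.range_subtype]
    exact h
  | succ k ih =>
    rw [derivedSeries_succ P (k + 1), derivedSeries_succ N k, Subgroup.map_commutator]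
    exact commutator_mono ih ih

variable {F : Type*} [Field F] {p : ℕ} [Fact p.Prime]

theorem zmod2_eq_one : ∀ x : ZMod 2, x ≠ 0 → x = 1 := by decide

theorem smul_cancel (hp : (p : F) ≠ 0) {V : Type*} [AddCommGroup V] [Module F V] {n : ℕ} {v : V}
    (h : (p ^ n : ℕ) • v = 0) : v = 0 := by
  rw [← Nat.cast_smul_eq_nsmul F, smul_eq_zero] at h
  rcases h with h | h
  · rw [Nat.cast_pow] at h; exact absurd (eq_zero_of_pow_eq_zero h) hp
  · exact h

section Rep

variable {V : Type*} [AddCommGroup V] [Module F V] {P : Type*} [Group P]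

theorem eq_id_of_layers (hp : (p : F) ≠ 0) (hP : IsPGroup p P) (ρ : P →* (V ≃ₗ[F] V))
    (W : Submodule F V) {g : P} (hW : ∀ w ∈ W, ρ g w = w) (hQ : ∀ v, ρ g v - v ∈ W) (v : V) :
    ρ g v = v := by
  obtain ⟨n, hn⟩ := hP g
  have hk : ∀ k : ℕ, ρ (g ^ k) v = v + k • (ρ g v - v) := by
    intro k
    induction k with
    | zero => simp
    | succ k ih =>
      rw [pow_succ', map_mul, LinearEquiv.mul_apply, ih, map_add, map_nsmul, hW _ (hQ v), succ_nsmul]
      abel
  have h := hk (p ^ n)
  rw [hn, map_one, LinearEquiv.coe_one, id_eq, left_eq_add] at h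
  exact sub_eq_zero.1 (smul_cancel hp h)

/-- restriction to an invariant subspace -/
def restrict (ρ : P →* (V ≃ₗ[F] V)) (W : Submodule F V) (hW : ∀ g, ∀ w ∈ W, ρ g w ∈ W) :
    P →* (W ≃ₗ[F] W) where
  toFun g := LinearEquiv.ofLinearMap ((ρ g : V →ₗ[F] V).restrict (hW g))
    ((ρ g⁻¹ : V →ₗ[F] V).restrict (hW g⁻¹))
    (by ext w; show ρ g (ρ g⁻¹ (w : V)) = w; rw [← LinearEquiv.mul_apply, ← map_mul]; simp)
    (by ext w; show ρ g⁻¹ (ρ g (w : V)) = w; rw [← LinearEquiv.mul_apply, ← map_mul]; simp)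
  map_one' := by ext w; show ρ 1 (w : V) = w; simp
  map_mul' a b := by ext w; show ρ (a * b) (w : V) = ρ a (ρ b (w : V)); simp

/-- the action on the quotient by an invariant subspace -/
def quot (ρ : P →* (V ≃ₗ[F] V)) (W : Submodule F V) (hW : ∀ g, ∀ w ∈ W, ρ g w ∈ W) :
    P →* ((V ⧸ W) ≃ₗ[F] (V ⧸ W)) where
  toFun g := LinearEquiv.ofLinearMap (W.mapQ W (ρ g : V →ₗ[F] V) (hW g))
    (W.mapQ W (ρ g⁻¹ : V →ₗ[F] V) (hW g⁻¹))
    (by
      ext v
      show Submodule.Quotient.mk (ρ g (ρ g⁻¹ v)) = Submodule.Quotient.mk v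
      rw [← LinearEquiv.mul_apply, ← map_mul]; simp)
    (by
      ext v
      show Submodule.Quotient.mk (ρ g⁻¹ (ρ g v)) = Submodule.Quotient.mk v
      rw [← LinearEquiv.mul_apply, ← map_mul]; simp)
  map_one' := by
    ext x
    induction x using Submodule.Quotient.induction_on with
    | H v => show Submodule.Quotient.mk (ρ 1 v) = Submodule.Quotient.mk v; simp
  map_mul' a b := by
    ext x
    induction x using Submodule.Quotient.induction_on with
    | H v => show Submodule.Quotient.mk (ρ (a * b) v) = Submodule.Quotient.mk (ρ a (ρ b v)); simp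

/-- the fixed space of an element -/
def fix (ρ : P →* (V ≃ₗ[F] V)) (g : P) : Submodule F V :=
  LinearMap.ker ((ρ g : V →ₗ[F] V) - LinearMap.id)

theorem mem_fix {ρ : P →* (V ≃ₗ[F] V)} {g : P} {v : V} : v ∈ fix ρ g ↔ ρ g v = v := by
  simp [fix, sub_eq_zero]

theorem fix_invariant {ρ : P →* (V ≃ₗ[F] V)} {g h : P} (hc : h⁻¹ * g * h = g) {v : V}
    (hv : v ∈ fix ρ g) : ρ h v ∈ fix ρ g := by
  rw [mem_fix] at hv ⊢
  have e : g * h = h * g := by
    calc g * h = h * (h⁻¹ * g * h) := by group
      _ = h * g := by rw [hc]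
  rw [← LinearEquiv.mul_apply, ← map_mul, e, map_mul, LinearEquiv.mul_apply, hv]

theorem exists_fixed (hp : (p : F) ≠ 0) (ρ : P →* (V ≃ₗ[F] V)) {z u : P} (hzu : Commute z u)
    (hzp : z ^ p = 1) (hup : u ^ p = 1) (hz : fix ρ z = ⊥) [Nontrivial V] :
    ∃ i : ℕ, fix ρ (u * z ^ i) ≠ ⊥ := by
  classical
  by_contra h
  push Not at h
  obtain ⟨v, hv⟩ := exists_ne (0 : V)
  haveI : NeZero p := ⟨(Fact.out : p.Prime).ne_zero⟩
  have hsum : ∀ g : P, g ^ p = 1 → fix ρ g = ⊥ → ∀ w, ∑ j : ZMod p, ρ (g ^ j.val) w = 0 := by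
    intro g hg hf w
    have hm : ∑ j : ZMod p, ρ (g ^ j.val) w ∈ fix ρ g := by
      rw [mem_fix, map_sum]
      refine Fintype.sum_equiv (Equiv.addRight 1) _ _ fun j => ?_
      show ρ g (ρ (g ^ j.val) w) = ρ (g ^ (j + 1).val) w
      rw [← LinearEquiv.mul_apply, ← map_mul, ← pow_succ', ZMod.val_add, ← pow_eq_pow_mod _ hg,
        ZMod.val_one]
    rw [hf, Submodule.mem_bot] at hm
    exact hm
  have hord : ∀ i : ℕ, (u * z ^ i) ^ p = 1 := fun i => by
    rw [(hzu.symm.pow_right i).mul_pow, hup, one_mul, ← pow_mul, mul_comm, pow_mul, hzp, one_pow]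
  have htot : ∑ i : ZMod p, ∑ j : ZMod p, ρ ((u * z ^ i.val) ^ j.val) v = 0 :=
    Finset.sum_eq_zero fun i _ => hsum _ (hord _) (h _) v
  rw [Finset.sum_comm, Finset.sum_eq_single (0 : ZMod p)] at htot
  · refine hv (smul_cancel hp (n := 1) ?_)
    simpa using htot
  · intro j _ hj
    calc ∑ i : ZMod p, ρ ((u * z ^ i.val) ^ j.val) v
        = ∑ i : ZMod p, ρ (u ^ j.val) (ρ (z ^ (i * j).val) v) := Finset.sum_congr rfl fun i _ => by
          rw [(hzu.symm.pow_right _).mul_pow, ← pow_mul, pow_eq_pow_mod (i.val * j.val) hzp,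
            ← ZMod.val_mul, map_mul, LinearEquiv.mul_apply]
      _ = ρ (u ^ j.val) (∑ l : ZMod p, ρ (z ^ l.val) v) := by
          rw [map_sum]
          exact Fintype.sum_equiv (Equiv.mulRight₀ j hj) _ _ fun i => rfl
      _ = 0 := by rw [hsum z hzp hz v, map_zero]
  · simp

end Rep

theorem dvd_finrank [Fintype F] {V : Type*} [AddCommGroup V] [Module F V] [FiniteDimensional F V]
    {P : Type*} [Group P] [Finite P] (ρ : P →* (V ≃ₗ[F] V)) {z : P} (hz : orderOf z = p)
    (hfix : fix ρ z = ⊥) {e : ℕ} (he : e = orderOf (Fintype.card F : ZMod p)) :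
    e ∣ Module.finrank F V := by
  classical
  haveI : Finite V := Module.finite_of_finite F
  letI : Fintype V := Fintype.ofFinite V
  letI : MulAction (zpowers z) V :=
    { smul := fun g v => ρ (g : P) v
      one_smul := fun v => by show ρ ((1 : zpowers z) : P) v = v; simp
      mul_smul := fun a b v => by
        show ρ ((a * b : zpowers z) : P) v = ρ (a : P) (ρ (b : P) v); simp }
  have hQ : IsPGroup p (zpowers z) := IsPGroup.of_card (n := 1) (by rw [Nat.card_zpowers, hz, pow_one])
  have h := hQ.card_modEq_card_fixedPoints V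
  have h1 : Nat.card (MulAction.fixedPoints (zpowers z) V) = 1 := by
    rw [Nat.card_eq_one_iff_unique]
    refine ⟨⟨fun a b => ?_⟩, ⟨⟨0, fun g => map_zero (ρ (g : P))⟩⟩⟩
    have hzero : ∀ c : MulAction.fixedPoints (zpowers z) V, (c : V) = 0 := fun c => by
      have hm : (c : V) ∈ fix ρ z := mem_fix.2 (c.2 ⟨z, mem_zpowers z⟩)
      rwa [hfix, Submodule.mem_bot] at hm
    exact Subtype.ext ((hzero a).trans (hzero b).symm)
  rw [h1, Nat.card_eq_fintype_card (α := V)] at h
  rw [show Fintype.card V = Fintype.card F ^ Module.finrank F V from Module.card_eq_pow_finrank,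
    ← ZMod.natCast_eq_natCast_iff, Nat.cast_pow, Nat.cast_one] at h
  rw [he]
  exact orderOf_dvd_of_pow_eq_one h

theorem main_gen (hp : (p : F) ≠ 0) {e : ℕ} (he2 : p = 2 → e = 1)
    (hdvd : ∀ {V : Type u} [AddCommGroup V] [Module F V] [FiniteDimensional F V] {P : Type u}
      [Group P] [Finite P] (σ : P →* (V ≃ₗ[F] V)) (z : P), orderOf z = p → fix σ z = ⊥ →
      e ∣ Module.finrank F V) :
    ∀ (d : ℕ) {V : Type u} [AddCommGroup V] [Module F V] [FiniteDimensional F V] {P : Type u}
      [Group P] [Finite P] (ρ : P →* (V ≃ₗ[F] V)), Module.finrank F V = d → IsPGroup p P →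
      ∀ g ∈ derivedSeries P (L e d), ∀ v, ρ g v = v := by
  intro d
  induction d using Nat.strong_induction_on with
  | _ d IH =>
  intro V _ _ _ P _ _ ρ hd hP g hg v
  have hp' : p.Prime := Fact.out
  -- reducible
  by_cases hred : ∃ W : Submodule F V, W ≠ ⊥ ∧ W ≠ ⊤ ∧ ∀ g, ∀ w ∈ W, ρ g w ∈ W
  · obtain ⟨W, hW0, hW1, hW⟩ := hred
    have hlt : Module.finrank F W < d := hd ▸ Submodule.finrank_lt hW1
    have hpos : 0 < Module.finrank F W := by
      haveI : Nontrivial W := Submodule.nontrivial_iff_ne_bot.2 hW0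
      exact Module.finrank_pos
    have hadd := Submodule.finrank_quotient_add_finrank W
    refine eq_id_of_layers hp hP ρ W (fun w hw => ?_) (fun x => ?_) v
    · exact congrArg Subtype.val (IH _ hlt (restrict ρ W hW) rfl hP g
        (derivedSeries_antitone P (L_mono e hlt.le) hg) ⟨w, hw⟩)
    · rw [← Submodule.Quotient.mk_eq_zero, Submodule.Quotient.mk_sub, sub_eq_zero]
      exact IH _ (by omega) (quot ρ W hW) rfl hP g
        (derivedSeries_antitone P (L_mono e (by omega)) hg) (Submodule.Quotient.mk x)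
  push Not at hred
  -- replace `P` by its image
  suffices key : derivedSeries ρ.range (L e d) = ⊥ by
    have h1 := map_derivedSeries_eq ρ.rangeRestrict_surjective (L e d)
    have h2 : ρ.rangeRestrict g ∈ derivedSeries ρ.range (L e d) := h1 ▸ mem_map_of_mem _ hg
    rw [key, mem_bot] at h2
    have h3 : ρ g = 1 := congrArg Subtype.val h2
    rw [h3, LinearEquiv.coe_one, id_eq]
  have hQp : IsPGroup p ρ.range := hP.of_surjective ρ.rangeRestrict ρ.rangeRestrict_surjective
  haveI : Finite ρ.range := Finite.of_surjective _ ρ.rangeRestrict_surjective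
  set σ : ρ.range →* (V ≃ₗ[F] V) := ρ.range.subtype
  have hirr : ∀ W : Submodule F V, (∀ g : ρ.range, ∀ w ∈ W, σ g w ∈ W) → W = ⊥ ∨ W = ⊤ := by
    intro W hW
    by_contra h
    push Not at h
    obtain ⟨g, w, hw, hgw⟩ := hred W h.1 h.2
    exact hgw (hW (ρ.rangeRestrict g) w hw)
  by_cases hab : IsMulCommutative ρ.range
  · rw [eq_bot_iff]
    refine le_trans (derivedSeries_antitone _ (show 1 ≤ L e d from Nat.le_add_left 1 _)) ?_
    rw [derivedSeries_one, _root_.commutator_def, commutator_le]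
    intro a _ b _
    rw [mem_bot, commutatorElement_eq_one_iff_mul_comm]
    exact mul_comm' a b
  have hd2 : 2 ≤ d := by
    by_contra hcon
    refine hab ⟨⟨fun a b => Subtype.ext (LinearEquiv.ext fun x => ?_)⟩⟩
    rcases Nat.eq_zero_or_pos d with h0 | h0
    · haveI : Subsingleton V := Module.finrank_zero_iff.1 (hd.trans h0)
      exact Subsingleton.elim _ _
    · obtain ⟨y, -, hy⟩ := finrank_eq_one_iff'.1 (show Module.finrank F V = 1 by omega)
      obtain ⟨c, rfl⟩ := hy x
      obtain ⟨ca, hca⟩ := hy ((a : V ≃ₗ[F] V) y)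
      obtain ⟨cb, hcb⟩ := hy ((b : V ≃ₗ[F] V) y)
      simp only [Subgroup.coe_mul, LinearEquiv.mul_apply, map_smul, ← hcb, ← hca, smul_smul]
      rw [mul_comm cb ca]
  obtain ⟨A, hA, hAc, hAs⟩ := PGroup.exists_selfCentralizing_normal_abelian hQp
  have hE : (∃ E : Subgroup ρ.range, E.Normal ∧ IsMulCommutative E ∧ (∀ b ∈ E, b ^ p = 1) ∧
      Nat.card E = p ^ 2) ∨ derivedSeries ρ.range (L e d) = ⊥ := by
    by_cases hAcyc : IsCyclic A
    · by_cases hp2 : p = 2
      · right
        subst hp2
        have he1 : e = 1 := he2 rfl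
        have h2 : 2 ≤ L e d := by
          rw [he1, L, Nat.div_one]
          have := Nat.log_pos one_lt_two hd2
          omega
        rw [eq_bot_iff]
        refine le_trans (derivedSeries_antitone _ h2) ?_
        have hle : commutator ρ.range ≤ A := by
          haveI := hA
          haveI : IsMulCommutative A := hAc
          let θ : ρ.range →* MulAut A := MulAut.conjNormal
          have hab' : ∀ s t : MulAut A, s * t = t * s := by
            obtain ⟨ge, hge⟩ := hAcyc.exists_generator
            intro s t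
            refine MulEquiv.ext fun x => ?_
            obtain ⟨i, rfl⟩ := mem_zpowers_iff.1 (hge x)
            obtain ⟨js, hjs⟩ := mem_zpowers_iff.1 (hge (s ge))
            obtain ⟨jt, hjt⟩ := mem_zpowers_iff.1 (hge (t ge))
            simp only [MulAut.mul_apply, map_zpow, ← hjt, ← hjs, ← zpow_mul]
            rw [mul_comm js jt]
          rw [_root_.commutator_def, commutator_le]
          intro a _ b _
          refine hAs.le (mem_centralizer_iff.2 fun x hx => ?_)
          have h1 : θ ⁅a, b⁆ = 1 := by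
            rw [map_commutatorElement, commutatorElement_eq_one_iff_mul_comm]; exact hab' _ _
          have h3 := congrArg Subtype.val (DFunLike.congr_fun h1 (⟨x, hx⟩ : A))
          rw [MulAut.conjNormal_apply, MulAut.one_apply] at h3
          exact (mul_inv_eq_iff_eq_mul.1 h3).symm
        refine (derived_le_of_commutator_le hle 1).trans ?_
        have : derivedSeries A 1 = ⊥ := by
          rw [derivedSeries_one, _root_.commutator_def, eq_bot_iff, commutator_le]
          intro a _ b _
          haveI := hAc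
          rw [mem_bot, commutatorElement_eq_one_iff_mul_comm]
          exact mul_comm' a b
        rw [this, Subgroup.map_bot]
      · left
        exact PGroup.exists_normal_elementary_sq hQp hp2 fun h =>
          hab (haveI := h; IsCyclic.commutative)
    · left
      haveI := hA
      haveI := hAc
      -- the elements of order dividing `p` in `A`
      let Ω : Subgroup ρ.range :=
        { carrier := {a | a ∈ A ∧ a ^ p = 1}
          one_mem' := ⟨one_mem _, one_pow _⟩
          mul_mem' := fun {a b} ha hb => ⟨mul_mem ha.1 hb.1, by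
            have hc : Commute a b := congrArg Subtype.val (mul_comm' (⟨a, ha.1⟩ : A) ⟨b, hb.1⟩)
            rw [hc.mul_pow, ha.2, hb.2, one_mul]⟩
          inv_mem' := fun {a} ha => ⟨inv_mem ha.1, by rw [inv_pow, ha.2, inv_one]⟩ }
      haveI hΩn : Ω.Normal := ⟨fun a ha g => ⟨hA.conj_mem a ha.1 g, by
        rw [conj_pow, ha.2, mul_one, mul_inv_cancel]⟩⟩
      obtain ⟨r, hr, -, a, ha, b, hb, har, hbr, ha1, hba⟩ :=
        Coprime.exists_independent_of_not_isCyclic A hAcyc
      have hrp : p = r := by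
        obtain ⟨k, hk⟩ := hQp a
        have h1 : orderOf a = r := by
          haveI : Fact r.Prime := ⟨hr⟩
          exact orderOf_eq_prime har ha1
        have h2 := orderOf_dvd_of_pow_eq_one hk
        rw [h1] at h2
        exact ((Nat.prime_dvd_prime_iff_eq hr hp').1 (hr.dvd_of_dvd_pow h2)).symm
      subst hrp
      obtain ⟨z, hzΩ, hzc, hzo⟩ := Involution.exists_central_mem_normal hQp Ω
        (fun h => ha1 ((eq_bot_iff_forall _).1 h a ⟨ha, har⟩))
      have hzn : (zpowers z).Normal := ⟨fun x hx g => by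
        obtain ⟨i, rfl⟩ := mem_zpowers_iff.1 hx
        rw [mem_center_iff.1 (zpow_mem hzc i) g, mul_inv_cancel_right]; exact hx⟩
      haveI := hzn
      let π := QuotientGroup.mk' (zpowers z)
      have hπ : Function.Surjective π := QuotientGroup.mk'_surjective _
      haveI : (Ω.map π).Normal := hΩn.map π hπ
      have hΩb : Ω.map π ≠ ⊥ := fun h => by
        rw [Subgroup.map_eq_bot_iff, QuotientGroup.ker_mk'] at h
        have haz : zpowers a = zpowers z := Subgroup.eq_of_le_of_card_ge
          (zpowers_le.2 (h ⟨ha, har⟩)) (by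
            haveI : Fact p.Prime := ⟨hp'⟩
            rw [Nat.card_zpowers, Nat.card_zpowers, hzo, orderOf_eq_prime har ha1])
        exact hba (haz ▸ h ⟨hb, hbr⟩)
      obtain ⟨w, hwΩ, hwc, hwo⟩ := Involution.exists_central_mem_normal
        (hQp.to_quotient (zpowers z)) (Ω.map π) hΩb
      obtain ⟨u, hu, rfl⟩ := hwΩ
      refine ⟨(zpowers (π u)).comap π, ?_, ?_, ?_, ?_⟩
      · refine Subgroup.Normal.comap ⟨fun x hx g => ?_⟩ π
        obtain ⟨i, rfl⟩ := mem_zpowers_iff.1 hx
        rw [mem_center_iff.1 (zpow_mem hwc i) g, mul_inv_cancel_right]; exact hx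
      all_goals
        have hsub : (zpowers (π u)).comap π ≤ Ω := fun x hx => by
          obtain ⟨i, hi⟩ := mem_zpowers_iff.1 (show π x ∈ zpowers (π u) from hx)
          rw [← map_zpow] at hi
          have h1 : (u ^ i)⁻¹ * x ∈ zpowers z := QuotientGroup.eq.1 hi
          have := mul_mem (zpow_mem hu i) (zpowers_le.2 hzΩ h1)
          rwa [mul_inv_cancel_left] at this
      · exact ⟨⟨fun x y => Subtype.ext (congrArg (fun t : A => (t : ρ.range))
          (mul_comm' (⟨x, (hsub x.2).1⟩ : A) ⟨y, (hsub y.2).1⟩))⟩⟩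
      · exact fun x hx => (hsub hx).2
      · have h1 := Thompson.relIndex_eq_card_map_mk' (zpowers z) ((zpowers (π u)).comap π)
        rw [map_comap_eq_self_of_surjective hπ, Nat.card_zpowers, hwo] at h1
        have hle : zpowers z ≤ (zpowers (π u)).comap π := fun x hx => by
          show π x ∈ zpowers (π u)
          rw [show π x = 1 from (QuotientGroup.eq_one_iff x).2 hx]; exact one_mem _
        have h2 := ((zpowers z).subgroupOf ((zpowers (π u)).comap π)).card_mul_index
        rw [Nat.card_congr (subgroupOfEquivOfLe hle).toEquiv, Nat.card_zpowers, hzo] at h2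
        rw [← h2, show ((zpowers z).subgroupOf ((zpowers (π u)).comap π)).index = p from h1, pow_two]
  rcases hE with ⟨E, hEn, hEc, hEp, hEcard⟩ | h
  swap
  · exact h
  haveI := hEn
  obtain ⟨z, hzE, hzc, hzo⟩ := Involution.exists_central_mem_normal hQp E
    (fun h => by
      rw [h, card_bot] at hEcard
      exact absurd hEcard.symm (Nat.one_lt_pow two_ne_zero hp'.one_lt).ne')
  have hz1 : z ≠ 1 := fun h => by rw [h, orderOf_one] at hzo; exact hp'.one_lt.ne hzo
  haveI : Nontrivial V := Module.nontrivial_of_finrank_pos (R := F) (by omega)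
  have hzfix : fix σ z = ⊥ := by
    refine (hirr (fix σ z) fun h w hw => fix_invariant ?_ hw).resolve_right fun h => hz1 ?_
    · rw [mul_assoc, ← mem_center_iff.1 hzc h, inv_mul_cancel_left]
    · refine Subtype.ext (LinearEquiv.ext fun x => ?_)
      exact mem_fix.1 (h ▸ Submodule.mem_top)
  obtain ⟨u₀, hu₀E, hu₀z⟩ : ∃ u ∈ E, u ∉ zpowers z := by
    by_contra h
    push Not at h
    have := Subgroup.card_le_of_le (show E ≤ zpowers z from h)
    rw [hEcard, Nat.card_zpowers, hzo, pow_two] at this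
    have := Nat.le_of_mul_le_mul_left (this.trans_eq (mul_one p).symm) hp'.pos
    exact absurd this (by have := hp'.one_lt; omega)
  have hcE : ∀ x ∈ E, ∀ y ∈ E, Commute x y := fun x hx y hy =>
    congrArg Subtype.val (mul_comm' (⟨x, hx⟩ : E) ⟨y, hy⟩)
  obtain ⟨i, hi⟩ := exists_fixed hp σ (hcE z hzE u₀ hu₀E) (hEp z hzE) (hEp u₀ hu₀E) hzfix
  set u := u₀ * z ^ i with hudef
  have huE : u ∈ E := mul_mem hu₀E (pow_mem hzE i)
  have huz : u ∉ zpowers z := fun h =>
    hu₀z ((Subgroup.mul_mem_cancel_right (zpowers z) (pow_mem (mem_zpowers z) i)).1 h)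
  have hu1 : u ≠ 1 := fun h => huz (h ▸ one_mem _)
  set W := fix σ u
  have hWtop : W ≠ ⊤ := fun h => hu1 (Subtype.ext (LinearEquiv.ext fun x =>
    mem_fix.1 (h ▸ Submodule.mem_top)))
  -- commutators with `u` lie in `⟨z⟩`
  have hcomm : ∀ g : ρ.range, g * u * g⁻¹ * u⁻¹ ∈ zpowers z := by
    intro g
    haveI : (zpowers z).Normal := ⟨fun x hx g => by
      obtain ⟨i, rfl⟩ := mem_zpowers_iff.1 hx
      rw [mem_center_iff.1 (zpow_mem hzc i) g, mul_inv_cancel_right]; exact hx⟩
    let π := QuotientGroup.mk' (zpowers z)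
    haveI : (E.map π).Normal := hEn.map π (QuotientGroup.mk'_surjective _)
    have hcard : Nat.card (E.map π) = p := by
      rw [← Thompson.relIndex_eq_card_map_mk']
      have h2 := ((zpowers z).subgroupOf E).card_mul_index
      rw [Nat.card_congr (subgroupOfEquivOfLe (zpowers_le.2 hzE)).toEquiv, Nat.card_zpowers, hzo,
        hEcard, pow_two] at h2
      exact Nat.eq_of_mul_eq_mul_left hp'.pos h2
    have h3 : π u ∈ center _ :=
      PGroup.le_center_of_card_eq_prime (hQp.to_quotient _) hcard (mem_map_of_mem π huE)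
    rw [← QuotientGroup.eq_one_iff]
    show π (g * u * g⁻¹ * u⁻¹) = 1
    rw [map_mul, map_mul, map_mul, map_inv, map_inv, mem_center_iff.1 h3 (π g)]; group
  set N : Subgroup ρ.range := centralizer ({u} : Set ρ.range)
  let κ : ρ.range →* ρ.range :=
    { toFun := fun g => g * u * g⁻¹ * u⁻¹
      map_one' := by group
      map_mul' := fun a b => by
        obtain ⟨j, hj⟩ := mem_zpowers_iff.1 (hcomm b)
        calc a * b * u * (a * b)⁻¹ * u⁻¹ = a * (b * u * b⁻¹ * u⁻¹) * (u * a⁻¹ * u⁻¹) := by group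
          _ = (b * u * b⁻¹ * u⁻¹) * a * (u * a⁻¹ * u⁻¹) := by
            rw [← hj, mem_center_iff.1 (zpow_mem hzc j) a]
          _ = (b * u * b⁻¹ * u⁻¹) * (a * u * a⁻¹ * u⁻¹) := by group
          _ = (a * u * a⁻¹ * u⁻¹) * (b * u * b⁻¹ * u⁻¹) := by
            rw [← hj, mem_center_iff.1 (zpow_mem hzc j) _] }
  have hκ : κ.ker = N := by
    ext g
    rw [MonoidHom.mem_ker, mem_centralizer_singleton_iff]
    show g * u * g⁻¹ * u⁻¹ = 1 ↔ _
    rw [mul_inv_eq_one, mul_inv_eq_iff_eq_mul]
  have hNc : commutator ρ.range ≤ N := by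
    rw [← hκ, _root_.commutator_def, commutator_le]
    intro a _ b _
    rw [MonoidHom.mem_ker, map_commutatorElement, commutatorElement_eq_one_iff_mul_comm]
    obtain ⟨j, hj⟩ := mem_zpowers_iff.1 (hcomm a)
    show κ a * κ b = κ b * κ a
    have hja : κ a = z ^ j := hj.symm
    rw [hja, mem_center_iff.1 (zpow_mem hzc j) (κ b)]
  have hWinv : ∀ n : N, ∀ w ∈ W, σ (n : ρ.range) w ∈ W := fun n w hw => fix_invariant (by
    rw [mul_assoc, ← mem_centralizer_singleton_iff.1 n.2, inv_mul_cancel_left]) hw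
  -- an element moving `W` to a disjoint subspace
  obtain ⟨g₁, hg₁⟩ : ∃ g₁, g₁ ∉ N := by
    by_contra hcon
    push Not at hcon
    rcases hirr W (fun g w hw => hWinv ⟨g, hcon g⟩ w hw) with h | h
    · exact hi h
    · exact hWtop h
  have hdisj : Disjoint W (W.map (σ g₁ : V →ₗ[F] V)) := by
    rw [Submodule.disjoint_def]
    rintro x hx ⟨y, hy, rfl⟩
    rw [mem_fix] at hx
    have hc : σ (g₁ * u * g₁⁻¹) (σ g₁ y) = σ g₁ y := by
      rw [← LinearEquiv.mul_apply, ← map_mul, inv_mul_cancel_right, map_mul, LinearEquiv.mul_apply,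
        mem_fix.1 hy]
    obtain ⟨j, hj⟩ := mem_zpowers_iff.1 (hcomm g₁)
    have hzj : σ (z ^ j) (σ g₁ y) = σ g₁ y := by
      have e : g₁ * u * g₁⁻¹ = z ^ j * u := by rw [hj]; group
      rw [e, map_mul, LinearEquiv.mul_apply] at hc
      change σ u (σ g₁ y) = σ g₁ y at hx
      rwa [hx] at hc
    have hzj1 : z ^ j ≠ 1 := fun h => hg₁ (by
      rw [← hκ, MonoidHom.mem_ker]
      show g₁ * u * g₁⁻¹ * u⁻¹ = 1
      rw [← hj, h])
    have hgen : z ∈ zpowers (z ^ j) := by
      have hle : zpowers (z ^ j) ≤ zpowers z := zpowers_le.2 (zpow_mem (mem_zpowers z) j)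
      have hoj : orderOf (z ^ j) = p := by
        refine orderOf_eq_prime ?_ hzj1
        rw [← zpow_natCast, ← zpow_mul, mul_comm, zpow_mul, zpow_natCast, ← hzo, pow_orderOf_eq_one,
          one_zpow]
      rw [Subgroup.eq_of_le_of_card_ge hle (by rw [Nat.card_zpowers, Nat.card_zpowers, hzo, hoj])]
      exact mem_zpowers z
    rw [← mem_powers_iff_mem_zpowers] at hgen
    obtain ⟨k, hk⟩ := hgen
    have hfix : σ z (σ g₁ y) = σ g₁ y := by
      rw [← hk]
      clear hk
      induction k with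
      | zero => simp
      | succ k ih =>
        show σ ((z ^ j) ^ (k + 1)) _ = _
        rw [pow_succ, map_mul, LinearEquiv.mul_apply, hzj]
        exact ih
    have hm : σ g₁ y ∈ fix σ z := mem_fix.2 hfix
    rwa [hzfix, Submodule.mem_bot] at hm
  have hdW : 2 * Module.finrank F W ≤ d := by
    have h1 := Submodule.finrank_add_finrank_le_of_disjoint hdisj
    have h2 : Module.finrank F (W.map (σ g₁ : V →ₗ[F] V)) = Module.finrank F W :=
      LinearEquiv.finrank_map_eq (σ g₁) W
    omega
  have hWe : e ∣ Module.finrank F W := by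
    have hzN : z ∈ N := mem_centralizer_singleton_iff.2 (mem_center_iff.1 hzc u).symm
    refine hdvd (restrict (σ.comp N.subtype) W hWinv) ⟨z, hzN⟩
      (by rw [Subgroup.orderOf_mk]; exact hzo) ?_
    rw [Submodule.eq_bot_iff]
    intro x hx
    have h1 : σ z (x : V) = x := congrArg Subtype.val (mem_fix.1 hx)
    have h2 : (x : V) ∈ fix σ z := mem_fix.2 h1
    rw [hzfix, Submodule.mem_bot] at h2
    exact Subtype.ext h2
  have he0 : 0 < Module.finrank F W := by
    haveI : Nontrivial W := Submodule.nontrivial_iff_ne_bot.2 hi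
    exact Module.finrank_pos
  have hsucc : L e (Module.finrank F W) + 1 ≤ L e d := by
    have hepos : 0 < e := Nat.pos_of_ne_zero fun h => by rw [h, zero_dvd_iff] at hWe; omega
    have hle : Module.finrank F W / e ≤ d / e / 2 := by
      rw [Nat.div_div_eq_div_mul, mul_comm e 2, ← Nat.div_div_eq_div_mul]
      exact Nat.div_le_div_right ((Nat.le_div_iff_mul_le two_pos).2 (by omega))
    have h1 : 1 ≤ Module.finrank F W / e :=
      (Nat.le_div_iff_mul_le hepos).2 (by rw [one_mul]; exact Nat.le_of_dvd he0 hWe)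
    have h2 : 2 ≤ d / e := by omega
    have h3 := Nat.log_mono_right (b := 2) hle
    have h4 : Nat.log 2 (d / e / 2) + 1 = Nat.log 2 (d / e) := by
      rw [Nat.log_div_base]; have := Nat.log_pos one_lt_two h2; omega
    unfold L
    omega
  -- the derived subgroup fixes every translate of `W`
  set D := derivedSeries ρ.range (L e d)
  have hDW : ∀ x ∈ D, ∀ w ∈ W, σ x w = w := by
    intro x hx w hw
    obtain ⟨y, hy, rfl⟩ := derived_le_of_commutator_le hNc _ (derivedSeries_antitone _ hsucc hx)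
    exact congrArg Subtype.val (IH (Module.finrank F W) (by omega) (restrict (σ.comp N.subtype) W hWinv) rfl
      (hQp.to_subgroup N) y hy ⟨w, hw⟩)
  let U : Submodule F V := ⨅ x : D, fix σ (x : ρ.range)
  have hU : ∀ g : ρ.range, ∀ w ∈ U, σ g w ∈ U := by
    intro g w hw
    simp only [U, Submodule.mem_iInf, mem_fix] at hw ⊢
    intro x
    have hDn : D.Normal := derivedSeries_normal _ _
    have h := hw ⟨g⁻¹ * (x : ρ.range) * g, by simpa using hDn.conj_mem _ x.2 g⁻¹⟩
    calc σ (x : ρ.range) (σ g w) = σ g (σ (g⁻¹ * (x : ρ.range) * g) w) := by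
          rw [← LinearEquiv.mul_apply, ← LinearEquiv.mul_apply, ← map_mul, ← map_mul]
          congr 2; group
      _ = σ g w := by rw [h]
  have hWU : W ≤ U := fun w hw => by
    simp only [U, Submodule.mem_iInf, mem_fix]
    exact fun x => hDW x x.2 w hw
  rcases hirr U hU with h | h
  · exact absurd (le_bot_iff.1 (h ▸ hWU)) hi
  · rw [eq_bot_iff]
    intro x hx
    rw [mem_bot]
    refine Subtype.ext (LinearEquiv.ext fun y => ?_)
    have hy : y ∈ U := h ▸ Submodule.mem_top
    simp only [U, Submodule.mem_iInf, mem_fix] at hy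
    exact hy ⟨x, hx⟩

theorem main [Fintype F] (hp : (p : F) ≠ 0) {e : ℕ} (he : e = orderOf (Fintype.card F : ZMod p)) :
    ∀ (d : ℕ) {V : Type u} [AddCommGroup V] [Module F V] [FiniteDimensional F V] {P : Type u}
      [Group P] [Finite P] (ρ : P →* (V ≃ₗ[F] V)), Module.finrank F V = d → IsPGroup p P →
      ∀ g ∈ derivedSeries P (L e d), ∀ v, ρ g v = v := by
  refine main_gen hp (fun hp2 => ?_) (fun σ z hz hfix => dvd_finrank σ hz hfix he)
  subst hp2
  rw [he, orderOf_eq_one_iff]
  have : ((Fintype.card F : ℕ) : ZMod 2) ≠ 0 := fun h0 => by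
    rw [ZMod.natCast_eq_zero_iff] at h0
    obtain ⟨k, hk⟩ := h0
    have h2' : ((2 : ℕ) : F) * (k : F) = 0 := by
      rw [← Nat.cast_mul, ← hk]; exact Nat.cast_card_eq_zero F
    obtain ⟨r, hr⟩ := CharP.exists F
    haveI := hr
    obtain ⟨m, hrp, hm⟩ := FiniteField.card F r
    have : r ∣ 2 * k := by rw [← hk, hm]; exact dvd_pow_self r m.ne_zero
    have h3 : 2 ∣ r ^ (m : ℕ) := by rw [← hm, hk]; exact dvd_mul_right 2 k
    have : r = 2 := ((Nat.prime_dvd_prime_iff_eq Nat.prime_two hrp).1
      (Nat.prime_two.dvd_of_dvd_pow h3)).symm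
    subst this
    exact hp (CharP.cast_eq_zero F 2)
  exact zmod2_eq_one _ this

end Cfsg.Agent.FGS82.LinDL
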