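import Mathlib
import Cfsg.Prelude.Def_CaseTheorems
import Cfsg.Agent.Lib.PGroup.Basic

/-! Two normalising non-abelian subgroups with small centres in a 2-group of sectional rank four. -/

set_option autoImplicit false

namespace Cfsg.Agent.FGS82

open Subgroup

variable {S : Type*} [Group S]

/-- the image of a subgroup in a group of exponent two has bounded order -/
theorem ea_image_le {k : ℕ} (hr : Cfsg.SectionalPRankLE 2 k S) {K E : Type*} [Group K] [Group E]
    (j : K →* S) (hj : Function.Injective j) (f : K →* E) (hf : Function.Surjective f)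
    (hE : ∀ x : E, x * x = 1) : Nat.card E ≤ 2 ^ k := by
  let e : K ≃* j.range := MonoidHom.ofInjective hj
  let g : j.range →* E := f.comp e.symm.toMonoidHom
  have hg : Function.Surjective g := hf.comp e.symm.surjective
  let q := QuotientGroup.quotientKerEquivOfSurjective g hg
  have hc : ∀ a b : E, a * b = b * a := fun a b => by
    have h := hE (a * b)
    calc a * b = (a * b)⁻¹ := (inv_eq_of_mul_eq_one_right h).symm
      _ = b⁻¹ * a⁻¹ := mul_inv_rev a b
      _ = b * a := by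
        rw [inv_eq_of_mul_eq_one_right (hE a), inv_eq_of_mul_eq_one_right (hE b)]
  have h := hr j.range g.ker ⊤
    ⟨⟨fun a b => Subtype.ext (q.injective (by simp [hc]))⟩⟩
    (fun a _ => q.injective (by rw [map_pow, pow_two, hE, map_one]))
  rwa [Subgroup.card_top, Nat.card_congr q.toEquiv] at h

/-- `z` is the unique involution in the centre of `P` -/
structure Cz (P : Subgroup S) (z : S) : Prop where
  mem : z ∈ P
  ne : z ≠ 1
  comm : ∀ y ∈ P, y * z = z * y
  only : ∀ x ∈ P, (∀ y ∈ P, y * x = x * y) → x = 1 ∨ x = z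

theorem exists_cz {P : Subgroup S} (hZ : Nat.card (center P) = 2) :
    ∃ z, Cz P z ∧ (center P).map P.subtype = Subgroup.zpowers z := by
  obtain ⟨z, hz1, hu⟩ := (Nat.card_eq_two_iff' (1 : center P)).1 hZ
  have honly : ∀ x : P, x ∈ center P → (x : S) = 1 ∨ (x : S) = z.1.1 := fun x hx => by
    by_cases h : x = 1
    · exact Or.inl (congrArg Subtype.val h)
    · right
      exact congrArg (fun t : center P => (t.1 : S))
        (hu ⟨x, hx⟩ fun e => h (congrArg Subtype.val e))
  refine ⟨z.1.1, ⟨z.1.2, fun h => hz1 (Subtype.ext (Subtype.ext h)), fun y hy =>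
    congrArg Subtype.val (mem_center_iff.1 z.2 ⟨y, hy⟩), fun x hx h =>
    honly ⟨x, hx⟩ (mem_center_iff.2 fun y => Subtype.ext (h y.1 y.2))⟩, ?_⟩
  refine le_antisymm ?_ ?_
  · rintro _ ⟨x, hx, rfl⟩
    rcases honly x hx with h | h
    · rw [Subgroup.subtype_apply, h]; exact one_mem _
    · rw [Subgroup.subtype_apply, h]; exact mem_zpowers _
  · exact zpowers_le.2 ⟨z.1, z.2, rfl⟩

theorem Cz.sq [Finite S] {P : Subgroup S} {z : S} (hP : Cz P z) (h2 : IsPGroup 2 S) :
    z * z = 1 := by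
  refine (hP.only _ (mul_mem hP.mem hP.mem) fun y hy => ?_).resolve_right fun h => ?_
  · rw [← mul_assoc, hP.comm y hy, mul_assoc, hP.comm y hy, ← mul_assoc]
  · exact hP.ne (mul_eq_left.1 h)

theorem Cz.mem_of_normal [Finite S] {P N : Subgroup S} {z : S} (hP : Cz P z) (h2 : IsPGroup 2 S)
    (hn : ∀ x ∈ P, ∀ n ∈ N, x * n * x⁻¹ ∈ N) (hne : P ⊓ N ≠ ⊥) : z ∈ N := by
  haveI : Fact (Nat.Prime 2) := ⟨Nat.prime_two⟩
  haveI : (N.subgroupOf P).Normal := ⟨fun n hn' g => hn g.1 g.2 n.1 hn'⟩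
  have hne' : N.subgroupOf P ≠ ⊥ := by
    rw [Ne, subgroupOf_eq_bot]
    exact fun h => hne (by rw [inf_comm]; exact h.eq_bot)
  have := PGroup.inf_center_ne_bot (h2.to_subgroup P) (N := N.subgroupOf P) hne'
  rw [Subgroup.ne_bot_iff_exists_ne_one] at this
  obtain ⟨⟨x, hxN, hxc⟩, hx1⟩ := this
  rcases hP.only x.1 x.2 (fun y hy => congrArg Subtype.val (mem_center_iff.1 hxc ⟨y, hy⟩)) with
    h | h
  · exact absurd (Subtype.ext (Subtype.ext h)) hx1
  · exact h ▸ hxN

section Pair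

variable [Finite S] {P Q : Subgroup S} {z z' : S}

theorem pair_disjoint (h2 : IsPGroup 2 S) (hPz : Cz P z) (hQz : Cz Q z') (hne : z ≠ z')
    (hPQ : ∀ x ∈ P, ∀ n ∈ Q, x * n * x⁻¹ ∈ Q) (hQP : ∀ x ∈ Q, ∀ n ∈ P, x * n * x⁻¹ ∈ P) :
    P ⊓ Q = ⊥ ∧ ∀ x ∈ P, ∀ y ∈ Q, x * y = y * x := by
  have hinf : P ⊓ Q = ⊥ := by
    by_contra h
    have hz : z ∈ Q := hPz.mem_of_normal h2 hPQ h
    have hz' : z' ∈ P := hQz.mem_of_normal h2 hQP (by rwa [inf_comm])
    have hN : ∀ x ∈ Q, ∀ n ∈ Subgroup.zpowers z, x * n * x⁻¹ ∈ Subgroup.zpowers z := by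
      intro x hx n hn
      have hxz : x * z * x⁻¹ = z := by
        refine (hPz.only _ (hQP x hx z hPz.mem) fun y hy => ?_).resolve_left fun e =>
          hPz.ne (conj_eq_one_iff.1 e)
        have hy' : x⁻¹ * y * x ∈ P := by simpa using hQP x⁻¹ (inv_mem hx) y hy
        have := hPz.comm _ hy'
        calc y * (x * z * x⁻¹) = x * ((x⁻¹ * y * x) * z) * x⁻¹ := by group
          _ = x * (z * (x⁻¹ * y * x)) * x⁻¹ := by rw [this]
          _ = x * z * x⁻¹ * y := by group
      obtain ⟨i, rfl⟩ := mem_zpowers_iff.1 hn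
      rw [← conj_zpow, hxz]
      exact mem_zpowers_iff.2 ⟨i, rfl⟩
    have : z' ∈ Subgroup.zpowers z := hQz.mem_of_normal h2 hN fun e => hPz.ne
      ((Subgroup.eq_bot_iff_forall _).1 e z ⟨hz, mem_zpowers z⟩)
    have hle : Subgroup.zpowers z ≤ P ⊓ Q := zpowers_le.2 ⟨hPz.mem, hz⟩
    obtain ⟨i, hi⟩ := mem_zpowers_iff.1 this
    rcases Int.even_or_odd' i with ⟨j, rfl | rfl⟩
    · rw [zpow_mul, zpow_two, hPz.sq h2, one_zpow] at hi; exact hQz.ne hi.symm
    · rw [zpow_add, zpow_mul, zpow_two, hPz.sq h2, one_zpow, one_mul, zpow_one] at hi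
      exact hne hi
  refine ⟨hinf, fun x hx y hy => ?_⟩
  have h : x * y * x⁻¹ * y⁻¹ ∈ P ⊓ Q :=
    Subgroup.mem_inf.2 ⟨by simpa [mul_assoc] using mul_mem hx (hQP y hy x⁻¹ (inv_mem hx)),
      mul_mem (hPQ x hx y hy) (inv_mem hy)⟩
  rw [hinf, mem_bot] at h
  exact mul_inv_eq_iff_eq_mul.1 (mul_inv_eq_one.1 h)

/-- the map from the external product -/
def pairHom (hc : ∀ x ∈ P, ∀ y ∈ Q, x * y = y * x) : P × Q →* S :=
  MonoidHom.noncommCoprod P.subtype Q.subtype fun x y => hc x.1 x.2 y.1 y.2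

theorem pairHom_apply (hc : ∀ x ∈ P, ∀ y ∈ Q, x * y = y * x) (t : P × Q) :
    pairHom hc t = t.1 * t.2 := rfl

theorem pairHom_injective (hc : ∀ x ∈ P, ∀ y ∈ Q, x * y = y * x) (hd : P ⊓ Q = ⊥) :
    Function.Injective (pairHom hc) := by
  rw [injective_iff_map_eq_one]
  rintro ⟨x, y⟩ h
  rw [pairHom_apply] at h
  have hm : (x : S) ∈ P ⊓ Q :=
    Subgroup.mem_inf.2 ⟨x.2, by rw [eq_inv_of_mul_eq_one_left h]; exact inv_mem y.2⟩
  rw [hd, mem_bot] at hm
  rw [hm, one_mul] at h
  exact Prod.ext (Subtype.ext hm) (Subtype.ext h)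

theorem four_le_index_frattini (h2 : IsPGroup 2 S) {P : Subgroup S}
    (hP : ¬ IsMulCommutative P) : 4 ≤ (frattini P).index := by
  haveI : Fact (Nat.Prime 2) := ⟨Nat.prime_two⟩
  by_contra h
  obtain ⟨n, hn⟩ := (h2.to_subgroup P).index (frattini P)
  have hle : (frattini P).index ≤ 2 := by
    rw [hn] at h ⊢
    rcases n with _ | _ | n
    · norm_num
    · norm_num
    · exact absurd (Nat.pow_le_pow_right (n := 2) (by norm_num) (by omega : 2 ≤ n + 2)) (by omega)
  haveI := PGroup.isCyclic_of_index_frattini_le (h2.to_subgroup P) hle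
  exact hP IsCyclic.commutative

theorem Cz.mem_frattini (h2 : IsPGroup 2 S) {P : Subgroup S} {z : S} (hP : Cz P z)
    (hnc : ¬ IsMulCommutative P) : (⟨z, hP.mem⟩ : P) ∈ frattini P := by
  haveI : Fact (Nat.Prime 2) := ⟨Nat.prime_two⟩
  have hne : frattini P ≠ ⊥ := fun h => hnc ⟨⟨fun a b => by
    have := PGroup.comm_mem_frattini (h2.to_subgroup P) a b
    rw [h, mem_bot] at this
    exact commutatorElement_eq_one_iff_mul_comm.1 this⟩⟩
  have := PGroup.inf_center_ne_bot (h2.to_subgroup P) (N := frattini P) hne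
  rw [Subgroup.ne_bot_iff_exists_ne_one] at this
  obtain ⟨⟨x, hxN, hxc⟩, hx1⟩ := this
  rcases hP.only x.1 x.2 (fun y hy => congrArg Subtype.val (mem_center_iff.1 hxc ⟨y, hy⟩)) with
    h | h
  · exact absurd (Subtype.ext (Subtype.ext h)) hx1
  · rwa [show (⟨z, hP.mem⟩ : P) = x from Subtype.ext h.symm]

theorem centralizer_le_sup (h2 : IsPGroup 2 S) (hr : Cfsg.SectionalPRankLE 2 4 S)
    (hPz : Cz P z) (hQz : Cz Q z') (hP : ¬ IsMulCommutative P) (hQ : ¬ IsMulCommutative Q)
    (hd : P ⊓ Q = ⊥) (hc : ∀ x ∈ P, ∀ y ∈ Q, x * y = y * x) (c : S)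
    (hcP : ∀ x ∈ P, x * c = c * x) (hcQ : ∀ y ∈ Q, y * c = c * y) : c ∈ P ⊔ Q := by
  haveI : Fact (Nat.Prime 2) := ⟨Nat.prime_two⟩
  set φ := pairHom hc
  have hφ : Function.Injective φ := pairHom_injective hc hd
  have hRle : φ.range ≤ P ⊔ Q := by
    rintro _ ⟨t, rfl⟩
    exact mul_mem (mem_sup_left t.1.2) (mem_sup_right t.2.2)
  by_contra hcR
  have hcR' : c ∉ φ.range := fun h => hcR (hRle h)
  have hcomm : ∀ r ∈ φ.range, r * c = c * r := by
    rintro _ ⟨t, rfl⟩
    rw [pairHom_apply, mul_assoc, hcQ _ t.2.2, ← mul_assoc, hcP _ t.1.2, mul_assoc]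
  -- replace `c` by the last power outside the range
  obtain ⟨d, hd1, hd2, hdc⟩ : ∃ d, d ∉ φ.range ∧ d * d ∈ φ.range ∧
      ∀ r ∈ φ.range, r * d = d * r := by
    obtain ⟨n, hn⟩ := h2 c
    clear hcR hcP hcQ
    induction n generalizing c with
    | zero => rw [pow_zero, pow_one] at hn; exact absurd (hn ▸ one_mem _) hcR'
    | succ n ih =>
      by_cases h : c * c ∈ φ.range
      · exact ⟨c, hcR', h, hcomm⟩
      · refine ih (c * c) h (fun r hr => by rw [← mul_assoc, hcomm r hr, mul_assoc, hcomm r hr,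
          ← mul_assoc]) ?_
        rw [← pow_two, ← pow_mul, ← pow_succ']; exact hn
  set H := φ.range ⊔ Subgroup.zpowers d
  set K0 := (frattini P).prod (frattini Q)
  set K := K0.map φ
  have hKR : K ≤ φ.range := map_le_range _ _
  have hdd : d * d ∈ K := by
    obtain ⟨t, ht⟩ := hd2
    have hzt : ∀ u : P × Q, u * t = t * u := fun u => hφ (by
      have := hdc (φ u) ⟨u, rfl⟩
      rw [map_mul, map_mul, ht, ← mul_assoc, this, mul_assoc, this, ← mul_assoc])
    refine ⟨t, mem_prod.2 ⟨?_, ?_⟩, ht⟩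
    · rcases hPz.only t.1.1 t.1.2 fun y hy =>
        congrArg (fun u : P × Q => (u.1 : S)) (hzt (⟨y, hy⟩, 1)) with h | h
      · rw [show t.1 = 1 from Subtype.ext h]; exact one_mem _
      · rw [show t.1 = ⟨z, hPz.mem⟩ from Subtype.ext h]; exact hPz.mem_frattini h2 hP
    · rcases hQz.only t.2.1 t.2.2 fun y hy =>
        congrArg (fun u : P × Q => (u.2 : S)) (hzt (1, ⟨y, hy⟩)) with h | h
      · rw [show t.2 = 1 from Subtype.ext h]; exact one_mem _
      · rw [show t.2 = ⟨z', hQz.mem⟩ from Subtype.ext h]; exact hQz.mem_frattini h2 hQ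
  have hRsq : ∀ r ∈ φ.range, r * r ∈ K := by
    rintro _ ⟨t, rfl⟩
    exact ⟨t * t, mem_prod.2 ⟨by simpa [pow_two] using PGroup.pow_mem_frattini (h2.to_subgroup P) t.1,
      by simpa [pow_two] using PGroup.pow_mem_frattini (h2.to_subgroup Q) t.2⟩, map_mul _ _ _⟩
  have hH : ∀ x ∈ H, x ∈ φ.range ∨ x * d⁻¹ ∈ φ.range := by
    intro x hx
    have hcd : ∀ r ∈ φ.range, d⁻¹ * r = r * d⁻¹ := fun r hr =>
      (Commute.inv_right (show Commute r d from hdc r hr)).symm.eq
    have hd2' : d⁻¹ * d⁻¹ ∈ φ.range := by rw [← mul_inv_rev]; exact inv_mem hd2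
    change x ∈ φ.range ⊔ Subgroup.zpowers d at hx
    rw [zpowers_eq_closure, ← Subgroup.closure_eq φ.range, ← Subgroup.closure_union] at hx
    induction hx using closure_induction with
    | mem y hy =>
      rcases hy with hy | hy
      · exact Or.inl hy
      · exact Or.inr (by rw [Set.mem_singleton_iff.1 hy, mul_inv_cancel]; exact one_mem _)
    | one => exact Or.inl (one_mem _)
    | mul a b _ _ ha hb =>
      rcases ha with ha | ha <;> rcases hb with hb | hb
      · exact Or.inl (mul_mem ha hb)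
      · exact Or.inr (by rw [mul_assoc]; exact mul_mem ha hb)
      · exact Or.inr (by rw [mul_assoc, ← hcd b hb, ← mul_assoc]; exact mul_mem ha hb)
      · left
        have : a * b = (a * d⁻¹) * (b * d⁻¹) * (d * d) := by
          have e := hdc _ hb
          calc a * b = a * d⁻¹ * (d * (b * d⁻¹)) * d := by group
            _ = _ := by rw [← e]; group
        rw [this]; exact mul_mem (mul_mem ha hb) hd2
    | inv a _ ha =>
      rcases ha with ha | ha
      · exact Or.inl (inv_mem ha)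
      · right
        have : a⁻¹ * d⁻¹ = (a * d⁻¹)⁻¹ * (d⁻¹ * d⁻¹) := by
          have e := hcd _ (inv_mem ha)
          rw [← mul_assoc, ← e]; group
        rw [this]; exact mul_mem (inv_mem ha) hd2'
  haveI hKN : (K.subgroupOf H).Normal := by
    refine ⟨fun k hk x => ?_⟩
    have hmem : ∀ r ∈ φ.range, ∀ k ∈ K, r * k * r⁻¹ ∈ K := by
      rintro _ ⟨u, rfl⟩ _ ⟨v, hv, rfl⟩
      refine ⟨u * v * u⁻¹, mem_prod.2 ⟨?_, ?_⟩, by rw [map_mul, map_mul, map_inv]⟩
      · exact (inferInstance : (frattini P).Normal).conj_mem _ (mem_prod.1 hv).1 u.1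
      · exact (inferInstance : (frattini Q).Normal).conj_mem _ (mem_prod.1 hv).2 u.2
    rcases hH x x.2 with hx | hx
    · exact hmem _ hx _ hk
    · have e : (x : S) * k * (x : S)⁻¹ = (x * d⁻¹) * k * (x * d⁻¹)⁻¹ := by
        calc (x : S) * k * (x : S)⁻¹ = (x * d⁻¹) * (d * k) * d⁻¹ * (x * d⁻¹)⁻¹ := by group
          _ = _ := by rw [← (hdc (k : S) (hKR hk) : (k : S) * d = d * k)]; group
      show (x : S) * k * (x : S)⁻¹ ∈ K
      rw [e]; exact hmem _ hx _ hk
  have hE : ∀ x : H ⧸ K.subgroupOf H, x * x = 1 := fun x => by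
    induction x using QuotientGroup.induction_on with
    | H y =>
      rw [← QuotientGroup.mk_mul, QuotientGroup.eq_one_iff]
      show (y : S) * y ∈ K
      rcases hH y y.2 with hy | hy
      · exact hRsq _ hy
      · have e : (y : S) * y = (y * d⁻¹) * (y * d⁻¹) * (d * d) := by
          have e' := hdc _ hy
          calc (y : S) * y = y * d⁻¹ * (d * (y * d⁻¹)) * d := by group
            _ = _ := by rw [← e']; group
        rw [e]; exact mul_mem (hRsq _ hy) hdd
  have hb := ea_image_le hr H.subtype H.subtype_injective (QuotientGroup.mk' (K.subgroupOf H))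
    (QuotientGroup.mk'_surjective _) hE
  change K.relIndex H ≤ 2 ^ 4 at hb
  rw [← relIndex_mul_relIndex K φ.range H hKR le_sup_left] at hb
  have h16 : 16 ≤ K.relIndex φ.range := by
    rw [MonoidHom.range_eq_map, relIndex_map_map_of_injective _ _ hφ, relIndex_top_right,
      index_prod]
    exact Nat.mul_le_mul (four_le_index_frattini h2 hP) (four_le_index_frattini h2 hQ)
  have h2le : 2 ≤ φ.range.relIndex H := by
    have h0 : φ.range.relIndex H ≠ 0 := (φ.range.subgroupOf H).index_ne_zero_of_finite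
    have h1 : φ.range.relIndex H ≠ 1 := fun h =>
      hd1 (relIndex_eq_one.1 h (mem_sup_right (mem_zpowers d)))
    omega
  nlinarith

/-- sectional rank at most four for a product forces at most two for the factors -/
theorem rank_two (hr : Cfsg.SectionalPRankLE 2 4 S) (hd : P ⊓ Q = ⊥)
    (hc : ∀ x ∈ P, ∀ y ∈ Q, x * y = y * x) (e : P ≃* Q) : Cfsg.SectionalPRankLE 2 2 P := by
  intro H N _ A hAc hA2
  let K : Subgroup H := A.comap (QuotientGroup.mk' N)
  let f : K →* A := (QuotientGroup.mk' N).subgroupComap A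
  have hf : Function.Surjective f :=
    MonoidHom.subgroupComap_surjective_of_surjective _ _ (QuotientGroup.mk'_surjective N)
  let i : K →* P := H.subtype.comp K.subtype
  have hi : Function.Injective i := H.subtype_injective.comp K.subtype_injective
  let j : K × K →* S := (pairHom hc).comp (i.prodMap (e.toMonoidHom.comp i))
  have hj : Function.Injective j :=
    (pairHom_injective hc hd).comp (Prod.map_injective.2 ⟨hi, e.injective.comp hi⟩)
  have h := ea_image_le hr j hj (f.prodMap f) (hf.prodMap hf) (fun x => Prod.ext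
    (Subtype.ext (by simpa [pow_two] using hA2 _ x.1.2))
    (Subtype.ext (by simpa [pow_two] using hA2 _ x.2.2)))
  rw [Nat.card_prod] at h
  nlinarith

end Pair

end Cfsg.Agent.FGS82
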