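import Mathlib
import Cfsg.Prelude.Def_OddOrderLocal
import Cfsg.Agent.FGS82.PairNormal
import Cfsg.Agent.Lib.PGroup.Basic
import Cfsg.Agent.Lib.Involution.NormalFour

/-! A 2-group of sectional rank at most two is metacyclic. -/

set_option autoImplicit false

namespace Cfsg.Agent.FGS82.Meta2

open Subgroup
open scoped commutatorElement

variable {S : Type*} [Group S]

theorem rank_of_surjective {T : Type*} [Group T] {k : ℕ} (hr : Cfsg.SectionalPRankLE 2 k S)
    (f : S →* T) (hf : Function.Surjective f) : Cfsg.SectionalPRankLE 2 k T := by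
  intro H N _ A _ hA2
  let g : H.comap f →* H := f.subgroupComap H
  have hg : Function.Surjective g := MonoidHom.subgroupComap_surjective_of_surjective _ _ hf
  let π := (QuotientGroup.mk' N).comp g
  have hπ : Function.Surjective π := (QuotientGroup.mk'_surjective N).comp hg
  let ρ := π.subgroupComap A
  have hρ : Function.Surjective ρ := MonoidHom.subgroupComap_surjective_of_surjective _ _ hπ
  exact ea_image_le hr ((H.comap f).subtype.comp (A.comap π).subtype)
    ((H.comap f).subtype_injective.comp (A.comap π).subtype_injective) ρ hρ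
    (fun a => Subtype.ext (by simpa [pow_two] using hA2 _ a.2))

theorem comm_aux {A : Type*} [CommGroup A] (X Y W : A) (b1 b2 b3 c1 c2 c3 i j l : ℤ) :
    X ^ (c1 - b1 - 2 * i) * Y ^ (c2 - b2 - 2 * j) * W ^ (c3 - b3 - 2 * l) =
      (X ^ b1 * Y ^ b2 * W ^ b3)⁻¹ * (X ^ c1 * Y ^ c2 * W ^ c3) *
        (X ^ i * Y ^ j * W ^ l * (X ^ i * Y ^ j * W ^ l))⁻¹ := by
  apply Additive.ofMul.injective
  simp only [ofMul_mul, ofMul_inv, ofMul_zpow]
  module

theorem bool_eq {b c : Bool} {i : ℤ} (h : 2 ∣ (c.toNat : ℤ) - b.toNat - 2 * i) : b = c := by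
  cases b <;> cases c <;> first | rfl | (exfalso; simp [Bool.toNat] at h; omega)

/-- three commuting elements independent modulo squares contradict rank two -/
theorem no_three (hr : Cfsg.SectionalPRankLE 2 2 S) {x y w : S} (hxy : Commute x y)
    (hxw : Commute x w) (hyw : Commute y w)
    (hind : ∀ i j l : ℤ, x ^ i * y ^ j * w ^ l = 1 → 2 ∣ i ∧ 2 ∣ j ∧ 2 ∣ l) : False := by
  classical
  set K := closure ({x, y, w} : Set S)
  haveI : IsMulCommutative K := isMulCommutative_closure (by
    intro a ha b hb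
    simp only [Set.mem_insert_iff, Set.mem_singleton_iff] at ha hb
    rcases ha with rfl | rfl | rfl <;> rcases hb with rfl | rfl | rfl <;>
      first | rfl | exact hxy.eq | exact hxy.eq.symm | exact hxw.eq | exact hxw.eq.symm | exact hyw.eq | exact hyw.eq.symm)
  have hcK : ∀ a b : K, a * b = b * a := fun a b => mul_comm' a b
  let sq : K →* K :=
    { toFun := fun a => a * a
      map_one' := one_mul 1
      map_mul' := fun a b => by rw [mul_assoc, ← mul_assoc b a b, hcK b a, mul_assoc, ← mul_assoc] }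
  haveI : sq.range.Normal := ⟨fun n hn g => by rwa [hcK g n, mul_inv_cancel_right]⟩
  have hel : ∀ a ∈ K, ∃ i j l : ℤ, a = x ^ i * y ^ j * w ^ l := by
    intro a ha
    induction ha using closure_induction with
    | mem b hb =>
      simp only [Set.mem_insert_iff, Set.mem_singleton_iff] at hb
      rcases hb with rfl | rfl | rfl
      · exact ⟨1, 0, 0, by simp⟩
      · exact ⟨0, 1, 0, by simp⟩
      · exact ⟨0, 0, 1, by simp⟩
    | one => exact ⟨0, 0, 0, by simp⟩
    | mul b c _ _ hb hc =>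
      obtain ⟨i, j, l, rfl⟩ := hb
      obtain ⟨i', j', l', rfl⟩ := hc
      refine ⟨i + i', j + j', l + l', ?_⟩
      rw [zpow_add, zpow_add, zpow_add]
      have e1 := ((hxw.symm).zpow_zpow l i').eq
      have e2 := ((hxy.symm).zpow_zpow j i').eq
      have e3 := ((hyw.symm).zpow_zpow l j').eq
      calc x ^ i * y ^ j * w ^ l * (x ^ i' * y ^ j' * w ^ l')
          = x ^ i * y ^ j * (w ^ l * x ^ i') * y ^ j' * w ^ l' := by group
        _ = x ^ i * (y ^ j * x ^ i') * (w ^ l * y ^ j') * w ^ l' := by rw [e1]; group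
        _ = x ^ i * x ^ i' * (y ^ j * y ^ j') * (w ^ l * w ^ l') := by rw [e2, e3]; group
    | inv b _ hb =>
      obtain ⟨i, j, l, rfl⟩ := hb
      refine ⟨-i, -j, -l, ?_⟩
      simp only [mul_inv_rev, zpow_neg]
      have e1 : Commute (w ^ l)⁻¹ (y ^ j)⁻¹ := (hyw.symm.zpow_zpow l j).inv_left.inv_right
      have e2 : Commute (w ^ l)⁻¹ (x ^ i)⁻¹ := (hxw.symm.zpow_zpow l i).inv_left.inv_right
      have e3 : Commute (y ^ j)⁻¹ (x ^ i)⁻¹ := (hxy.symm.zpow_zpow j i).inv_left.inv_right
      rw [← mul_assoc, e1.eq, mul_assoc, e2.eq, ← mul_assoc, e3.eq]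
  have hxK : x ∈ K := subset_closure (by simp)
  have hyK : y ∈ K := subset_closure (by simp)
  have hwK : w ∈ K := subset_closure (by simp)
  let F : Bool × Bool × Bool → K ⧸ sq.range := fun b =>
    QuotientGroup.mk ((⟨x, hxK⟩ : K) ^ (b.1.toNat : ℤ) * ⟨y, hyK⟩ ^ (b.2.1.toNat : ℤ) *
      ⟨w, hwK⟩ ^ (b.2.2.toNat : ℤ))
  have hF : Function.Injective F := by
    rintro ⟨b1, b2, b3⟩ ⟨c1, c2, c3⟩ h
    obtain ⟨v, hv⟩ := QuotientGroup.eq.1 h
    obtain ⟨i, j, l, hijl⟩ := hel v v.2
    have hv' := congrArg Subtype.val hv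
    have h1 : x ^ ((c1.toNat : ℤ) - b1.toNat - 2 * i) * y ^ ((c2.toNat : ℤ) - b2.toNat - 2 * j) *
        w ^ ((c3.toNat : ℤ) - b3.toNat - 2 * l) = 1 := by
      have hv2 : (⟨x, hxK⟩ : K) ^ ((c1.toNat : ℤ) - b1.toNat - 2 * i) *
          ⟨y, hyK⟩ ^ ((c2.toNat : ℤ) - b2.toNat - 2 * j) *
          ⟨w, hwK⟩ ^ ((c3.toNat : ℤ) - b3.toNat - 2 * l) = 1 := by
        letI : CommGroup K := { (inferInstance : Group K) with mul_comm := hcK }
        have hvK : v = (⟨x, hxK⟩ : K) ^ i * ⟨y, hyK⟩ ^ j * ⟨w, hwK⟩ ^ l := Subtype.ext (by simpa using hijl)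
        have hsq : v * v = ((⟨x, hxK⟩ : K) ^ (b1.toNat : ℤ) * ⟨y, hyK⟩ ^ (b2.toNat : ℤ) *
            ⟨w, hwK⟩ ^ (b3.toNat : ℤ))⁻¹ * ((⟨x, hxK⟩ : K) ^ (c1.toNat : ℤ) * ⟨y, hyK⟩ ^ (c2.toNat : ℤ) *
            ⟨w, hwK⟩ ^ (c3.toNat : ℤ)) := hv
        rw [hvK] at hsq
        have := mul_inv_eq_one.2 hsq.symm
        rw [← this, comm_aux]
      simpa using congrArg Subtype.val hv2
    obtain ⟨h1, h2, h3⟩ := hind _ _ _ h1
    rw [bool_eq h1, bool_eq h2, bool_eq h3]
  have hq : ∀ a : K ⧸ sq.range, a * a = 1 := fun a => by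
    induction a using QuotientGroup.induction_on with
    | H b => rw [← QuotientGroup.mk_mul, QuotientGroup.eq_one_iff]; exact ⟨b, rfl⟩
  have hle := ea_image_le hr K.subtype K.subtype_injective (QuotientGroup.mk' sq.range)
    (QuotientGroup.mk'_surjective _) hq
  have hfin : Finite (K ⧸ sq.range) := by
    let G : Bool × Bool × Bool → K ⧸ sq.range := F
    refine Finite.of_surjective G fun a => ?_
    induction a using QuotientGroup.induction_on with
    | H b =>
      obtain ⟨i, j, l, hijl⟩ := hel b b.2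
      refine ⟨(decide (i % 2 = 1), decide (j % 2 = 1), decide (l % 2 = 1)), ?_⟩
      rw [QuotientGroup.eq]
      refine ⟨(⟨x, hxK⟩ : K) ^ (i / 2) * ⟨y, hyK⟩ ^ (j / 2) * ⟨w, hwK⟩ ^ (l / 2), ?_⟩
      letI : CommGroup K := { (inferInstance : Group K) with mul_comm := hcK }
      have hb : b = (⟨x, hxK⟩ : K) ^ i * ⟨y, hyK⟩ ^ j * ⟨w, hwK⟩ ^ l := Subtype.ext (by simpa using hijl)
      have key : ∀ (g : K) (e : ℤ), g ^ e = g ^ (((decide (e % 2 = 1)).toNat : ℕ) : ℤ) * (g ^ (e / 2) * g ^ (e / 2)) := by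
        intro g e
        rw [← zpow_add, ← zpow_add]
        congr 1
        rcases Int.emod_two_eq_zero_or_one e with h | h <;> simp [h] <;> omega
      refine eq_inv_mul_of_mul_eq ?_
      simp only [sq, MonoidHom.coe_mk, OneHom.coe_mk]
      conv_rhs => rw [hb, key _ i, key _ j, key _ l]
      apply Additive.ofMul.injective
      simp only [ofMul_mul]
      abel
  have h8 := Nat.card_le_card_of_injective F hF
  simp only [Nat.card_prod, Nat.card_eq_fintype_card (α := Bool), Fintype.card_bool] at h8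
  omega

theorem class_two_pow {a b z : S} (hab : b * a * b⁻¹ = a * z) (hza : Commute z a) (hzb : Commute z b)
    (i j : ℤ) : (b ^ j * a ^ i) = a ^ i * b ^ j * z ^ (i * j) := by
  have hj : ∀ j : ℤ, b ^ j * a * (b ^ j)⁻¹ = a * z ^ j := by
    intro j
    induction j using Int.induction_on with
    | zero => simp
    | succ k ih =>
      calc b ^ ((k : ℤ) + 1) * a * (b ^ ((k : ℤ) + 1))⁻¹ = b * (b ^ (k : ℤ) * a * (b ^ (k : ℤ))⁻¹) * b⁻¹ := by
            group
        _ = b * a * (z ^ (k : ℤ) * b⁻¹) := by rw [ih]; group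
        _ = (b * a * b⁻¹) * z ^ (k : ℤ) := by rw [(hzb.inv_right.zpow_left k).eq]; group
        _ = a * z ^ ((k : ℤ) + 1) := by rw [hab, zpow_add, zpow_one, mul_assoc, (Commute.refl z).zpow_right k]
    | pred k ih =>
      have hinv : b⁻¹ * a * b = a * z⁻¹ := by
        calc b⁻¹ * a * b = b⁻¹ * ((a * z) * z⁻¹) * b := by group
          _ = b⁻¹ * ((b * a * b⁻¹) * z⁻¹) * b := by rw [hab]
          _ = a * (b⁻¹ * z⁻¹) * b := by group
          _ = a * z⁻¹ := by rw [(hzb.inv_inv).symm.eq]; group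
      calc b ^ (-(k : ℤ) - 1) * a * (b ^ (-(k : ℤ) - 1))⁻¹
          = b⁻¹ * (b ^ (-(k : ℤ)) * a * (b ^ (-(k : ℤ)))⁻¹) * b := by group
        _ = b⁻¹ * a * (z ^ (-(k : ℤ)) * b) := by rw [ih]; group
        _ = (b⁻¹ * a * b) * z ^ (-(k : ℤ)) := by rw [(hzb.zpow_left (-(k : ℤ))).eq]; group
        _ = a * z ^ (-(k : ℤ) - 1) := by rw [hinv]; group
  have h := hj j
  have hc : Commute a (z ^ j) := (hza.zpow_left j).symm
  have h2 : b ^ j * a ^ i * (b ^ j)⁻¹ = a ^ i * z ^ (i * j) := by
    rw [← conj_zpow, h, hc.mul_zpow, ← zpow_mul, mul_comm j i]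
  calc b ^ j * a ^ i = b ^ j * a ^ i * (b ^ j)⁻¹ * b ^ j := by group
    _ = a ^ i * (z ^ (i * j) * b ^ j) := by rw [h2]; group
    _ = a ^ i * b ^ j * z ^ (i * j) := by rw [(hzb.zpow_zpow (i * j) j).eq]; group

theorem mul_self_pow {a b z : S} (hab : b * a * b⁻¹ = a * z) (hza : Commute z a) (hzb : Commute z b)
    (hz2 : z * z = 1) (i j : ℤ) (n : ℕ) :
    (b ^ j * a ^ i) ^ (2 * n) = b ^ (j * (2 * n)) * a ^ (i * (2 * n)) * z ^ (i * j * n) := by
  have hz2' : ∀ e : ℤ, z ^ (2 * e) = 1 := fun e => by rw [zpow_mul, zpow_two, hz2, one_zpow]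
  have hswap : a ^ i * b ^ j = b ^ j * a ^ i * z ^ (i * j) := by
    have h := class_two_pow hab hza hzb i j
    have hneg : z ^ (i * j) * z ^ (i * j) = 1 := by rw [← zpow_add, ← two_mul, hz2']
    rw [h, mul_assoc, hneg, mul_one]
  have h1 : (b ^ j * a ^ i) ^ 2 = b ^ (2 * j) * a ^ (2 * i) * z ^ (i * j) := by
    calc (b ^ j * a ^ i) ^ 2 = b ^ j * (a ^ i * b ^ j) * a ^ i := by rw [pow_two]; group
      _ = b ^ j * b ^ j * a ^ i * (z ^ (i * j) * a ^ i) := by rw [hswap]; group
      _ = b ^ j * b ^ j * (a ^ i * a ^ i) * z ^ (i * j) := by rw [(hza.zpow_zpow (i * j) i).eq]; group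
      _ = _ := by rw [← zpow_add, ← zpow_add, ← two_mul, ← two_mul]
  have hcomm : Commute (b ^ (2 * j)) (a ^ (2 * i)) := by
    have h := class_two_pow hab hza hzb (2 * i) (2 * j)
    rw [show 2 * i * (2 * j) = 2 * (2 * i * j) by ring, hz2', mul_one] at h
    exact h
  have hzc : Commute (b ^ (2 * j) * a ^ (2 * i)) (z ^ (i * j)) :=
    ((hzb.zpow_zpow (i * j) (2 * j)).mul_right (hza.zpow_zpow (i * j) (2 * i))).symm
  rw [pow_mul, h1, hzc.mul_pow, hcomm.mul_pow, ← zpow_natCast (b ^ _), ← zpow_natCast (a ^ _),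
    ← zpow_natCast (z ^ _), ← zpow_mul, ← zpow_mul, ← zpow_mul]
  congr 3 <;> ring

/-- a normal cyclic subgroup with cyclic quotient, from two generators -/
theorem metacyclic_of_gen [Finite S] {x y : S} (hn : (zpowers x).Normal)
    (hgen : closure ({x, y} : Set S) = ⊤) : Cfsg.IsMetacyclic S := by
  refine ⟨zpowers x, hn, inferInstance, ?_⟩
  haveI := hn
  refine ⟨⟨(y : S ⧸ zpowers x), fun q => mem_zpowers_iff.1 ?_⟩⟩
  induction q using QuotientGroup.induction_on with
  | H g =>
    have hg : g ∈ closure ({x, y} : Set S) := hgen ▸ mem_top g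
    induction hg using closure_induction with
    | mem b hb =>
      simp only [Set.mem_insert_iff, Set.mem_singleton_iff] at hb
      rcases hb with rfl | rfl
      · rw [(QuotientGroup.eq_one_iff b).2 (mem_zpowers b)]; exact one_mem _
      · exact mem_zpowers _
    | one => rw [QuotientGroup.mk_one]; exact one_mem _
    | mul u v _ _ hu hv => rw [QuotientGroup.mk_mul]; exact mul_mem hu hv
    | inv u _ hu => rw [QuotientGroup.mk_inv]; exact inv_mem hu

theorem normal_zpowers_of_comm [Finite S] {x y z : S} (hgen : closure ({x, y} : Set S) = ⊤)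
    (hc : y * x * y⁻¹ * x⁻¹ = z) (hz : z ∈ zpowers x) : (zpowers x).Normal := by
  rw [← normalizer_eq_top_iff, eq_top_iff, ← hgen, closure_le]
  have hy : y * x * y⁻¹ ∈ zpowers x := by
    have := mul_mem hz (mem_zpowers x)
    rwa [← hc, inv_mul_cancel_right] at this
  rintro u (rfl | rfl)
  · exact le_normalizer (mem_zpowers u)
  · have hle : (zpowers x).map (MulAut.conj u).toMonoidHom ≤ zpowers x := by
      rw [MonoidHom.map_zpowers, zpowers_le]
      exact hy
    have heq := Subgroup.eq_of_le_of_card_ge hle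
      (Subgroup.card_map_of_injective (K := zpowers x) (f := (MulAut.conj u).toMonoidHom)
        (MulAut.conj u).injective).ge
    show u ∈ normalizer ((zpowers x : Subgroup S) : Set S)
    rw [mem_normalizer_iff]
    intro v
    constructor
    · intro hv; rw [← heq]; exact ⟨v, hv, rfl⟩
    · intro hv
      rw [← heq] at hv
      obtain ⟨v', hv', he⟩ := hv
      rwa [← (MulAut.conj u).injective (a₁ := v') (a₂ := v) he]

theorem main : ∀ (n : ℕ) {S : Type*} [Group S] [Finite S], Nat.card S ≤ n → IsPGroup 2 S →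
    Cfsg.SectionalPRankLE 2 2 S → Cfsg.IsMetacyclic S := by
  intro n
  induction n with
  | zero => intro S _ _ h; exact absurd h (by have := Nat.card_pos (α := S); omega)
  | succ n ih =>
  intro S _ _ hn h2 hr
  haveI : Fact (Nat.Prime 2) := ⟨Nat.prime_two⟩
  by_cases hab : ∀ u v : S, u * v = v * u
  · -- two generators
    obtain ⟨x, y, hxy⟩ : ∃ x y : S, closure ({x, y} : Set S) = ⊤ := by
      classical
      set Φ := frattini S
      let π := QuotientGroup.mk' Φ
      have hsq : ∀ q : S ⧸ Φ, q * q = 1 := fun q => by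
        rw [← pow_two]; exact PGroup.quotient_frattini_pow h2 q
      have hle : Nat.card (S ⧸ Φ) ≤ 4 :=
        ea_image_le hr (MonoidHom.id S) Function.injective_id π (QuotientGroup.mk'_surjective Φ) hsq
      have hgen : ∃ u v : S ⧸ Φ, ∀ q, q = 1 ∨ q = u ∨ q = v ∨ q = u * v := by
        by_cases h1 : ∀ q : S ⧸ Φ, q = 1
        · exact ⟨1, 1, fun q => Or.inl (h1 q)⟩
        push Not at h1
        obtain ⟨u, hu⟩ := h1
        by_cases h2' : ∀ q : S ⧸ Φ, q = 1 ∨ q = u
        · exact ⟨u, 1, fun q => (h2' q).imp_right Or.inl⟩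
        push Not at h2'
        obtain ⟨v, hv1, hvu⟩ := h2'
        refine ⟨u, v, fun q => ?_⟩
        by_contra hq
        push Not at hq
        obtain ⟨q1, q2, q3, q4⟩ := hq
        haveI := Fintype.ofFinite (S ⧸ Φ)
        have huv1 : u * v ≠ 1 := fun h => hvu (mul_left_cancel (h.trans (hsq u).symm))
        have huvu : u * v ≠ u := fun h => hv1 (mul_eq_left.1 h)
        have huvv : u * v ≠ v := fun h => hu (mul_eq_right.1 h)
        have := Finset.card_le_univ ({1, u, v, u * v, q} : Finset (S ⧸ Φ))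
        rw [Finset.card_insert_of_notMem (by simp [hu.symm, hv1.symm, huv1.symm, q1.symm]),
          Finset.card_insert_of_notMem (by simp [hvu.symm, huvu.symm, q2.symm]),
          Finset.card_insert_of_notMem (by simp [huvv.symm, q3.symm]),
          Finset.card_insert_of_notMem (by simp [q4.symm]), Finset.card_singleton,
          ← Nat.card_eq_fintype_card] at this
        omega
      obtain ⟨u, v, huv⟩ := hgen
      obtain ⟨x, rfl⟩ := QuotientGroup.mk'_surjective Φ u
      obtain ⟨y, rfl⟩ := QuotientGroup.mk'_surjective Φ v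
      refine ⟨x, y, frattini_nongenerating ?_⟩
      rw [eq_top_iff]
      intro g _
      have hmem : ∀ t : S, π g = π t → t ∈ closure ({x, y} : Set S) → g ∈ closure ({x, y} : Set S) ⊔ Φ := by
        intro t ht htm
        have h' : t⁻¹ * g ∈ Φ := QuotientGroup.eq.1 ht.symm
        have := mul_mem (mem_sup_left (T := Φ) htm) (mem_sup_right (S := closure ({x, y} : Set S)) h')
        rwa [mul_inv_cancel_left] at this
      have hx : x ∈ closure ({x, y} : Set S) := subset_closure (by simp)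
      have hy : y ∈ closure ({x, y} : Set S) := subset_closure (by simp)
      rcases huv (π g) with h | h | h | h
      · exact hmem 1 (h.trans (map_one π).symm) (one_mem _)
      · exact hmem x h hx
      · exact hmem y h hy
      · exact hmem (x * y) (h.trans (map_mul π x y).symm) (mul_mem hx hy)
    refine metacyclic_of_gen ⟨fun g hg t => ?_⟩ hxy
    rwa [hab t g, mul_inv_cancel_right]
  -- a central involution in the derived group
  push Not at hab
  obtain ⟨u₀, v₀, huv⟩ := hab
  obtain ⟨z, hzd, hzc, hzo⟩ := Involution.exists_central_mem_normal h2 (commutator S) (fun h => huv (by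
    have := commutator_mem_commutator (mem_top u₀) (mem_top v₀)
    rw [← _root_.commutator_def, h, mem_bot] at this
    exact commutatorElement_eq_one_iff_mul_comm.1 this))
  have hz1 : z ≠ 1 := fun h => by rw [h, orderOf_one] at hzo; norm_num at hzo
  have hz2 : z * z = 1 := by rw [← pow_two, ← hzo, pow_orderOf_eq_one]
  have hzcm : ∀ g, Commute z g := fun g => (mem_center_iff.1 hzc g).symm
  haveI hzn : (zpowers z).Normal := ⟨fun x hx g => by
    obtain ⟨i, rfl⟩ := mem_zpowers_iff.1 hx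
    rw [((hzcm g).zpow_left i).symm.eq, mul_inv_cancel_right]; exact hx⟩
  let π := QuotientGroup.mk' (zpowers z)
  have hπ : Function.Surjective π := QuotientGroup.mk'_surjective _
  have hlt : Nat.card (S ⧸ zpowers z) ≤ n := by
    have := Subgroup.card_eq_card_quotient_mul_card_subgroup (zpowers z)
    rw [Nat.card_zpowers, hzo] at this
    have := Nat.card_pos (α := S ⧸ zpowers z)
    omega
  obtain ⟨N, hNn, hNc, hQc⟩ := ih hlt (h2.to_quotient _) (rank_of_surjective hr π hπ)
  obtain ⟨ā, hā⟩ := hNc.exists_generator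
  obtain ⟨a, ha⟩ := hπ ā.1
  haveI := hNn
  obtain ⟨q, hq⟩ := hQc.exists_generator
  obtain ⟨b₁, rfl⟩ := QuotientGroup.mk_surjective q
  obtain ⟨b, rfl⟩ := hπ b₁
  have hzmem : ∀ g, π g = 1 → g = 1 ∨ g = z := fun g hg => by
    obtain ⟨i, rfl⟩ := mem_zpowers_iff.1 ((QuotientGroup.eq_one_iff g).1 hg)
    rcases Int.even_or_odd' i with ⟨k, rfl | rfl⟩
    · left; rw [zpow_mul, zpow_two, hz2, one_zpow]
    · right; rw [zpow_add, zpow_mul, zpow_two, hz2, one_zpow, one_mul, zpow_one]
  have hNA : ∀ g, π g ∈ N → ∃ i : ℤ, g = a ^ i ∨ g = a ^ i * z := by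
    intro g hg
    obtain ⟨i, hi⟩ := mem_zpowers_iff.1 (hā ⟨π g, hg⟩)
    refine ⟨i, ?_⟩
    have h1 : π ((a ^ i)⁻¹ * g) = 1 := by
      rw [map_mul, map_inv, map_zpow, ha, inv_mul_eq_one]
      simpa using congrArg Subtype.val hi
    rcases hzmem _ h1 with h | h
    · exact Or.inl (inv_mul_eq_one.1 h).symm
    · exact Or.inr (by rw [← h, mul_inv_cancel_left])
  have hall : ∀ g, ∃ i j : ℤ, g = a ^ i * b ^ j ∨ g = a ^ i * z * b ^ j := by
    intro g
    obtain ⟨j, hj⟩ := mem_zpowers_iff.1 (hq (π g : (S ⧸ zpowers z) ⧸ N))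
    have h1 : π (g * (b ^ j)⁻¹) ∈ N := by
      rw [← QuotientGroup.eq_one_iff, map_mul, map_inv, map_zpow, QuotientGroup.mk_mul,
        QuotientGroup.mk_inv, QuotientGroup.mk_zpow, hj, mul_inv_cancel]
    obtain ⟨i, h | h⟩ := hNA _ h1
    · exact ⟨i, j, Or.inl (eq_mul_of_mul_inv_eq h)⟩
    · exact ⟨i, j, Or.inr (eq_mul_of_mul_inv_eq h)⟩
  have hgen : closure ({a, b} : Set S) = ⊤ := by
    refine frattini_nongenerating ?_
    rw [eq_top_iff]
    intro g _
    have hzΦ : z ∈ frattini S := PGroup.commutator_le_frattini h2 hzd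
    have ha' : a ∈ closure ({a, b} : Set S) ⊔ frattini S := mem_sup_left (subset_closure (by simp))
    have hb' : b ∈ closure ({a, b} : Set S) ⊔ frattini S := mem_sup_left (subset_closure (by simp))
    obtain ⟨i, j, h | h⟩ := hall g <;> rw [h]
    · exact mul_mem (zpow_mem ha' i) (zpow_mem hb' j)
    · exact mul_mem (mul_mem (zpow_mem ha' i) (mem_sup_right hzΦ)) (zpow_mem hb' j)
  obtain ⟨r, hr'⟩ : ∃ r : ℤ, b * a * b⁻¹ = a ^ r ∨ b * a * b⁻¹ = a ^ r * z := by
    refine hNA _ ?_
    rw [map_mul, map_mul, map_inv]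
    exact hNn.conj_mem _ (ha ▸ ā.2) _
  by_cases hzA : z ∈ zpowers a
  · -- `A` is cyclic
    obtain ⟨s, hs⟩ : ∃ s : ℤ, b * a * b⁻¹ * a⁻¹ = a ^ s := by
      obtain ⟨k, hk⟩ := mem_zpowers_iff.1 hzA
      rcases hr' with h | h
      · exact ⟨r - 1, by rw [h, zpow_sub_one]⟩
      · exact ⟨r + k - 1, by rw [h, ← hk, ← zpow_add, zpow_sub_one]⟩
    exact metacyclic_of_gen (normal_zpowers_of_comm hgen hs (mem_zpowers_iff.2 ⟨s, rfl⟩)) hgen
  rcases hr' with hr' | hr'
  · have : b * a * b⁻¹ * a⁻¹ = a ^ (r - 1) := by rw [hr', zpow_sub_one]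
    exact metacyclic_of_gen (normal_zpowers_of_comm hgen this (mem_zpowers_iff.2 ⟨r - 1, rfl⟩)) hgen
  -- now `a ^ (r - 1) = 1`
  set w := a ^ (r - 1) * z with hw
  have hwn : (zpowers w).Normal := by
    rw [← normalizer_eq_top_iff, eq_top_iff, ← hgen, closure_le]
    have hwa : ∀ e : ℤ, Commute a (w ^ e) := fun e =>
      (((Commute.refl a).zpow_right _).mul_right (hzcm a).symm).zpow_right e
    have hodd : z ^ (r - 1) * z = z ^ r := by rw [← zpow_add_one, sub_add_cancel]
    have hwb : b * w * b⁻¹ = w ^ r := by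
      have h1 : b * w * b⁻¹ = (b * a * b⁻¹) ^ (r - 1) * z := by
        rw [hw, conj_zpow]
        calc b * (a ^ (r - 1) * z) * b⁻¹ = b * a ^ (r - 1) * (z * b⁻¹) := by group
          _ = b * a ^ (r - 1) * b⁻¹ * z := by rw [(hzcm b⁻¹).eq]; group
      rw [h1, hr', ((hzcm (a ^ r)).symm).mul_zpow, hw,
        ((hzcm (a ^ (r - 1))).symm).mul_zpow, mul_assoc, hodd, ← zpow_mul, ← zpow_mul, mul_comm r]
    rintro g (rfl | rfl)
    · show g ∈ normalizer ((zpowers w : Subgroup S) : Set S)
      rw [mem_normalizer_iff]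
      intro v
      constructor
      · intro hv
        obtain ⟨e, rfl⟩ := mem_zpowers_iff.1 hv
        rw [(hwa e).eq, mul_inv_cancel_right]; exact hv
      · intro hv
        obtain ⟨e, he⟩ := mem_zpowers_iff.1 hv
        refine mem_zpowers_iff.2 ⟨e, ?_⟩
        calc w ^ e = g⁻¹ * (g * w ^ e) := by group
          _ = g⁻¹ * (w ^ e * g) := by rw [(hwa e).eq]
          _ = v := by rw [he]; group
    · have hle : (zpowers w).map (MulAut.conj g).toMonoidHom ≤ zpowers w := by
        rw [MonoidHom.map_zpowers, zpowers_le]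
        show g * w * g⁻¹ ∈ _
        rw [hwb]; exact zpow_mem (mem_zpowers w) r
      have heq := Subgroup.eq_of_le_of_card_ge hle
        (Subgroup.card_map_of_injective (K := zpowers w) (f := (MulAut.conj g).toMonoidHom)
          (MulAut.conj g).injective).ge
      show g ∈ normalizer ((zpowers w : Subgroup S) : Set S)
      rw [mem_normalizer_iff]
      intro v
      constructor
      · intro hv; rw [← heq]; exact ⟨v, hv, rfl⟩
      · intro hv
        rw [← heq] at hv
        obtain ⟨v', hv', he⟩ := hv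
        rwa [← (MulAut.conj g).injective (a₁ := v') (a₂ := v) he]
  have hcw : commutator S ≤ zpowers w := by
    haveI := hwn
    let πw := QuotientGroup.mk' (zpowers w)
    have hab' : Commute (πw a) (πw b) := by
      have h1 : πw (b * a * b⁻¹ * a⁻¹) = 1 := (QuotientGroup.eq_one_iff _).2 (by
        have e : b * a * b⁻¹ * a⁻¹ = w := by
          rw [hr', hw, mul_assoc, (hzcm a⁻¹).eq, ← mul_assoc, zpow_sub_one]
        rw [e]; exact mem_zpowers w)
      rw [map_mul, map_mul, map_mul, map_inv, map_inv, mul_inv_eq_one, mul_inv_eq_iff_eq_mul] at h1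
      exact h1.symm
    have hcc : ∀ g, Commute (πw g) (πw a) ∧ Commute (πw g) (πw b) := by
      intro g
      have hg : g ∈ closure ({a, b} : Set S) := hgen ▸ mem_top g
      induction hg using closure_induction with
      | mem c hc =>
        simp only [Set.mem_insert_iff, Set.mem_singleton_iff] at hc
        rcases hc with rfl | rfl
        · exact ⟨Commute.refl _, hab'⟩
        · exact ⟨hab'.symm, Commute.refl _⟩
      | one => rw [map_one]; exact ⟨Commute.one_left _, Commute.one_left _⟩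
      | mul c d _ _ hc hd => rw [map_mul]; exact ⟨hc.1.mul_left hd.1, hc.2.mul_left hd.2⟩
      | inv c _ hc => rw [map_inv]; exact ⟨hc.1.inv_left, hc.2.inv_left⟩
    rw [_root_.commutator_def, commutator_le]
    intro g _ h hh'
    clear hh'
    rw [← QuotientGroup.eq_one_iff, ← QuotientGroup.mk'_apply, map_commutatorElement,
      commutatorElement_eq_one_iff_mul_comm]
    have hh : h ∈ closure ({a, b} : Set S) := hgen ▸ mem_top h
    induction hh using closure_induction with
    | mem c hc =>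
      simp only [Set.mem_insert_iff, Set.mem_singleton_iff] at hc
      rcases hc with rfl | rfl
      · exact (hcc g).1
      · exact (hcc g).2
    | one => rw [map_one, mul_one, one_mul]
    | mul c d _ _ hc hd =>
      rw [map_mul]; exact (Commute.mul_right (show Commute _ _ from hc) (show Commute _ _ from hd)).eq
    | inv c _ hc => rw [map_inv]; exact (Commute.inv_right (show Commute _ _ from hc)).eq
  have har : a ^ (r - 1) = 1 := by
    obtain ⟨e, he⟩ := mem_zpowers_iff.1 (hcw hzd)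
    rw [hw, ((hzcm (a ^ (r - 1))).symm).mul_zpow] at he
    rcases Int.even_or_odd' e with ⟨k, rfl | rfl⟩
    · rw [zpow_mul z, zpow_two, hz2, one_zpow, mul_one, ← zpow_mul] at he
      exact absurd (mem_zpowers_iff.2 ⟨_, he⟩) hzA
    · rw [zpow_add z, zpow_mul z, zpow_two, hz2, one_zpow, one_mul, zpow_one] at he
      have h1 : (a ^ (r - 1)) ^ (2 * k + 1) = 1 := mul_eq_right.1 he
      obtain ⟨m, hm⟩ := h2 (a ^ (r - 1))
      rw [← orderOf_eq_one_iff]
      have hd1 : orderOf (a ^ (r - 1)) ∣ 2 ^ m := orderOf_dvd_of_pow_eq_one hm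
      obtain ⟨l, -, hl⟩ := (Nat.dvd_prime_pow Nat.prime_two).1 hd1
      rcases Nat.eq_zero_or_pos l with rfl | hl0
      · simpa using hl
      · have h2d : (2 : ℤ) ∣ 2 * k + 1 := by
          refine dvd_trans ?_ (orderOf_dvd_iff_zpow_eq_one.2 h1)
          rw [hl]; exact_mod_cast dvd_pow_self 2 hl0.ne'
        omega
  have hab : b * a * b⁻¹ = a * z := by
    rw [hr']
    congr 1
    have := congrArg (fun t => t * a) har
    simpa [← zpow_add_one] using this
  -- powers of `b` inside `A`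
  set A := closure ({a, z} : Set S)
  have hAel : ∀ g ∈ A, ∃ i j : ℤ, g = a ^ i * z ^ j := by
    intro g hg
    induction hg using closure_induction with
    | mem c hc =>
      simp only [Set.mem_insert_iff, Set.mem_singleton_iff] at hc
      rcases hc with rfl | rfl
      · exact ⟨1, 0, by simp⟩
      · exact ⟨0, 1, by simp⟩
    | one => exact ⟨0, 0, by simp⟩
    | mul c d _ _ hc hd =>
      obtain ⟨i, j, rfl⟩ := hc; obtain ⟨i', j', rfl⟩ := hd
      refine ⟨i + i', j + j', ?_⟩
      rw [zpow_add, zpow_add, mul_assoc, ← mul_assoc (z ^ j), ((hzcm (a ^ i')).zpow_left j).eq]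
      group
    | inv c _ hc =>
      obtain ⟨i, j, rfl⟩ := hc
      exact ⟨-i, -j, by rw [mul_inv_rev, zpow_neg, zpow_neg, ((hzcm _).zpow_left j).inv_inv.eq]⟩
  have haA : a ∈ A := subset_closure (by simp)
  have hzA' : z ∈ A := subset_closure (by simp)
  have hAn : A.Normal := by
    rw [← normalizer_eq_top_iff, eq_top_iff, ← hgen, closure_le]
    rintro g (rfl | rfl)
    · exact le_normalizer haA
    · have hle : A.map (MulAut.conj g).toMonoidHom ≤ A := by
        rw [MonoidHom.map_closure, closure_le]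
        rintro _ ⟨v, (rfl | rfl), rfl⟩
        · show g * v * g⁻¹ ∈ A
          rw [hab]; exact mul_mem haA hzA'
        · show g * v * g⁻¹ ∈ A
          rw [← (hzcm g).eq, mul_inv_cancel_right]; exact hzA'
      have heq := Subgroup.eq_of_le_of_card_ge hle
        (Subgroup.card_map_of_injective (K := A) (f := (MulAut.conj g).toMonoidHom)
          (MulAut.conj g).injective).ge
      show g ∈ normalizer ((A : Subgroup S) : Set S)
      rw [mem_normalizer_iff]
      intro v
      constructor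
      · intro hv; rw [← heq]; exact ⟨v, hv, rfl⟩
      · intro hv
        rw [← heq] at hv
        obtain ⟨v', hv', he⟩ := hv
        rwa [← (MulAut.conj g).injective (a₁ := v') (a₂ := v) he]
  haveI := hAn
  obtain ⟨m, hm⟩ : ∃ m, orderOf (b : S ⧸ A) = 2 ^ m := (h2.to_quotient A).exists_orderOf_eq_pow _
  have hbA : ∀ l : ℤ, b ^ l ∈ A ↔ (2 : ℤ) ^ m ∣ l := fun l => by
    rw [← QuotientGroup.eq_one_iff, QuotientGroup.mk_zpow, ← orderOf_dvd_iff_zpow_eq_one, hm]
    push_cast; rfl
  have hm0 : m ≠ 0 := fun h => by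
    have hbm : b ∈ A := by have := (hbA 1).2 (by rw [h]; simp); simpa using this
    obtain ⟨i, j, hij⟩ := hAel b hbm
    have hcom : Commute b a := by
      rw [hij]; exact ((Commute.refl a).zpow_left i).mul_left ((hzcm a).zpow_left j)
    rw [hcom.eq, mul_inv_cancel_right] at hab
    exact hz1 (left_eq_mul.1 hab)
  obtain ⟨t, u, htu⟩ := hAel _ ((hbA ((2 : ℤ) ^ m)).2 dvd_rfl)
  have hswap := fun i j => class_two_pow hab (hzcm a) (hzcm b) i j
  have hzpar : ∀ e : ℤ, z ^ e = 1 ↔ 2 ∣ e := fun e => by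
    rw [← orderOf_dvd_iff_zpow_eq_one, hzo]; simp
  have hzodd : ∀ e : ℤ, ¬ 2 ∣ e → z ^ e = z := fun e he => by
    obtain ⟨c, rfl⟩ : ∃ c, e = 2 * c + 1 := ⟨e / 2, by omega⟩
    rw [zpow_add, (hzpar _).2 (dvd_mul_right 2 c), one_mul, zpow_one]
  have hind : ∀ i j : ℤ, a ^ i * z ^ j = 1 → a ^ i = 1 ∧ 2 ∣ j := fun i j h => by
    have hj : 2 ∣ j := by
      by_contra hj
      rw [hzodd j hj] at h
      exact hzA (mem_zpowers_iff.2 ⟨-i, by rw [zpow_neg]; exact inv_eq_of_mul_eq_one_right h⟩)
    rw [(hzpar j).2 hj, mul_one] at h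
    exact ⟨h, hj⟩
  obtain ⟨ν, hν⟩ := h2.exists_orderOf_eq_pow a
  have ha2 : ∀ e : ℤ, a ^ e = 1 ↔ (2 : ℤ) ^ ν ∣ e := fun e => by
    rw [← orderOf_dvd_iff_zpow_eq_one, hν]; push_cast; rfl
  have hν0 : ν ≠ 0 := fun h => by
    rw [h, pow_zero, orderOf_eq_one_iff] at hν
    rw [hν, mul_one, mul_inv_cancel, one_mul] at hab
    exact hz1 hab.symm
  have ht : 2 ∣ t := by
    by_contra hnd
    have h1 := hswap t 1
    have hc : Commute b (a ^ t) := by
      have h3 : Commute b (a ^ t * z ^ u) := htu ▸ (Commute.refl b).zpow_right _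
      have e : a ^ t = a ^ t * z ^ u * (z ^ u)⁻¹ := by group
      rw [e]; exact h3.mul_right ((hzcm b).zpow_left u).symm.inv_right
    rw [zpow_one, mul_one, hc.eq] at h1
    exact hnd ((hzpar t).1 (left_eq_mul.1 h1))
  obtain ⟨M, hM⟩ : ∃ M : ℕ, 2 ^ m = 2 * M := ⟨2 ^ (m - 1), by rw [← pow_succ']; congr 1; omega⟩
  have hMz : ((2 : ℤ) ^ m) = 2 * (M : ℤ) := by exact_mod_cast hM
  have finish : ∀ x y : S, closure ({x, y} : Set S) = ⊤ → z ∈ zpowers x → Cfsg.IsMetacyclic S := by
    intro x y hg hzx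
    refine metacyclic_of_gen ?_ hg
    have hder : y * x * y⁻¹ * x⁻¹ ∈ zpowers w := by
      have := commutator_mem_commutator (mem_top y) (mem_top x)
      rw [← _root_.commutator_def] at this
      exact hcw this
    rw [hw, har, one_mul] at hder
    exact normal_zpowers_of_comm hg rfl ((zpowers_le.2 hzx) hder)
  rcases (show m = 1 ∨ 2 ≤ m by omega) with rfl | hm2
  · obtain rfl : M = 1 := by omega
    obtain ⟨c, rfl⟩ := ht
    by_cases hex : ∃ k : ℤ, (2 : ℤ) ^ ν ∣ 2 * c + 2 * k ∧ ¬ 2 ∣ u + k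
    · obtain ⟨k, hk1, hk2⟩ := hex
      refine finish (b ^ (1 : ℤ) * a ^ k) a ?_ ?_
      · rw [eq_top_iff, ← hgen, closure_le]
        rintro g (rfl | rfl)
        · exact subset_closure (by simp)
        · have h1 : g ^ (1 : ℤ) * a ^ k ∈ closure ({g ^ (1 : ℤ) * a ^ k, a} : Set S) := subset_closure (by simp)
          have h2 : a ∈ closure ({g ^ (1 : ℤ) * a ^ k, a} : Set S) := subset_closure (by simp)
          have := mul_mem h1 (inv_mem (zpow_mem h2 k))
          simpa using this
      · have h2p := mul_self_pow hab (hzcm a) (hzcm b) hz2 k 1 1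
        simp only [Nat.cast_one, mul_one, one_mul] at h2p
        rw [show ((2 : ℤ)) = (2 : ℤ) ^ 1 by norm_num] at h2p
        rw [htu, mul_assoc, mul_assoc, ← mul_assoc (z ^ u), ((hzcm _).zpow_left u).eq, mul_assoc,
          ← zpow_add, ← mul_assoc, ← zpow_add] at h2p
        simp only [pow_one] at h2p
        rw [(ha2 (2 * c + k * 2)).2 (by rwa [mul_comm k]), one_mul, hzodd _ hk2] at h2p
        rw [← h2p]
        exact pow_mem (mem_zpowers _) _
    · push Not at hex
      have hν2 : 2 ≤ ν := by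
        by_contra hcon
        obtain rfl : ν = 1 := by omega
        rcases Int.even_or_odd' u with ⟨d, rfl | rfl⟩
        · have := hex 1 ⟨c + 1, by ring⟩; omega
        · have := hex 0 ⟨c, by ring⟩; omega
      exfalso
      have hu : 2 ∣ u + -c := hex (-c) (by simp)
      have h2p := mul_self_pow hab (hzcm a) (hzcm b) hz2 (-c) 1 1
      simp only [Nat.cast_one, mul_one, one_mul] at h2p
      rw [show ((2 : ℤ)) = (2 : ℤ) ^ 1 by norm_num] at h2p
      rw [htu, mul_assoc, mul_assoc, ← mul_assoc (z ^ u), ((hzcm _).zpow_left u).eq, mul_assoc,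
        ← zpow_add, ← mul_assoc, ← zpow_add] at h2p
      simp only [pow_one] at h2p
      rw [(hzpar _).2 hu, mul_one, show 2 * c + -c * 2 = 0 by ring, zpow_zero, zpow_one] at h2p
      set b' := b * a ^ (-c)
      have hb'a : Commute b' (a ^ (2 : ℤ)) := by
        have h1 := hswap 2 1
        rw [zpow_one, mul_one, (hzpar 2).2 dvd_rfl, mul_one] at h1
        exact (show Commute b (a ^ (2 : ℤ)) from h1).mul_left ((Commute.refl a).zpow_zpow _ _)
      refine no_three hr (x := a ^ (2 : ℤ)) (y := z) (w := b') (hzcm _).symm hb'a.symm (hzcm _) ?_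
      intro i j l hijl
      have hb'sq : b' * b' = 1 := by rw [← pow_two]; exact h2p
      have hl : 2 ∣ l := by
        by_contra hl
        obtain ⟨d, rfl⟩ : ∃ d, l = 2 * d + 1 := ⟨l / 2, by omega⟩
        rw [zpow_add, zpow_mul b', (show b' ^ (2 : ℤ) = 1 by rw [zpow_two, hb'sq]), one_zpow, one_mul,
          zpow_one] at hijl
        have hb'A : b' ∈ A := by
          rw [← inv_eq_of_mul_eq_one_right hijl]
          exact inv_mem (mul_mem (zpow_mem (zpow_mem haA 2) i) (zpow_mem hzA' j))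
        have hbmem : b ^ (1 : ℤ) ∈ A := by
          rw [zpow_one]
          have := mul_mem hb'A (zpow_mem haA c)
          simpa [b', mul_assoc] using this
        have := (hbA 1).1 hbmem
        norm_num at this
      obtain ⟨d, rfl⟩ := hl
      rw [zpow_mul b', (show b' ^ (2 : ℤ) = 1 by rw [zpow_two, hb'sq]), one_zpow, mul_one,
        ← zpow_mul] at hijl
      obtain ⟨h1, h2'⟩ := hind _ _ hijl
      refine ⟨?_, h2', dvd_mul_right 2 d⟩
      have h4 : (4 : ℤ) ∣ 2 * i := dvd_trans (by
        rw [show (4 : ℤ) = 2 ^ 2 by norm_num]; exact pow_dvd_pow 2 hν2) ((ha2 _).1 h1)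
      omega
  · by_cases hu : 2 ∣ u
    · exfalso
      have hb2 : Commute (b ^ (2 : ℤ)) a := by
        have h1 := hswap 1 2
        rw [zpow_one, one_mul, (hzpar 2).2 dvd_rfl, mul_one] at h1
        exact h1
      refine no_three hr (x := a) (y := z) (w := b ^ (2 : ℤ)) (hzcm _).symm hb2.symm (hzcm _) ?_
      intro i j l hijl
      rw [← zpow_mul] at hijl
      have hdl : (2 : ℤ) ^ m ∣ 2 * l := by
        refine (hbA _).1 ?_
        rw [← inv_eq_of_mul_eq_one_right hijl]
        exact inv_mem (mul_mem (zpow_mem haA i) (zpow_mem hzA' j))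
      obtain ⟨q, hq⟩ := hdl
      rw [hq, zpow_mul, htu, ((hzcm (a ^ t)).zpow_left u).symm.mul_zpow, ← zpow_mul, ← zpow_mul,
        mul_assoc, ← mul_assoc (z ^ j), ((hzcm (a ^ (t * q))).zpow_left j).eq, mul_assoc, ← zpow_add,
        ← mul_assoc, ← zpow_add] at hijl
      obtain ⟨h1, h2'⟩ := hind _ _ hijl
      have hνd : (2 : ℤ) ∣ i + t * q := dvd_trans (dvd_pow_self 2 hν0) ((ha2 _).1 h1)
      have htq : (2 : ℤ) ∣ t * q := dvd_mul_of_dvd_left ht q
      have huq : (2 : ℤ) ∣ u * q := dvd_mul_of_dvd_left hu q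
      have h4 : (4 : ℤ) ∣ 2 * l := by
        rw [hq, show (4 : ℤ) = 2 ^ 2 by norm_num]; exact dvd_mul_of_dvd_left (pow_dvd_pow 2 hm2) q
      omega
    · have hMeven : (2 : ℤ) ∣ (M : ℤ) := by
        have h4 : (4 : ℤ) ∣ 2 ^ m := by
          rw [show (4 : ℤ) = 2 ^ 2 by norm_num]; exact pow_dvd_pow 2 hm2
        rw [hMz] at h4; omega
      by_cases htd : (2 : ℤ) ^ m ∣ t
      · obtain ⟨d, hd⟩ := htd
        refine finish (b ^ (1 : ℤ) * a ^ (-d)) a ?_ ?_
        · rw [eq_top_iff, ← hgen, closure_le]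
          rintro g (rfl | rfl)
          · exact subset_closure (by simp)
          · have h1 : g ^ (1 : ℤ) * a ^ (-d) ∈ closure ({g ^ (1 : ℤ) * a ^ (-d), a} : Set S) := subset_closure (by simp)
            have h2 : a ∈ closure ({g ^ (1 : ℤ) * a ^ (-d), a} : Set S) := subset_closure (by simp)
            have := mul_mem h1 (inv_mem (zpow_mem h2 (-d)))
            simpa using this
        · have hp := mul_self_pow hab (hzcm a) (hzcm b) hz2 (-d) 1 M
          rw [(hzpar _).2 (dvd_mul_of_dvd_right hMeven _), mul_one, one_mul, ← hMz, htu, mul_assoc,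
            ((hzcm _).zpow_left u).eq, ← mul_assoc, ← zpow_add,
            show t + -d * 2 ^ m = 0 by rw [hd]; ring, zpow_zero, one_mul, hzodd u hu] at hp
          rw [← hp]; exact pow_mem (mem_zpowers _) _
      · -- `t = 2 ^ s` times an odd number with `s < m`
        have ht0 : t.natAbs ≠ 0 := fun h => htd (by rw [Int.natAbs_eq_zero.1 h]; exact dvd_zero _)
        obtain ⟨s, o, ho, hto⟩ := Nat.exists_eq_pow_mul_and_not_dvd ht0 2 (by norm_num)
        have hsm : s < m := by
          by_contra hcon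
          refine htd (Int.dvd_natAbs.1 ?_)
          rw [hto]; push_cast
          exact dvd_mul_of_dvd_left (pow_dvd_pow 2 (not_lt.1 hcon)) _
        obtain ⟨o', ho', hto'⟩ : ∃ o' : ℤ, ¬ 2 ∣ o' ∧ t = 2 ^ s * o' := by
          rcases Int.natAbs_eq t with h | h
          · exact ⟨o, by exact_mod_cast ho, by rw [h, hto]; push_cast; ring⟩
          · exact ⟨-o, fun hd => ho (by exact_mod_cast (dvd_neg.1 hd)), by rw [h, hto]; push_cast; ring⟩
        have hs0 : 1 ≤ s := by
          rcases Nat.eq_zero_or_pos s with rfl | h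
          · rw [pow_zero, one_mul] at hto'; exact absurd (hto' ▸ ht) ho'
          · exact h
        obtain ⟨s', rfl⟩ : ∃ s', s = s' + 1 := ⟨s - 1, by omega⟩
        obtain ⟨e, rfl⟩ : ∃ e, m = s' + 1 + (e + 1) := ⟨m - (s' + 1) - 1, by omega⟩
        set j₀ : ℤ := 2 ^ (e + 1)
        refine finish (b ^ j₀ * a ^ (-o')) b ?_ ?_
        · rw [eq_top_iff, ← hgen, closure_le]
          set C := closure ({b ^ j₀ * a ^ (-o'), b} : Set S)
          have hx : b ^ j₀ * a ^ (-o') ∈ C := subset_closure (by simp)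
          have hb : b ∈ C := subset_closure (by simp)
          have hao : a ^ o' ∈ C := by
            have := inv_mem (mul_mem (inv_mem (zpow_mem hb j₀)) hx)
            simpa using this
          rintro g (rfl | rfl)
          · have hcop : IsCoprime o' ((2 : ℤ) ^ ν) :=
              (((Int.prime_two.coprime_iff_not_dvd).2 ho').symm).pow_right
            obtain ⟨α, β, hαβ⟩ := hcop
            have hval : g ^ (o' * α) = g := by
              conv_rhs => rw [← zpow_one g, ← hαβ, zpow_add, (ha2 _).2 (dvd_mul_left _ β), mul_one, mul_comm α]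
            show g ∈ C
            rw [← hval, zpow_mul]
            exact zpow_mem hao α
          · exact hb
        · have hp := mul_self_pow hab (hzcm a) (hzcm b) hz2 (-o') j₀ (2 ^ s')
          have hje : (2 : ℤ) ∣ -o' * j₀ * ((2 ^ s' : ℕ) : ℤ) :=
            dvd_mul_of_dvd_left (dvd_mul_of_dvd_right (dvd_pow_self 2 e.succ_ne_zero) _) _
          rw [(hzpar _).2 hje, mul_one,
            show j₀ * (2 * ((2 ^ s' : ℕ) : ℤ)) = 2 ^ (s' + 1 + (e + 1)) by
              push_cast; simp only [j₀, pow_add, pow_succ, pow_zero]; ring,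
            htu, mul_assoc, ((hzcm _).zpow_left u).eq, ← mul_assoc, ← zpow_add,
            show t + -o' * (2 * ((2 ^ s' : ℕ) : ℤ)) = 0 by
              rw [hto']; push_cast; simp only [pow_add, pow_succ, pow_zero]; ring,
            zpow_zero, one_mul, hzodd u hu] at hp
          rw [← hp]; exact pow_mem (mem_zpowers _) _

end Cfsg.Agent.FGS82.Meta2
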