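import Mathlib
import Cfsg.Agent.Lib.NumberTheory.Zsigmondy

/-! A lower bound for the primitive part of `q ^ e - 1`. -/

set_option autoImplicit false

namespace Cfsg.Agent.FGS82.PrimPart

open Cfsg.Agent.NumberTheory

/-- remove from `N` what it shares with the members of a list -/
def strip (N : ℕ) (l : List ℕ) : ℕ := l.foldl (fun M d => M / Nat.gcd M d) N

theorem dvd_strip {m : ℕ} (hm : 0 < m) : ∀ (l : List ℕ) (N : ℕ), m ∣ N →
    (∀ d ∈ l, Nat.Coprime m d) → m ∣ strip N l := by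
  intro l
  induction l with
  | nil => intro N h _; exact h
  | cons d l ih =>
    intro N h hd
    refine ih _ ?_ fun x hx => hd x (List.mem_cons_of_mem _ hx)
    have hg : Nat.gcd N d ∣ N := Nat.gcd_dvd_left N d
    have hc : Nat.Coprime m (Nat.gcd N d) :=
      (hd d List.mem_cons_self).coprime_dvd_right (Nat.gcd_dvd_right N d)
    refine hc.dvd_of_dvd_mul_right ?_
    rwa [Nat.div_mul_cancel hg]

/-- the proper predecessors -/
def lower (q e : ℕ) : List ℕ := (List.range e).tail.map fun i => q ^ i - 1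

/-- a computable primitive part -/
def wit (q e : ℕ) : ℕ :=
  strip (q ^ e - 1) (lower q e ++ lower q e ++ lower q e ++ lower q e)

/-- a computable check -/
def check (q e : ℕ) : Bool :=
  decide ((q ^ e - 1) % wit q e = 0) && decide (3 * e + 1 ≤ wit q e) &&
    (lower q e).all fun d => decide (Nat.gcd (wit q e) d = 1)

theorem mem_lower {q e d : ℕ} : d ∈ lower q e ↔ ∃ i, 1 ≤ i ∧ i < e ∧ q ^ i - 1 = d := by
  rcases e with _ | e
  · simp [lower]
  · rw [lower, List.range_succ_eq_map, List.tail_cons, List.map_map, List.mem_map]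
    constructor
    · rintro ⟨i, hi, rfl⟩
      exact ⟨i + 1, by omega, by simpa using List.mem_range.1 hi, rfl⟩
    · rintro ⟨i, h1, h2, rfl⟩
      exact ⟨i - 1, List.mem_range.2 (by omega), by simp [show i - 1 + 1 = i by omega]⟩

/-- the existence statement -/
def Good (q e : ℕ) : Prop :=
  ∃ m : ℕ, m ∣ q ^ e - 1 ∧ (∀ i : ℕ, 1 ≤ i → i < e → Nat.Coprime m (q ^ i - 1)) ∧ 3 * e + 1 ≤ m

theorem good_of_check {q e : ℕ} (h : check q e = true) : Good q e := by
  simp only [check, Bool.and_eq_true, List.all_eq_true, decide_eq_true_eq] at h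
  exact ⟨wit q e, Nat.dvd_of_mod_eq_zero h.1.1,
    fun i h1 h2 => h.2 _ (mem_lower.2 ⟨i, h1, h2, rfl⟩), h.1.2⟩

/-- the thirteen exceptional pairs -/
def exc : List (ℕ × ℕ) :=
  [(2, 6), (2, 4), (2, 10), (2, 12), (2, 18), (3, 4), (3, 6), (5, 6), (2, 3), (2, 8), (2, 20), (4, 3), (4, 6)]

theorem exc_bound : ∀ x ∈ exc, wit x.1 x.2 ≠ 0 ∧ wit x.1 x.2 ≤ 2 * x.2 + 1 := by decide +kernel

theorem le_of_exc {q e m : ℕ} (h : (q, e) ∈ exc) (hd : m ∣ q ^ e - 1)
    (hc : ∀ i : ℕ, 1 ≤ i → i < e → Nat.Coprime m (q ^ i - 1)) : m ≤ 2 * e + 1 := by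
  obtain ⟨h0, hle⟩ := exc_bound _ h
  rcases Nat.eq_zero_or_pos m with rfl | hm
  · exact Nat.zero_le _
  refine le_trans (Nat.le_of_dvd (Nat.pos_of_ne_zero h0) ?_) hle
  refine dvd_strip hm _ _ hd fun d hmem => ?_
  simp only [List.mem_append, or_self, mem_lower] at hmem
  obtain ⟨i, h1, h2, rfl⟩ := hmem
  exact hc i h1 h2

/-- small cases -/
theorem small_check : ∀ q ∈ [2, 3, 4, 5, 6, 7], ∀ e ∈ [3, 4, 5, 6, 7, 8, 9, 10, 11, 12, 13, 14,
    15, 16, 18, 20, 21, 22, 24, 26, 28, 30, 42], (q, e) ∈ exc ∨ check q e = true := by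
  decide +kernel

theorem good_small {q e : ℕ} (hq : q ∈ [2, 3, 4, 5, 6, 7])
    (he : e ∈ [3, 4, 5, 6, 7, 8, 9, 10, 11, 12, 13, 14, 15, 16, 18, 20, 21, 22, 24, 26, 28, 30, 42])
    (hexc : (q, e) ∉ exc) : Good q e :=
  good_of_check ((small_check q hq e he).resolve_left hexc)

theorem good_of_large {q e R : ℕ} (hq : 2 ≤ q) (he : 2 < e) (hR : R.Prime) (hRe : R ∣ e)
    (hmax : ∀ r : ℕ, r.Prime → r ∣ e → r ≤ R) (h : R * (3 * e + 1) ≤ Phi e q) : Good q e := by
  have hother : ∀ r : ℕ, r.Prime → r ∣ Phi e q → r ∣ e → r = R := fun r hr hrP hre =>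
    le_antisymm (hmax r hr hre) (le_of_prime_dvd_Phi (by omega) hr hR hre hrP hRe)
  obtain ⟨m, hmP, hmR, hmle⟩ : ∃ m, m ∣ Phi e q ∧ ¬ R ∣ m ∧ 3 * e + 1 ≤ m := by
    by_cases hd : R ∣ Phi e q
    · refine ⟨Phi e q / R, Nat.div_dvd_of_dvd hd, fun h2 => sq_not_dvd_Phi' he hR hRe hd ?_, ?_⟩
      · rw [pow_two]; exact (Nat.dvd_div_iff_mul_dvd hd).1 h2
      · rw [Nat.le_div_iff_mul_le hR.pos, mul_comm]; exact h
    · exact ⟨Phi e q, dvd_rfl, hd, le_trans (Nat.le_mul_of_pos_left _ hR.pos) h⟩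
  refine ⟨m, hmP.trans (Phi_dvd e (by omega)), fun i h1 h2 => ?_, hmle⟩
  rw [Nat.coprime_iff_gcd_eq_one]
  by_contra hne
  obtain ⟨r, hr, hrd⟩ := Nat.exists_prime_and_dvd hne
  have hrm := hrd.trans (Nat.gcd_dvd_left m (q ^ i - 1))
  have hre : ¬ r ∣ e := fun hre => hmR (hother r hr (hrm.trans hmP) hre ▸ hrm)
  exact (isPrimitivePrimeDivisor_of_dvd_Phi hr (by omega) (by omega) hre (hrm.trans hmP)).2.2 i
    (by omega) h2 (hrd.trans (Nat.gcd_dvd_right _ _))

theorem phi_six (c : ℕ) (hc : 2 ≤ c) : Phi 6 c + c = c * c + 1 := by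
  have h := Phi_mul_prime (r := 3) (m := 2) Nat.prime_three (by norm_num) c
  rw [Phi_two, Phi_two] at h
  norm_num at h
  obtain ⟨d, rfl⟩ : ∃ d, c = d + 1 := ⟨c - 1, by omega⟩
  have : Phi 6 (d + 1) * (d + 1 + 1) = (d * d + d + 1) * (d + 1 + 1) := by rw [h]; ring
  have := Nat.eq_of_mul_eq_mul_right (by omega) this
  nlinarith

theorem phi_three (c : ℕ) : Phi 3 c = c * c + c + 1 := by
  simp only [Phi, Polynomial.cyclotomic_three, Polynomial.eval_add, Polynomial.eval_pow,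
    Polynomial.eval_X, Polynomial.eval_one]
  rw [show ((c : ℤ) ^ 2 + c + 1) = ((c * c + c + 1 : ℕ) : ℤ) by push_cast; ring, Int.natAbs_natCast]

theorem good_two {q : ℕ} (hq : 2 ≤ q) (j : ℕ) (hj : 1 ≤ j) (hexc : (q, 2 ^ (j + 1)) ∉ exc) :
    Good q (2 ^ (j + 1)) := by
  rcases (show j ≤ 2 ∧ q < 8 ∨ 3 ≤ j ∨ j ≤ 2 ∧ 8 ≤ q by omega) with ⟨hj2, hq8⟩ | hj3 | ⟨hj2, hq8⟩
  · interval_cases j <;> interval_cases q <;> exact good_small (by decide) (by decide) hexc
  all_goals
    refine good_of_large (R := 2) hq ?_ Nat.prime_two (dvd_pow_self 2 j.succ_ne_zero)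
      (fun r hr hd => ((Nat.prime_dvd_prime_iff_eq hr Nat.prime_two).1 (hr.dvd_of_dvd_pow hd)).le) ?_
  · have := Nat.pow_le_pow_right (n := 2) two_pos (show 2 ≤ j + 1 by omega); omega
  · have e : Phi (2 ^ (j + 1)) q = q ^ 2 ^ j + 1 := by
      have h := Phi_pow_mul (m := 1) (a := q) Nat.prime_two j
      simp only [mul_one, Phi_two] at h
      exact h
    rw [e, pow_succ]
    have h8 : (8 : ℕ) ≤ 2 ^ j := le_trans (by norm_num) (Nat.pow_le_pow_right two_pos hj3)
    have := mul_lt_pow (B := 2) (C := 13) le_rfl (x₀ := 8) (by norm_num) (by norm_num) (x := 2 ^ j) h8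
    have := Nat.pow_le_pow_left hq (2 ^ j)
    omega
  · have := Nat.pow_le_pow_right (n := 2) two_pos (show 2 ≤ j + 1 by omega); omega
  · have e : Phi (2 ^ (j + 1)) q = q ^ 2 ^ j + 1 := by
      have h := Phi_pow_mul (m := 1) (a := q) Nat.prime_two j
      simp only [mul_one, Phi_two] at h
      exact h
    rw [e, pow_succ]
    have h1 : (8 : ℕ) ^ 2 ^ j ≤ q ^ 2 ^ j := Nat.pow_le_pow_left hq8 _
    interval_cases j <;> norm_num at h1 ⊢ <;> omega

theorem good_three {q : ℕ} (hq : 2 ≤ q) (j m : ℕ) (hm : ∃ i, m = 2 ^ i)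
    (hexc : (q, 3 ^ (j + 1) * m) ∉ exc) : Good q (3 ^ (j + 1) * m) := by
  obtain ⟨i, rfl⟩ := hm
  have hmax : ∀ r : ℕ, r.Prime → r ∣ 3 ^ (j + 1) * 2 ^ i → r ≤ 3 := fun r hr hd => by
    rcases hr.dvd_mul.1 hd with h | h
    · exact ((Nat.prime_dvd_prime_iff_eq hr Nat.prime_three).1 (hr.dvd_of_dvd_pow h)).le
    · have := (Nat.prime_dvd_prime_iff_eq hr Nat.prime_two).1 (hr.dvd_of_dvd_pow h); omega
  have h3d : 3 ∣ 3 ^ (j + 1) * 2 ^ i := dvd_mul_of_dvd_left (dvd_pow_self 3 j.succ_ne_zero) _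
  rcases i with _ | i
  · simp only [pow_zero, mul_one] at *
    rcases (show j ≤ 1 ∧ q < 8 ∨ 2 ≤ j ∨ j ≤ 1 ∧ 8 ≤ q by omega) with ⟨h1, h2⟩ | hj2 | ⟨h1, h2⟩
    · interval_cases j <;> interval_cases q <;> exact good_small (by decide) (by decide) hexc
    all_goals
      refine good_of_large (R := 3) hq ?_ Nat.prime_three h3d hmax ?_
    · have := Nat.pow_le_pow_right (n := 3) (by norm_num) (show 1 ≤ j + 1 by omega); omega
    · have e : Phi (3 ^ (j + 1)) q = Phi 3 (q ^ 3 ^ j) := by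
        have h := Phi_pow_mul (m := 1) (a := q) Nat.prime_three j
        simpa using h
      rw [e, phi_three, pow_succ]
      have h9 : (9 : ℕ) ≤ 3 ^ j := le_trans (by norm_num) (Nat.pow_le_pow_right (by norm_num) hj2)
      have := mul_lt_pow (B := 2) (C := 28) le_rfl (x₀ := 9) (by norm_num) (by norm_num) (x := 3 ^ j) h9
      have := Nat.pow_le_pow_left hq (3 ^ j)
      have := Nat.le_mul_self (q ^ 3 ^ j)
      omega
    · have := Nat.pow_le_pow_right (n := 3) (by norm_num) (show 1 ≤ j + 1 by omega); omega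
    · have e : Phi (3 ^ (j + 1)) q = Phi 3 (q ^ 3 ^ j) := by
        have h := Phi_pow_mul (m := 1) (a := q) Nat.prime_three j
        simpa using h
      rw [e, phi_three, pow_succ]
      have h8 : (8 : ℕ) ^ 3 ^ j ≤ q ^ 3 ^ j := Nat.pow_le_pow_left h2 _
      have := Nat.mul_le_mul h8 h8
      interval_cases j <;> norm_num at this h8 ⊢ <;> omega
  · set t := 3 ^ j * 2 ^ i with ht
    have hn6 : 3 ^ (j + 1) * 2 ^ (i + 1) = 6 * t := by rw [ht]; ring
    have hPhi : Phi (3 ^ (j + 1) * 2 ^ (i + 1)) q = Phi 6 (q ^ t) := by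
      rw [mul_comm, Phi_pow_mul Nat.prime_two i, mul_comm 2, Phi_pow_mul Nat.prime_three j, ← pow_mul]
      rw [show 2 ^ i * 3 ^ j = t by rw [ht]; ring]
    have ht1 : 1 ≤ t := by rw [ht]; exact Nat.mul_pos (pow_pos (by norm_num) _) (pow_pos two_pos _)
    rw [hn6] at hexc hPhi hmax h3d ⊢
    rcases (show t ≤ 4 ∧ q < 8 ∨ 5 ≤ t ∨ t ≤ 4 ∧ 8 ≤ q by omega) with ⟨h1, h2⟩ | h5 | ⟨h1, h2⟩
    · clear_value t
      interval_cases t <;> interval_cases q <;> exact good_small (by decide) (by decide) hexc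
    all_goals
      refine good_of_large (R := 3) hq (by omega) Nat.prime_three h3d hmax ?_
      rw [hPhi]
      have hc : 2 ≤ q ^ t := le_trans hq (Nat.le_self_pow (by omega) q)
      have hv := phi_six _ hc
    · have := mul_lt_pow (B := 2) (C := 6) le_rfl (x₀ := 5) (by norm_num) (by norm_num) (x := t) h5
      have := Nat.pow_le_pow_left hq t
      have h10 : 12 * q ^ t ≤ q ^ t * q ^ t := Nat.mul_le_mul_right _ (by omega)
      omega
    · have h8 : (8 : ℕ) ^ t ≤ q ^ t := Nat.pow_le_pow_left h2 _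
      have h10 : 8 * q ^ t ≤ q ^ t * q ^ t :=
        Nat.mul_le_mul_right _ (le_trans (Nat.le_self_pow (by omega) 8) h8)
      clear_value t
      interval_cases t <;> norm_num at h8 hv h10 ⊢ <;> omega

theorem good_five {q R : ℕ} (hq : 2 ≤ q) (hR : R.Prime) (hR5 : 5 ≤ R) (j m : ℕ) (hm : ¬ R ∣ m)
    (hm0 : 0 < m) (hlt : ∀ p : ℕ, p.Prime → p ∣ m → p < R)
    (hexc : (q, R ^ (j + 1) * m) ∉ exc) : Good q (R ^ (j + 1) * m) := by
  have hmax : ∀ r : ℕ, r.Prime → r ∣ R ^ (j + 1) * m → r ≤ R := fun r hr hd => by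
    rcases hr.dvd_mul.1 hd with h | h
    · exact ((Nat.prime_dvd_prime_iff_eq hr hR).1 (hr.dvd_of_dvd_pow h)).le
    · exact (hlt r hr h).le
  have he : 2 < R ^ (j + 1) * m := by
    have h1 : R ≤ R ^ (j + 1) := Nat.le_self_pow j.succ_ne_zero R
    have h2 : R ^ (j + 1) ≤ R ^ (j + 1) * m := Nat.le_mul_of_pos_right _ hm0
    omega
  set φ := m.totient with hφ
  set x := R ^ j * φ with hx
  have hφ1 : 0 < φ := Nat.totient_pos.2 hm0
  have hx1 : 1 ≤ x := Nat.mul_pos (pow_pos hR.pos _) hφ1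
  have hb := pow_le_Phi hR (by omega) hm (a := q) (by omega) j
  rw [← hφ, show R ^ j * (R - 2) * φ = (R - 2) * x by rw [hx]; ring, pow_mul] at hb
  -- a sufficient inequality
  have hsuff : 3 * R ^ 3 * x < (q ^ (R - 2)) ^ x → Good q (R ^ (j + 1) * m) := by
    intro hlt'
    refine good_of_large hq he hR (dvd_mul_of_dvd_left (dvd_pow_self R j.succ_ne_zero) _) hmax ?_
    have hmle : m ≤ (R - 1) * φ := le_mul_totient hlt (by omega)
    have h1 : R ^ (j + 1) * m ≤ R * (R - 1) * x := by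
      calc R ^ (j + 1) * m ≤ R ^ (j + 1) * ((R - 1) * φ) := Nat.mul_le_mul_left _ hmle
        _ = R * (R - 1) * x := by rw [hx]; ring
    obtain ⟨s, rfl⟩ : ∃ s, R = s + 1 := ⟨R - 1, by omega⟩
    simp only [Nat.add_sub_cancel] at h1
    have h2 := Nat.mul_le_mul_left (3 * (s + 1)) h1
    nlinarith [Nat.mul_le_mul_left ((s + 1) * (s + 1)) hx1, Nat.mul_le_mul_left (3 * (s + 1)) hx1]
  have hB : ∀ q₀ x₀, q₀ ≤ q → 0 < x₀ → 3 * R ^ 3 * x₀ < (q₀ ^ (R - 2)) ^ x₀ → 2 ≤ q₀ →
      x₀ ≤ x → Good q (R ^ (j + 1) * m) := by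
    intro q₀ x₀ hq0 hx0 hlt' h2 hxx
    have h2' : 2 ≤ q₀ ^ (R - 2) := le_trans h2 (Nat.le_self_pow (by omega) q₀)
    exact hsuff ((mul_lt_pow h2' hx0 hlt' hxx).trans_le
      (Nat.pow_le_pow_left (Nat.pow_le_pow_left hq0 _) _))
  by_cases h17 : 17 ≤ R
  · refine hB 2 1 hq one_pos ?_ le_rfl hx1
    rw [mul_one, pow_one]
    rcases (show R < 19 ∨ 19 ≤ R by omega) with h | h
    · obtain rfl | rfl : R = 17 ∨ R = 18 := by omega
      · norm_num
      · norm_num at hR
    · obtain ⟨s, rfl⟩ : ∃ s, R = s + 19 := ⟨R - 19, by omega⟩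
      rw [show s + 19 - 2 = s + 17 by omega]
      clear * -
      induction s with
      | zero => norm_num
      | succ s ih =>
        rw [show s + 1 + 17 = s + 17 + 1 by omega, pow_succ 2 (s + 17)]
        have : (s + 1 + 19) ^ 3 ≤ 2 * (s + 19) ^ 3 := by
          ring_nf
          nlinarith [Nat.zero_le (s ^ 2), Nat.zero_le (s ^ 3)]
        omega
  push Not at h17
  obtain hR' | hR' | hR' | hR' : R = 5 ∨ R = 7 ∨ R = 11 ∨ R = 13 := by
    interval_cases R <;> first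
      | omega
      | exact absurd hR (by decide)
  all_goals subst hR'
  · rcases (show 4 ≤ x ∨ x < 4 ∧ 8 ≤ q ∨ x < 4 ∧ q < 8 by omega) with h | ⟨_, h8⟩ | ⟨h4, h8⟩
    · exact hB 2 4 hq (by norm_num) (by norm_num) le_rfl h
    · exact hB 8 1 h8 one_pos (by norm_num) (by norm_num) hx1
    · have hj : j = 0 := by
        by_contra hj
        have h5 : 5 ≤ 5 ^ j := Nat.le_self_pow hj 5
        have : 5 ^ j ≤ x := hx ▸ Nat.le_mul_of_pos_right _ hφ1
        omega
      subst hj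
      have hφ4 : φ < 4 := by simpa [hx] using h4
      have hmb : m ≤ 12 := by have := le_mul_totient hlt (R := 5) (by norm_num); omega
      rw [hφ] at hφ4
      interval_cases m <;> first
        | (exact absurd hφ4 (by decide))
        | (exfalso; norm_num at hm; done)
        | (exfalso; have h7 := hlt 7; norm_num at h7; done)
        | (exfalso; have h11 := hlt 11; norm_num at h11; done)
        | (interval_cases q <;> exact good_small (by decide) (by decide) hexc)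
  · rcases (show 3 ≤ x ∨ x < 3 ∧ 8 ≤ q ∨ x < 3 ∧ q < 8 by omega) with h | ⟨_, h8⟩ | ⟨h4, h8⟩
    · exact hB 2 3 hq (by norm_num) (by norm_num) le_rfl h
    · exact hB 8 1 h8 one_pos (by norm_num) (by norm_num) hx1
    · have hj : j = 0 := by
        by_contra hj
        have h5 : 7 ≤ 7 ^ j := Nat.le_self_pow hj 7
        have : 7 ^ j ≤ x := hx ▸ Nat.le_mul_of_pos_right _ hφ1
        omega
      subst hj
      have hφ4 : φ < 3 := by simpa [hx] using h4
      have hmb : m ≤ 12 := by have := le_mul_totient hlt (R := 7) (by norm_num); omega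
      rw [hφ] at hφ4
      interval_cases m <;> first
        | (exact absurd hφ4 (by decide))
        | (exfalso; norm_num at hm; done)
        | (exfalso; have h11 := hlt 11; norm_num at h11; done)
        | (interval_cases q <;> exact good_small (by decide) (by decide) hexc)
  all_goals
    rcases (show 2 ≤ x ∨ x < 2 ∧ 3 ≤ q ∨ x < 2 ∧ q < 3 by omega) with h | ⟨_, h8⟩ | ⟨h4, h8⟩
    · exact hB 2 2 hq (by norm_num) (by norm_num) le_rfl h
    · exact hB 3 1 h8 one_pos (by norm_num) (by norm_num) hx1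
    · have hj : j = 0 := by
        by_contra hj
        first
          | (have h5 : 11 ≤ 11 ^ j := Nat.le_self_pow hj 11
             have : 11 ^ j ≤ x := hx ▸ Nat.le_mul_of_pos_right _ hφ1
             omega)
          | (have h5 : 13 ≤ 13 ^ j := Nat.le_self_pow hj 13
             have : 13 ^ j ≤ x := hx ▸ Nat.le_mul_of_pos_right _ hφ1
             omega)
      subst hj
      have hφ4 : φ < 2 := by simpa [hx] using h4
      rw [hφ] at hφ4
      have hm1 : m = 1 ∨ m = 2 := Nat.totient_eq_one_iff.1 (by omega)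
      rcases hm1 with rfl | rfl <;> interval_cases q <;> exact good_small (by decide) (by decide) hexc

theorem good {q e : ℕ} (hq : 2 ≤ q) (he : 3 ≤ e) (hexc : (q, e) ∉ exc) : Good q e := by
  obtain ⟨R, hRmem, hRmax⟩ : ∃ R ∈ e.primeFactors, ∀ p ∈ e.primeFactors, p ≤ R := by
    obtain ⟨p, hp, hpd⟩ := Nat.exists_prime_and_dvd (show e ≠ 1 by omega)
    have hne : e.primeFactors.Nonempty := ⟨p, Nat.mem_primeFactors.2 ⟨hp, hpd, by omega⟩⟩
    exact ⟨_, Finset.max'_mem _ hne, fun p hp => Finset.le_max' _ p hp⟩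
  obtain ⟨hR, hRe, -⟩ := Nat.mem_primeFactors.1 hRmem
  obtain ⟨j, m, rfl, hm, hm0⟩ := exists_pow_mul hR (by omega) hRe
  have hlt : ∀ p : ℕ, p.Prime → p ∣ m → p < R := fun p hp hpm =>
    lt_of_le_of_ne (hRmax p (Nat.mem_primeFactors.2 ⟨hp, dvd_mul_of_dvd_right hpm _, by omega⟩))
      (by rintro rfl; exact hm hpm)
  rcases (show R = 2 ∨ R = 3 ∨ R = 4 ∨ 5 ≤ R by have := hR.two_le; omega) with rfl | rfl | rfl | h5
  · obtain rfl : m = 1 := by
      by_contra h
      obtain ⟨p, hp, hpm⟩ := Nat.exists_prime_and_dvd h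
      have := hlt p hp hpm; have := hp.two_le; omega
    rw [mul_one] at *
    refine good_two hq j (Nat.pos_of_ne_zero fun h => ?_) hexc
    rw [h] at he; norm_num at he
  · refine good_three hq j m ?_ hexc
    rcases Nat.exists_eq_pow_mul_and_not_dvd hm0.ne' 2 (by norm_num) with ⟨i, u, hu, rfl⟩
    refine ⟨i, ?_⟩
    rcases eq_or_ne u 1 with rfl | hu1
    · rw [mul_one]
    obtain ⟨p, hp, hpu⟩ := Nat.exists_prime_and_dvd hu1
    have := hlt p hp (dvd_mul_of_dvd_right hpu _)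
    have := hp.two_le
    obtain rfl : p = 2 := by omega
    exact absurd hpu hu
  · norm_num at hR
  · exact good_five hq hR h5 j m hm hm0 hlt hexc

end Cfsg.Agent.FGS82.PrimPart
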